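import Cfsg.Agent.H38.JFour.Pairs

/-!
The data `Pairs` from two orbits and the six blocks at one element `z` outside `N`.
-/

set_option autoImplicit false

namespace Cfsg.Agent.H38.JFour

variable {V : Type*} [CommGroup V]

/-- Six blocks at `z`. -/
structure Blocks (Γ : Subgroup (MulAut V)) where
  N : Set V
  z : V
  P : Fin 6 → Subgroup V
  sq : ∀ v : V, v * v = 1
  card_V : Nat.card V = 2048
  card_N : N.ncard = 276
  one_N : (1 : V) ∉ N
  z_ne : z ≠ 1
  z_N : z ∉ N
  inv : ∀ g ∈ Γ, ∀ v ∈ N, g v ∈ N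
  card_dvd : 27202560 ∣ Nat.card Γ
  trans_N : ∀ s ∈ N, ∀ t ∈ N, ∃ g ∈ Γ, g s = t
  trans_Z : ∀ v : V, v ≠ 1 → v ∉ N → ∃ g ∈ Γ, g v = z
  card_P : ∀ i, Nat.card (P i) = 8
  z_P : ∀ i, z ∈ P i
  P_inter : ∀ i j, i ≠ j → ∀ v, v ∈ P i → v ∈ P j → v = 1 ∨ v = z
  pairs : ∀ v : V, v ≠ 1 → v ≠ z → ((v ∈ N ∧ v * z ∈ N) ↔ ∃ i, v ∈ P i)
  cross : ∀ i j, i ≠ j → ∀ s ∈ P i, ∀ t ∈ P j, s ∈ N → t ∈ N → s * t ∉ N

namespace Blocks

variable {Γ : Subgroup (MulAut V)} (D : Blocks Γ)
include D

theorem cancel (a b : V) : a * (a * b) = b := by rw [← mul_assoc, D.sq, one_mul]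

theorem ne_one {v : V} (h : v ∈ D.N) : v ≠ 1 := fun e => D.one_N (e ▸ h)

theorem ne_z {v : V} (h : v ∈ D.N) : v ≠ D.z := fun e => D.z_N (e ▸ h)

theorem inv' {g : MulAut V} (hg : g ∈ Γ) {v : V} : g v ∈ D.N ↔ v ∈ D.N := by
  refine ⟨fun h => ?_, D.inv g hg v⟩
  have := D.inv g⁻¹ (Γ.inv_mem hg) _ h
  rwa [← MulAut.mul_apply, inv_mul_cancel, MulAut.one_apply] at this

/-- The pairs with product `c`. -/
def Fib (c : V) : Set V := {v | v ∈ D.N ∧ c * v ∈ D.N}

theorem mem_fib_z {v : V} : v ∈ D.Fib D.z ↔ v ≠ 1 ∧ v ≠ D.z ∧ ∃ i, v ∈ D.P i := by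
  show v ∈ D.N ∧ _ ↔ _
  rw [mul_comm D.z v]
  constructor
  · intro h
    exact ⟨D.ne_one h.1, D.ne_z h.1, (D.pairs v (D.ne_one h.1) (D.ne_z h.1)).1 h⟩
  · rintro ⟨h1, h2, h⟩
    exact (D.pairs v h1 h2).2 h

section finite

variable [Finite V]

theorem fib_z_card : (D.Fib D.z).ncard = 36 := by
  classical
  let iV := Fintype.ofFinite V
  have e : (D.Fib D.z).toFinset =
      Finset.univ.biUnion fun i => ((D.P i : Set V) \ {1, D.z}).toFinset := by
    ext v
    simp only [Set.mem_toFinset, D.mem_fib_z, Finset.mem_biUnion, Finset.mem_univ, true_and,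
      Set.mem_sdiff, Set.mem_insert_iff, Set.mem_singleton_iff, not_or, SetLike.mem_coe]
    tauto
  rw [Set.ncard_eq_toFinset_card', e, Finset.card_biUnion, Finset.sum_congr rfl (g := fun _ => 6)]
  · rw [Finset.sum_const, Finset.card_univ, Fintype.card_fin]; rfl
  · intro i _
    rw [← Set.ncard_eq_toFinset_card', Set.ncard_sdiff (by
      intro x hx; rcases hx with rfl | rfl; exacts [one_mem _, D.z_P i]),
      Set.ncard_pair (Ne.symm D.z_ne), ← Nat.card_coe_set_eq, SetLike.coe_sort_coe, D.card_P]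
  · intro i _ j _ hij
    simp only [Function.onFun, Finset.disjoint_left, Set.mem_toFinset, Set.mem_sdiff,
      Set.mem_insert_iff, Set.mem_singleton_iff, not_or, SetLike.mem_coe]
    rintro v ⟨hi, h1, h2⟩ ⟨hj, -⟩
    rcases D.P_inter i j hij v hi hj with h | h
    exacts [h1 h, h2 h]

theorem fib_card {c : V} (h1 : c ≠ 1) (hN : c ∉ D.N) : (D.Fib c).ncard = 36 := by
  obtain ⟨g, hg, hgc⟩ := D.trans_Z c h1 hN
  rw [← D.fib_z_card, ← Set.ncard_image_of_injective (D.Fib c) g.injective]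
  congr 1
  ext v
  constructor
  · rintro ⟨w, hw, rfl⟩
    exact ⟨D.inv g hg w hw.1, by rw [← hgc, ← map_mul]; exact D.inv g hg _ hw.2⟩
  · intro hv
    refine ⟨g.symm v, ⟨?_, ?_⟩, g.apply_symm_apply v⟩
    · rw [← D.inv' hg, g.apply_symm_apply]; exact hv.1
    · rw [← D.inv' hg, map_mul, hgc, g.apply_symm_apply]; exact hv.2

theorem valency {t : V} (ht : t ∈ D.N) : {u | u ∈ D.N ∧ t * u ∈ D.N}.ncard = 44 := by
  classical
  let iV := Fintype.ofFinite V
  set A : Finset V := D.N.toFinset with hA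
  set Z : Finset V := Finset.univ.filter fun v => v ≠ 1 ∧ v ∉ D.N with hZ
  have hAc : A.card = 276 := by rw [hA, ← Set.ncard_eq_toFinset_card', D.card_N]
  have hZc : Z.card = 1771 := by
    have he : Z = (insert 1 A)ᶜ := by ext v; simp [hZ, hA]
    rw [he, Finset.card_compl, Finset.card_insert_of_notMem (by simp [hA, D.one_N]), hAc,
      ← Nat.card_eq_fintype_card, D.card_V]
  have hb : ∀ c ∈ Z, (A.bipartiteBelow (fun a c => c * a ∈ D.N) c).card = 36 := fun c hc => by
    simp only [hZ, Finset.mem_filter, Finset.mem_univ, true_and] at hc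
    rw [← D.fib_card hc.1 hc.2, Set.ncard_eq_toFinset_card']
    congr 1
    ext v
    simp only [Finset.bipartiteBelow, Finset.mem_filter, hA, Set.mem_toFinset]
    exact Iff.rfl
  set f : V → ℕ := fun a => (Z.bipartiteAbove (fun a c => c * a ∈ D.N) a).card with hf
  have hf0 : ∀ a ∈ A, f a = f t := fun a ha => by
    rw [hA, Set.mem_toFinset] at ha
    obtain ⟨g, hg, hga⟩ := D.trans_N a ha t ht
    rw [hf]
    simp only
    rw [← Finset.card_image_of_injective _ g.injective]
    congr 1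
    ext v
    simp only [Finset.bipartiteAbove, hZ, Finset.mem_image, Finset.mem_filter, Finset.mem_univ,
      true_and]
    constructor
    · rintro ⟨w, ⟨⟨h1, h2⟩, h3⟩, rfl⟩
      exact ⟨⟨fun h => h1 (g.injective (by rw [h, map_one])), fun h => h2 ((D.inv' hg).1 h)⟩,
        by rw [← hga, ← map_mul]; exact D.inv g hg _ h3⟩
    · rintro ⟨⟨h1, h2⟩, h3⟩
      refine ⟨g.symm v, ⟨⟨fun h => h1 ?_, fun h => h2 ?_⟩, ?_⟩, g.apply_symm_apply v⟩
      · rw [← g.apply_symm_apply v, h, map_one]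
      · rw [← g.apply_symm_apply v]; exact D.inv g hg _ h
      · rw [← D.inv' hg, map_mul, hga, g.apply_symm_apply]; exact h3
  have hdc := Finset.sum_card_bipartiteAbove_eq_sum_card_bipartiteBelow
    (fun a c => c * a ∈ D.N) (s := A) (t := Z)
  rw [Finset.sum_congr rfl hb, Finset.sum_congr rfl hf0, Finset.sum_const, Finset.sum_const,
    hAc, hZc, smul_eq_mul, smul_eq_mul] at hdc
  have hNb : {u | u ∈ D.N ∧ t * u ∈ D.N}.ncard + f t = 275 := by
    have e : (A.erase t).filter (fun u => t * u ∉ D.N) =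
        (Z.bipartiteAbove (fun a c => c * a ∈ D.N) t).image (fun c => c * t) := by
      ext u
      simp only [Finset.bipartiteAbove, hZ, hA, Finset.mem_image, Finset.mem_filter,
        Finset.mem_univ, true_and, Finset.mem_erase, Set.mem_toFinset]
      constructor
      · rintro ⟨⟨hne, hu⟩, hn⟩
        refine ⟨t * u, ⟨⟨fun h => hne ?_, hn⟩, ?_⟩, ?_⟩
        · rw [← D.cancel t u, h, mul_one]
        · rwa [mul_comm, D.cancel]
        · rw [mul_comm, D.cancel]
      · rintro ⟨c, ⟨⟨h1, h2⟩, h3⟩, rfl⟩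
        exact ⟨⟨fun h => h1 (mul_eq_right.1 h), h3⟩, by rw [mul_comm c, D.cancel]; exact h2⟩
    have h := Finset.card_filter_add_card_filter_not (s := A.erase t) (fun u => t * u ∈ D.N)
    rw [e, Finset.card_image_of_injective _ (mul_left_injective t),
      Finset.card_erase_of_mem (by simp [hA, ht]), hAc] at h
    rw [Set.ncard_eq_toFinset_card']
    have e2 : {u | u ∈ D.N ∧ t * u ∈ D.N}.toFinset =
        (A.erase t).filter (fun u => t * u ∈ D.N) := by
      ext u
      simp only [hA, Set.mem_toFinset, Set.mem_ofPred_eq, Finset.mem_filter, Finset.mem_erase]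
      exact ⟨fun h => ⟨⟨fun e => D.one_N (by have := h.2; rwa [e, D.sq] at this), h.1⟩, h.2⟩,
        fun h => ⟨h.1.2, h.2⟩⟩
    rw [e2]
    exact h
  omega

theorem four {t u : V} (ht : t ∈ D.N) (hu : u ∈ D.N) (htu : t ≠ u) (hN : t * u ∉ D.N) :
    ∃ w, {x | x ∈ D.N ∧ t * x ∈ D.N ∧ u * x ∈ D.N} = {w, t * w, u * w, t * u * w} := by
  classical
  let iV := Fintype.ofFinite V
  obtain ⟨g, hg, hgz⟩ := D.trans_Z (t * u) (fun h => htu (by
    rw [← D.cancel t u, h, mul_one])) hN
  set a := g t with ha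
  have haN : a ∈ D.N := D.inv g hg t ht
  have hbu : g u = a * D.z := by rw [← hgz, map_mul, D.cancel]
  have hbN : a * D.z ∈ D.N := hbu ▸ D.inv g hg u hu
  obtain ⟨i, hi⟩ := (D.pairs a (D.ne_one haN) (D.ne_z haN)).1 ⟨haN, hbN⟩
  have key : ∀ x, x ∈ D.N ∧ a * x ∈ D.N ∧ a * D.z * x ∈ D.N ↔
      x ∈ D.P i ∧ x ∉ ({1, D.z, a, a * D.z} : Set V) := by
    intro x
    simp only [Set.mem_insert_iff, Set.mem_singleton_iff, not_or]
    constructor
    · rintro ⟨h1, h2, h3⟩
      have hy : a * x ≠ 1 ∧ a * x ≠ D.z := ⟨D.ne_one h2, D.ne_z h2⟩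
      obtain ⟨j, hj⟩ := (D.pairs (a * x) hy.1 hy.2).1
        ⟨h2, by rwa [mul_right_comm] at h3⟩
      have hij : j = i := by
        by_contra hne
        exact D.cross i j (Ne.symm hne) a hi (a * x) hj haN h2 (by rwa [D.cancel])
      subst hij
      refine ⟨D.cancel a x ▸ (D.P j).mul_mem hi hj, D.ne_one h1, D.ne_z h1, fun e => hy.1 ?_,
        fun e => hy.2 ?_⟩
      · rw [e, D.sq]
      · rw [e, D.cancel]
    · rintro ⟨hx, h1, h2, h3, h4⟩
      have hm : ∀ y, y ∈ D.P i → y ≠ 1 → y ≠ D.z → y ∈ D.N := fun y hy e1 e2 =>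
        ((D.pairs y e1 e2).2 ⟨i, hy⟩).1
      refine ⟨hm x hx h1 h2, hm _ ((D.P i).mul_mem hi hx) (fun e => h3 ?_) (fun e => h4 ?_),
        hm _ ((D.P i).mul_mem ((D.P i).mul_mem hi (D.z_P i)) hx) (fun e => h4 ?_)
          (fun e => h3 ?_)⟩
      · rw [← D.cancel a x, e, mul_one]
      · rw [← D.cancel a x, e]
      · rw [← D.cancel (a * D.z) x, e, mul_one]
      · rw [← D.cancel (a * D.z) x, e, mul_assoc, D.sq, mul_one]
  have h4 : ({1, D.z, a, a * D.z} : Finset V).card = 4 := by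
    rw [Finset.card_eq_four]
    exact ⟨1, D.z, a, a * D.z, Ne.symm D.z_ne, Ne.symm (D.ne_one haN), Ne.symm (D.ne_one hbN),
      Ne.symm (D.ne_z haN), Ne.symm (D.ne_z hbN), fun e => D.z_ne (mul_eq_left.1 e.symm), rfl⟩
  have hne : (((D.P i : Set V) \ {1, D.z, a, a * D.z})).Nonempty := by
    refine Set.nonempty_of_ncard_ne_zero ?_
    have h := Set.le_ncard_sdiff ({1, D.z, a, a * D.z} : Set V) (D.P i : Set V)
    rw [← Nat.card_coe_set_eq (D.P i : Set V), SetLike.coe_sort_coe, D.card_P,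
      show ({1, D.z, a, a * D.z} : Set V) = (({1, D.z, a, a * D.z} : Finset V) : Set V) by simp,
      Set.ncard_coe_finset, h4] at h
    simp only [Finset.coe_insert, Finset.coe_singleton] at h
    omega
  obtain ⟨y, hy, hy'⟩ := hne
  simp only [Set.mem_insert_iff, Set.mem_singleton_iff, not_or] at hy'
  obtain ⟨y1, y2, y3, y4⟩ := hy'
  refine ⟨g.symm y, ?_⟩
  -- the coset of `y` is the whole of the block outside the four excluded elements
  have hcoset : ∀ x, x ∈ D.P i ∧ x ∉ ({1, D.z, a, a * D.z} : Set V) ↔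
      x ∈ ({y, a * y, a * D.z * y, D.z * y} : Set V) := by
    intro x
    have hsub : ({1, D.z, a, a * D.z, y, a * y, a * D.z * y, D.z * y} : Finset V) ⊆
        (D.P i : Set V).toFinset := by
      intro v hv
      simp only [Finset.mem_insert, Finset.mem_singleton] at hv
      simp only [Set.mem_toFinset, SetLike.mem_coe]
      have hz := D.z_P i
      rcases hv with rfl | rfl | rfl | rfl | rfl | rfl | rfl | rfl
      exacts [one_mem _, hz, hi, mul_mem hi hz, hy, mul_mem hi hy, mul_mem (mul_mem hi hz) hy,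
        mul_mem hz hy]
    have hd : Disjoint ({1, D.z, a, a * D.z} : Finset V)
        (({1, D.z, a, a * D.z} : Finset V).image (fun v => v * y)) := by
      rw [Finset.disjoint_left]
      intro v hv hv'
      obtain ⟨w, hw, rfl⟩ := Finset.mem_image.1 hv'
      have hgrp : ∀ p ∈ ({1, D.z, a, a * D.z} : Finset V), ∀ q ∈ ({1, D.z, a, a * D.z} : Finset V),
          p * q ∈ ({1, D.z, a, a * D.z} : Finset V) := by
        intro p hp q hq
        simp only [Finset.mem_insert, Finset.mem_singleton] at hp hq ⊢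
        rcases hp with rfl | rfl | rfl | rfl <;> rcases hq with rfl | rfl | rfl | rfl <;>
          simp [D.sq, D.cancel, mul_comm a D.z, mul_assoc, mul_left_comm a D.z]
      have := hgrp w hw (w * y) hv
      rw [D.cancel] at this
      simp only [Finset.mem_insert, Finset.mem_singleton] at this
      rcases this with e | e | e | e
      exacts [y1 e, y2 e, y3 e, y4 e]
    have h8 : ({1, D.z, a, a * D.z} : Finset V) ∪
        ({1, D.z, a, a * D.z} : Finset V).image (fun v => v * y) = (D.P i : Set V).toFinset := by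
      refine Finset.eq_of_subset_of_card_le ?_ (le_of_eq ?_)
      · intro v hv
        refine hsub ?_
        simp only [Finset.image_insert, Finset.image_singleton, Finset.mem_union,
          Finset.mem_insert, Finset.mem_singleton, one_mul] at hv ⊢
        tauto
      · rw [Finset.card_union_of_disjoint hd,
          Finset.card_image_of_injective _ (mul_left_injective y), h4,
          ← Set.ncard_eq_toFinset_card', ← Nat.card_coe_set_eq, SetLike.coe_sort_coe, D.card_P]
    have hx := Finset.ext_iff.1 h8 x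
    have hd' := fun h => (Finset.disjoint_left.1 hd) (a := x) h
    simp only [Finset.mem_union, Set.mem_toFinset, SetLike.mem_coe, Finset.mem_insert,
      Finset.mem_singleton, Finset.image_insert, Finset.image_singleton, one_mul] at hx hd'
    simp only [Set.mem_insert_iff, Set.mem_singleton_iff]
    tauto
  ext x
  have e : (x ∈ D.N ∧ t * x ∈ D.N ∧ u * x ∈ D.N) ↔
      g x ∈ D.N ∧ a * g x ∈ D.N ∧ a * D.z * g x ∈ D.N := by
    rw [ha, show g t * D.z = g u from hbu.symm, ← map_mul, ← map_mul, D.inv' hg, D.inv' hg,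
      D.inv' hg]
  rw [Set.mem_ofPred_eq, e, key, hcoset]
  have e1 : ∀ p, g x = g p * y ↔ x = p * g.symm y := fun p => by
    rw [← g.injective.eq_iff (a := x), map_mul, g.apply_symm_apply]
  simp only [Set.mem_insert_iff, Set.mem_singleton_iff]
  rw [ha, ← hbu, ← hgz, e1 t, e1 u, e1 (t * u), MulEquiv.eq_symm_apply]

/-- The data `Pairs`. -/
def toPairs : Pairs Γ where
  N := D.N
  sq := D.sq
  card_V := D.card_V
  card_N := D.card_N
  one_N := D.one_N
  inv := D.inv
  card_dvd := D.card_dvd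
  valency := fun _ ht => D.valency ht
  four := fun _ ht _ hu h h' => D.four ht hu h h'

end finite

end Blocks

end Cfsg.Agent.H38.JFour
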