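import Cfsg.Agent.H38.JFour.Lin
import Cfsg.Agent.H38.JFour.SextTables
import Cfsg.Agent.H38.JFour.ZTables
import Cfsg.Agent.H38.JFour.RepTables
import Cfsg.Agent.H85.JFour.AutM22.Table
import Cfsg.Agent.H85.JFour.AutM22.Data

/-!
Kernel checks on syndromes for the involutions of the stabiliser of a pair of points.
-/

set_option autoImplicit false

namespace Cfsg.Agent.H38.JFour

open Cfsg.Agent.Golay Cfsg.Agent.H94.M24 Cfsg.Agent.H85.AutM22 GolayTables

/-- The syndrome of the base pair. -/
def tS : ℕ := pairS 23 0

/-- The test for lying in the `2`-core of a record. -/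
def inO (gs : List ℕ) (r : ℕ × List ℕ × ℕ) : Bool :=
  lin gs r.1 == r.1 && r.2.1.all fun b => lin gs b == b || lin gs b == b ^^^ r.1

/-- The records whose `2`-core contains the map. -/
def oset (gs : List ℕ) : List (ℕ × List ℕ × ℕ) := sextTab.filter (inO gs)

/-- The conditions on one involution. -/
def invTestAt (fixes : Bool) (gs fx cs ms : List ℕ) (im : ℕ) : Bool :=
  (fx.all fun s => ms.any fun m => m.testBit s) &&
    (fx.any fun b => isSext b && isSext (b ^^^ tS)) &&
    (if fixes then
      (fx.all fun s => im.testBit s || im.testBit (s ^^^ tS) ||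
        decide ((ms.filter fun m => m.testBit s).length ≤ 1)) &&
      cs.all fun a => fx.any fun b => isSext b && isSext (a ^^^ b) && !(b == a)
    else pureList.all fun u => !(lin gs u == u))

/-- The conditions on one table. -/
def invTest (T : ℕ) : Bool :=
  ok T && forceL (linGens T) fun gs => gs.all ev &&
    forceL (fixedList gs) fun fx => forceL ((oset gs).map fun r => r.1) fun cs =>
      forceL ((oset gs).map fun r => r.2.2) fun ms =>
        if app T 23 == 23 then forceN (imMask gs) fun im => invTestAt true gs fx cs ms im
        else invTestAt false gs fx cs ms 0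

lemma invTest_all : repList.all invTest = true := by decide +kernel

lemma repConj_all : ((List.range invList.length).all fun i =>
    repList.contains (repConj.getD i (0, 0)).1 && ok (repConj.getD i (0, 0)).2 &&
      carries (repConj.getD i (0, 0)).2 (repConj.getD i (0, 0)).1 (invList.getD i 0)) = true := by
  decide +kernel

/-- One more basis element for a span. -/
def spanStep (l : List ℕ) (b : ℕ) : List ℕ := l.flatMap fun x => [x, x ^^^ b]

/-- Independence of a list. -/
def indep : List ℕ → List ℕ → Bool
  | [], _ => true
  | b :: bs, l => forceL l fun l' => !(l'.contains b) && indep bs (spanStep l' b)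

/-- The conditions on a record. -/
def recTest (r : ℕ × List ℕ × ℕ) : Bool :=
  isSext r.1 && !isSext (r.1 ^^^ tS) && decide (r.2.1.length = 7) &&
    (r.2.1.all fun b => isDuad b && isDuad (b ^^^ r.1)) && indep r.2.1 [0] &&
    ((r.2.1.foldl spanStep [0]).foldl (fun a i => a ||| 2 ^ i) 0 == r.2.2)

lemma recTest_all : sextTab.all recTest = true := by decide +kernel

/-- The first components of the records, as a mask. -/
def recMask : ℕ := (sextTab.map fun r => r.1).foldl (fun a i => a ||| 2 ^ i) 0

lemma rec_complete :
    forceN recMask (fun m => (List.range (2 ^ 12)).all fun s =>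
      !(isSext s) || isSext (s ^^^ tS) || m.testBit s) = true := by
  decide +kernel

lemma pure_check :
    (duadList.all fun u => u == tS || !(isDuad (u ^^^ tS)) || pureList.contains u) = true ∧
    (pureList.all fun u => isDuad u && isDuad (u ^^^ tS)) = true ∧
    (pureList.all fun u => pureList.all fun w => w == u || w == u ^^^ tS || isSext (u ^^^ w) ||
      isSext (u ^^^ w ^^^ tS)) = true ∧
    (pureList.all fun u => sextTab.any fun r =>
      !(isSext (r.1 ^^^ u)) && !(isSext (r.1 ^^^ (u ^^^ tS)))) = true ∧
    (pureList.all fun u => (List.range (2 ^ 12)).any fun b => isSext b && isSext (b ^^^ tS) &&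
      (!(isSext (b ^^^ u)) || isSext (b ^^^ u ^^^ tS)) &&
      (!(isSext (b ^^^ (u ^^^ tS))) || isSext (b ^^^ (u ^^^ tS) ^^^ tS))) = true ∧
    ev tS = true ∧ sextTab ≠ [] ∧ ((List.range (2 ^ 12)).any fun b => isSext b && isSext (b ^^^ tS)) = true := by
  decide +kernel

end Cfsg.Agent.H38.JFour
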