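import Cfsg.Agent.Golay.OctadList
import Cfsg.Agent.Golay.Table

/-!
Syndromes of the code of length 24: every mask is congruent to one below `2 ^ 12`.
-/

set_option autoImplicit false

namespace Cfsg.Agent.H38.JFour

open Cfsg Cfsg.Agent.Golay

/-- An octad for each of the positions `12, …, 23`, with no other position above 11. -/
def rowList : List (ℕ × ℕ) :=
  [(12, 5279),
   (13, 10558),
   (14, 18147),
   (15, 36294),
   (16, 69395),
   (17, 133817),
   (18, 262637),
   (19, 525274),
   (20, 1050548),
   (21, 2101096),
   (22, 4196943),
   (23, 8391797)]

/-- One reduction step. -/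
def redStep (acc : ℕ) (q : ℕ × ℕ) : ℕ := if acc.testBit q.1 then acc ^^^ q.2 else acc

/-- The reduced mask. -/
def red (m : ℕ) : ℕ := rowList.foldl redStep m

/-- The syndrome of a pair of positions. -/
def pairS (i j : ℕ) : ℕ := red (2 ^ i ^^^ 2 ^ j)

/-- The syndromes of pairs. -/
def duadList : List ℕ := (List.range 24).flatMap fun j => (List.range j).map fun i => pairS i j

/-- The set of syndromes of pairs, as a mask. -/
def duadMask : ℕ := 62280824004557531808797915482231533733779024576841899358981066040628802972511181706779754662859239495929240255548802656765156079119767908528692587211622736181676730983047801760846330122679812071544265802568684984427631318955286116702354754097426672329000269507853604815903975849386819634012716272080517972647423192869177534430233300935185550368162389066022780514365661384372292456849317276451806537057524752807536118084886577528646952000508429118457236791611217604359980369188363600529780905499226466871669986402315041537176543555056466732243210003069460804410840165155591676564109187851858567578137509028963900232690263116079889929746095532952175562424450118819961902053519053623658385247132682308033189779998306272292802360176700217912435972313551862814590953312919661563406266593346006836958788304719060397846537488452956987126194191807854513886980219250630623233979138521398664878651214350942258763245855801938732785789237537668477825938636158801570091281772534405169496286724127660536685562781800938073230666722383795666267723368223854780697304025758564036858868489936983801306927061271469926716204101438181199031883320867726629481327134077685344292362771501771355025525004613342756164682398821230313467603311411544331880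

/-- Test for the syndrome of a pair. -/
def isDuad (s : ℕ) : Bool := duadMask.testBit s

/-- Parity of the twelve lowest bits. -/
def parity (s : ℕ) : Bool := (List.range 12).foldl (fun b i => xor b (s.testBit i)) false

/-- Test for the syndrome of an even mask. -/
def ev (s : ℕ) : Bool := decide (s < 2 ^ 12) && !parity s

/-- Test for the syndrome of a four-point set. -/
def isSext (s : ℕ) : Bool := ev s && !(s == 0) && !isDuad s

/-- The image of a syndrome under a table. -/
def img (T s : ℕ) : ℕ := red (tblImg T s)

lemma testBit_foldl_set (l : List ℕ) (acc s : ℕ) :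
    (l.foldl (fun a i => a ||| 2 ^ i) acc).testBit s = true ↔ acc.testBit s = true ∨ s ∈ l := by
  induction l generalizing acc with
  | nil => simp
  | cons a t ih =>
    rw [List.foldl_cons, ih, Nat.testBit_or, Bool.or_eq_true, Nat.testBit_two_pow, decide_eq_true_eq,
      List.mem_cons, eq_comm (a := a)]
    tauto

lemma duad_check : duadList.foldl (fun a i => a ||| 2 ^ i) 0 = duadMask ∧
    (duadList.all fun s => ev s && !(s == 0)) = true ∧
    (rowList.all fun q => octadList.contains q.2) = true ∧
    ((List.range (2 ^ 12)).filter ev).length = 2048 := by
  decide +kernel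

theorem isDuad_iff {s : ℕ} : isDuad s = true ↔ ∃ i j, i < j ∧ j < 24 ∧ pairS i j = s := by
  rw [isDuad, ← duad_check.1, testBit_foldl_set]
  simp only [Nat.zero_testBit, Bool.false_eq_true, false_or, duadList, List.mem_flatMap, List.mem_map,
    List.mem_range]
  exact ⟨fun ⟨j, hj, i, hi, e⟩ => ⟨i, j, hi, hj, e⟩, fun ⟨i, j, hi, hj, e⟩ => ⟨j, hj, i, hi, e⟩⟩

theorem ev_of_isDuad {s : ℕ} (h : isDuad s = true) : ev s = true ∧ s ≠ 0 := by
  obtain ⟨i, j, hij, hj, rfl⟩ := isDuad_iff.1 h
  have h2 := duad_check.2.1
  simp only [List.all_eq_true, Bool.and_eq_true, Bool.not_eq_true', beq_eq_false_iff_ne] at h2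
  exact h2 _ (List.mem_flatMap.2 ⟨j, List.mem_range.2 hj, List.mem_map.2 ⟨i, List.mem_range.2 hij, rfl⟩⟩)

lemma parity_xor_aux (l : List ℕ) (a b : ℕ) (x y : Bool) :
    l.foldl (fun c i => xor c ((a ^^^ b).testBit i)) (xor x y) =
      xor (l.foldl (fun c i => xor c (a.testBit i)) x) (l.foldl (fun c i => xor c (b.testBit i)) y) := by
  induction l generalizing x y with
  | nil => rfl
  | cons i t ih =>
    simp only [List.foldl_cons]
    rw [← ih, Nat.testBit_xor]
    congr 1
    cases x <;> cases y <;> cases a.testBit i <;> cases b.testBit i <;> rfl

theorem ev_xor {a b : ℕ} (ha : ev a = true) (hb : ev b = true) : ev (a ^^^ b) = true := by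
  simp only [ev, Bool.and_eq_true, decide_eq_true_eq, Bool.not_eq_true'] at ha hb ⊢
  refine ⟨Nat.xor_lt_two_pow ha.1 hb.1, ?_⟩
  have e : parity (a ^^^ b) = xor (parity a) (parity b) :=
    parity_xor_aux (List.range 12) a b false false
  rw [e, ha.2, hb.2]
  rfl

theorem ev_zero : ev 0 = true := by decide

theorem ev_lt {s : ℕ} (h : ev s = true) : s < 2 ^ 24 := by
  simp only [ev, Bool.and_eq_true, decide_eq_true_eq] at h
  exact h.1.trans (by norm_num)

theorem isSext_ev {s : ℕ} (h : isSext s = true) : ev s = true ∧ s ≠ 0 ∧ isDuad s = false := by
  simp only [isSext, Bool.and_eq_true, Bool.not_eq_true', beq_eq_false_iff_ne] at h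
  exact ⟨h.1.1, h.1.2, h.2⟩

lemma even_check : ((List.range (2 ^ 12)).all fun s => !ev s ||
    ((List.range 24).filter fun i => s.testBit i).length % 2 == 0) = true := by
  decide +kernel

theorem ev_card {s : ℕ} (h : ev s = true) : Even (ptSet s).card := by
  classical
  have hlt : s < 2 ^ 12 := by
    simp only [ev, Bool.and_eq_true, decide_eq_true_eq] at h; exact h.1
  set L := (List.range 24).filter fun i => s.testBit i with hL
  have he : ptSet s = L.toFinset.image pt := by
    ext p
    rw [mem_ptSet, Finset.mem_image]
    constructor
    · intro hp
      exact ⟨idx p, List.mem_toFinset.2 (List.mem_filter.2 ⟨List.mem_range.2 (idx_lt p), hp⟩), pt_idx p⟩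
    · rintro ⟨i, hi, rfl⟩
      obtain ⟨hi', hb⟩ := List.mem_filter.1 (List.mem_toFinset.1 hi)
      rwa [idx_pt i (List.mem_range.1 hi')]
  have hc := even_check
  simp only [List.all_eq_true, List.mem_range, Bool.or_eq_true, Bool.not_eq_true', beq_iff_eq] at hc
  have h2 := (hc s hlt).resolve_left (by rw [h]; simp)
  rw [he, Finset.card_image_of_injOn, List.toFinset_card_of_nodup (List.nodup_range.filter _)]
  · exact Nat.even_iff.2 h2
  · intro i hi j hj e
    rw [Finset.mem_coe, List.mem_toFinset, List.mem_filter, List.mem_range] at hi hj
    exact (pt_inj hi.1 hj.1).1 e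

end Cfsg.Agent.H38.JFour
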