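import Cfsg.Agent.H38.JFour.Stars
import Cfsg.Prelude.Def_Sporadic_a

/-!
(After `H61/Todd/Code`, for the weaker data `Pairs`.) Products over sets of stars: the sets of eight stars with trivial product form a Steiner system
`S(5, 8, 24)`, invariant under the group.
-/

set_option autoImplicit false

namespace Cfsg.Agent.H38.JFour

open scoped symmDiff

variable {V : Type*} [CommGroup V] [Finite V]

namespace Pairs

variable {Γ : Subgroup (MulAut V)} (D : Pairs Γ)
include D

theorem star_nonempty : Nonempty D.Star :=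
  (Nat.card_pos_iff.1 (by rw [D.card_star]; norm_num)).1

/-- A fixed star. -/
noncomputable def base : D.Star := D.star_nonempty.some

/-- The element attached to a star, relative to the fixed one. -/
noncomputable def g₀ (x : D.Star) : V := D.e D.base x

theorem g_mul (a b : D.Star) : D.g₀ a * D.g₀ b = D.e a b := by
  rw [g₀, g₀, D.e_comm D.base a, D.e_mul]

/-- Product over a set of stars. -/
noncomputable def φ (s : Finset D.Star) : V := ∏ x ∈ s, D.g₀ x

theorem φ_symmDiff [DecidableEq D.Star] (s t : Finset D.Star) : D.φ (s ∆ t) = D.φ s * D.φ t := by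
  have hs : D.φ s = D.φ (s \ t) * D.φ (s ∩ t) := by
    rw [φ, φ, φ, ← Finset.prod_union (Finset.disjoint_sdiff_inter s t), Finset.sdiff_union_inter]
  have ht : D.φ t = D.φ (t \ s) * D.φ (s ∩ t) := by
    rw [φ, φ, φ, Finset.inter_comm, ← Finset.prod_union (Finset.disjoint_sdiff_inter t s),
      Finset.sdiff_union_inter]
  rw [hs, ht, mul_mul_mul_comm, D.sq, mul_one]
  exact Finset.prod_union disjoint_sdiff_sdiff

theorem φ_two {s : Finset D.Star} (hs : s.card = 2) : D.φ s ∈ D.N := by
  classical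
  obtain ⟨a, b, hab, rfl⟩ := Finset.card_eq_two.1 hs
  rw [φ, Finset.prod_pair hab, D.g_mul]
  exact D.e_N hab

theorem φ_four {s : Finset D.Star} (hs : s.card = 4) : D.φ s ≠ 1 ∧ D.φ s ∉ D.N := by
  classical
  obtain ⟨a, b, c, d, hab, hac, had, hbc, hbd, hcd, rfl⟩ := Finset.card_eq_four.1 hs
  have hφ : D.φ {a, b, c, d} = D.e a b * D.e c d := by
    rw [φ, Finset.prod_insert (by simp [hab, hac, had]), Finset.prod_insert (by simp [hbc, hbd]),
      Finset.prod_pair hcd, ← mul_assoc, D.g_mul, D.g_mul]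
  rw [hφ]
  have ht := D.e_N hab
  obtain ⟨hta, htb⟩ := D.e_mem hab
  obtain ⟨huc, hud⟩ := D.e_mem hcd
  constructor
  · intro h
    rw [D.eq_of_mul_eq_one h] at huc
    rcases D.eq_of_two hab hta htb huc with e | e
    exacts [hac e.symm, hbc e.symm]
  · intro h
    have hu : D.e c d ∈ D.Nb (D.e a b) := ⟨D.e_N hcd, h⟩
    let w : D.Star := ⟨D.S (D.e a b) (D.e c d), _, ht, _, hu, rfl⟩
    rcases D.eq_of_two hab hta htb (s := w) (D.mem_S.2 (Or.inl rfl)) with e | e <;>
      rcases D.eq_of_two hcd huc hud (s := w) (D.mem_S.2 (Or.inr (Or.inl rfl))) with e' | e'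
    exacts [hac (e.symm.trans e'), had (e.symm.trans e'), hbc (e.symm.trans e'),
      hbd (e.symm.trans e')]

theorem φ_small {s : Finset D.Star} (heven : Even s.card) (hle : s.card ≤ 6) (h : D.φ s = 1) :
    s = ∅ := by
  classical
  obtain ⟨k, hk⟩ := heven
  by_contra hne
  have hpos := Finset.card_pos.2 (Finset.nonempty_iff_ne_empty.2 hne)
  obtain h' | h' | h' : s.card = 2 ∨ s.card = 4 ∨ s.card = 6 := by omega
  · exact D.one_N (h ▸ D.φ_two h')
  · exact (D.φ_four h').1 h
  · obtain ⟨q, hq, hqc⟩ := Finset.exists_subset_card_eq (show 4 ≤ s.card by omega)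
    have hr : (s \ q).card = 2 := by rw [Finset.card_sdiff_of_subset hq]; omega
    refine (D.φ_four hqc).2 ?_
    have he : D.φ q * D.φ (s \ q) = 1 := by
      rw [φ, φ, ← Finset.prod_union Finset.disjoint_sdiff, Finset.union_sdiff_of_subset hq]
      exact h
    have := D.φ_two hr
    rwa [D.eq_of_mul_eq_one he] at this

/-- The blocks. -/
def blocks : Set (Finset D.Star) := {b | b.card = 8 ∧ D.φ b = 1}

theorem eq_of_φ_eq [DecidableEq D.Star] {s t : Finset D.Star} (h : D.φ s = D.φ t)
    (heven : Even (s.card + t.card)) (hc : (s ∆ t).card ≤ 6) : s = t := by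
  refine symmDiff_eq_bot.1 (D.φ_small ?_ hc (by rw [D.φ_symmDiff, h, D.sq]))
  obtain ⟨k, hk⟩ := heven
  have h1 : (s ∆ t).card + 2 * (s ∩ t).card = s.card + t.card := by
    rw [Finset.symmDiff_def, Finset.card_union_of_disjoint disjoint_sdiff_sdiff,
      ← Finset.card_sdiff_add_card_inter s t, ← Finset.card_sdiff_add_card_inter t s,
      Finset.inter_comm t s]
    omega
  exact ⟨k - (s ∩ t).card, by omega⟩

theorem symmDiff_card [DecidableEq D.Star] (s t : Finset D.Star) :
    (s ∆ t).card + 2 * (s ∩ t).card = s.card + t.card := by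
  rw [Finset.symmDiff_def, Finset.card_union_of_disjoint disjoint_sdiff_sdiff,
    ← Finset.card_sdiff_add_card_inter s t, ← Finset.card_sdiff_add_card_inter t s,
    Finset.inter_comm t s]
  omega

/-- The six sets of four stars with a given product. -/
theorem four_fibre :
    (∀ c : V, c ≠ 1 → c ∉ D.N → ∃ u : Finset D.Star, u.card = 4 ∧ D.φ u = c) ∧
    (∀ t : Finset D.Star, t.card = 4 → ∀ p : D.Star,
      ∃ u : Finset D.Star, u.card = 4 ∧ D.φ u = D.φ t ∧ p ∈ u) := by
  classical
  let i1 := Fintype.ofFinite D.Star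
  let i2 := Fintype.ofFinite V
  set F : Finset (Finset D.Star) := Finset.univ.powersetCard 4 with hF
  have hFc : ∀ t ∈ F, t.card = 4 := fun t ht => (Finset.mem_powersetCard.1 ht).2
  have hstar : Fintype.card D.Star = 24 := by rw [← Nat.card_eq_fintype_card, D.card_star]
  set Z : Finset V := Finset.univ.filter fun v => v ≠ 1 ∧ v ∉ D.N with hZ
  have hmaps : ∀ t ∈ F, D.φ t ∈ Z := fun t ht =>
    Finset.mem_filter.2 ⟨Finset.mem_univ _, D.φ_four (hFc t ht)⟩
  have hZc : Z.card = 1771 := by
    have he : Z = (insert 1 (Set.Finite.toFinset (Set.toFinite D.N)))ᶜ := by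
      ext v
      simp [hZ]
    rw [he, Finset.card_compl, Finset.card_insert_of_notMem (by simp [D.one_N]),
      ← Set.ncard_eq_toFinset_card D.N (Set.toFinite _), D.card_N, ← Nat.card_eq_fintype_card,
      D.card_V]
  have hsix : ∀ c, (F.filter fun t => D.φ t = c).card ≤ 6 ∧
      ((F.filter fun t => D.φ t = c).card = 6 → ∀ p, ∃ u ∈ F, D.φ u = c ∧ p ∈ u) := by
    intro c
    set S := F.filter fun t => D.φ t = c with hS
    have hpd : (S : Set (Finset D.Star)).PairwiseDisjoint id := by
      intro t ht u hu hne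
      simp only [hS, Finset.coe_filter, Set.mem_ofPred_eq] at ht hu
      show Disjoint t u
      rw [Finset.disjoint_iff_inter_eq_empty]
      by_contra hi
      refine hne (D.eq_of_φ_eq (ht.2.trans hu.2.symm)
        (by rw [hFc t ht.1, hFc u hu.1]; exact ⟨4, rfl⟩) ?_)
      have := Finset.card_pos.2 (Finset.nonempty_iff_ne_empty.2 hi)
      have := D.symmDiff_card t u
      have := hFc t ht.1
      have := hFc u hu.1
      omega
    have hcard : (S.biUnion id).card = 4 * S.card := by
      rw [Finset.card_biUnion hpd]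
      refine (Finset.sum_congr rfl (g := fun _ => 4) fun t ht =>
        hFc t (Finset.mem_filter.1 ht).1).trans ?_
      simp [hS, mul_comm]
    have hle := Finset.card_le_univ (S.biUnion id)
    rw [hcard, hstar] at hle
    refine ⟨by omega, fun h6 p => ?_⟩
    have huniv : S.biUnion id = Finset.univ :=
      Finset.card_eq_iff_eq_univ _ |>.1 (by rw [hcard, h6, hstar])
    have hp : p ∈ S.biUnion id := huniv.symm ▸ Finset.mem_univ p
    obtain ⟨u, hu, hpu⟩ := Finset.mem_biUnion.1 hp
    exact ⟨u, (Finset.mem_filter.1 hu).1, (Finset.mem_filter.1 hu).2, hpu⟩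
  have hall : ∀ c ∈ Z, (F.filter fun t => D.φ t = c).card = 6 := by
    by_contra hcon
    simp only [not_forall] at hcon
    obtain ⟨c, hc, hne⟩ := hcon
    have hsum := Finset.card_eq_sum_card_fiberwise (f := D.φ) hmaps
    have hlt : ∑ c ∈ Z, (F.filter fun t => D.φ t = c).card < ∑ c ∈ Z, 6 :=
      Finset.sum_lt_sum (fun c _ => (hsix c).1) ⟨c, hc, lt_of_le_of_ne (hsix c).1 hne⟩
    rw [← hsum, hF, Finset.card_powersetCard, Finset.card_univ, hstar, Finset.sum_const, hZc,
      smul_eq_mul] at hlt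
    revert hlt
    decide
  refine ⟨fun c h1 hN => ?_, fun t ht p => ?_⟩
  · obtain ⟨u, hu⟩ := Finset.card_pos.1
      (show 0 < (F.filter fun t => D.φ t = c).card by
        rw [hall c (Finset.mem_filter.2 ⟨Finset.mem_univ _, h1, hN⟩)]; norm_num)
    exact ⟨u, hFc u (Finset.mem_filter.1 hu).1, (Finset.mem_filter.1 hu).2⟩
  · have htF : t ∈ F := Finset.mem_powersetCard.2 ⟨Finset.subset_univ _, ht⟩
    obtain ⟨u, hu, h1, h2⟩ := (hsix _).2 (hall _ (hmaps t htF)) p
    exact ⟨u, hFc u hu, h1, h2⟩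

theorem blocks_isSteiner : Cfsg.IsSteinerSystem 5 8 D.blocks := by
  classical
  refine ⟨fun b hb => hb.1, fun s hs => existsUnique_of_exists_of_unique ?_ ?_⟩
  · obtain ⟨p, hp⟩ := Finset.card_pos.1 (show 0 < s.card by omega)
    set t := s.erase p with ht
    have htc : t.card = 4 := by rw [ht, Finset.card_erase_of_mem hp, hs]
    obtain ⟨u, huc, hφ, hpu⟩ := D.four_fibre.2 t htc p
    have hne : u ≠ t := fun e => Finset.notMem_erase p s (by rw [← ht, ← e]; exact hpu)
    have hI : (u ∩ t).card = 0 := by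
      by_contra h0
      exact hne (D.eq_of_φ_eq hφ (by rw [huc, htc]; exact ⟨4, rfl⟩)
        (by have := D.symmDiff_card u t; omega))
    refine ⟨u ∆ t, ⟨by have := D.symmDiff_card u t; omega,
      by rw [D.φ_symmDiff, hφ, D.sq]⟩, ?_⟩
    rw [Disjoint.symmDiff_eq_sup (Finset.disjoint_iff_inter_eq_empty.2
      (Finset.card_eq_zero.1 hI))]
    intro x hx
    rcases eq_or_ne x p with rfl | hxp
    · exact Finset.mem_union_left _ hpu
    · exact Finset.mem_union_right _ (Finset.mem_erase.2 ⟨hxp, hx⟩)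
  · rintro b b' ⟨hb, hsb⟩ ⟨hb', hsb'⟩
    refine D.eq_of_φ_eq (hb.2.trans hb'.2.symm) (by rw [hb.1, hb'.1]; exact ⟨8, rfl⟩) ?_
    have h1 := D.symmDiff_card b b'
    have := Finset.card_le_card (Finset.subset_inter hsb hsb')
    have := hb.1
    have := hb'.1
    omega

section action

variable {g : MulAut V}

theorem S_map (hg : g ∈ Γ) (t u : V) : g '' D.S t u = D.S (g t) (g u) := by
  ext v
  constructor
  · rintro ⟨w, hw, rfl⟩
    rcases D.mem_S.1 hw with rfl | rfl | h
    exacts [D.mem_S.2 (Or.inl rfl), D.mem_S.2 (Or.inr (Or.inl rfl)),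
      D.mem_S.2 (Or.inr (Or.inr ((D.Com_map hg _ _ _).2 h)))]
  · intro h
    refine ⟨g.symm v, ?_, g.apply_symm_apply v⟩
    rcases D.mem_S.1 h with rfl | rfl | h
    · exact D.mem_S.2 (Or.inl (g.symm_apply_apply t))
    · exact D.mem_S.2 (Or.inr (Or.inl (g.symm_apply_apply u)))
    · refine D.mem_S.2 (Or.inr (Or.inr ((D.Com_map hg _ _ _).1 ?_)))
      rwa [g.apply_symm_apply]

/-- The action on stars. -/
noncomputable def act : ↥Γ →* Equiv.Perm D.Star where
  toFun g :=
    { toFun := fun s => ⟨(g : MulAut V) '' s.1, by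
        obtain ⟨t, ht, u, hu, h⟩ := s.2
        exact ⟨_, D.inv _ g.2 t ht, _, (D.Nb_map g.2 t u).2 hu, by rw [h, D.S_map g.2]⟩⟩
      invFun := fun s => ⟨((g⁻¹ : ↥Γ) : MulAut V) '' s.1, by
        obtain ⟨t, ht, u, hu, h⟩ := s.2
        exact ⟨_, D.inv _ (g⁻¹).2 t ht, _, (D.Nb_map (g⁻¹).2 t u).2 hu,
          by rw [h, D.S_map (g⁻¹).2]⟩⟩
      left_inv := fun s => Subtype.ext (by
        show _ '' (_ '' s.1) = s.1
        rw [Set.image_image]
        simp)
      right_inv := fun s => Subtype.ext (by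
        show _ '' (_ '' s.1) = s.1
        rw [Set.image_image]
        simp) }
  map_one' := Equiv.ext fun s => Subtype.ext (by
    show ((1 : ↥Γ) : MulAut V) '' s.1 = s.1
    simp)
  map_mul' a b := Equiv.ext fun s => Subtype.ext (by
    show ((a * b : ↥Γ) : MulAut V) '' s.1 = (a : MulAut V) '' ((b : MulAut V) '' s.1)
    rw [Set.image_image]
    simp)

theorem act_val (g : ↥Γ) (s : D.Star) : (D.act g s).1 = (g : MulAut V) '' s.1 := rfl

theorem e_act (g : ↥Γ) (a b : D.Star) :
    D.e (D.act g a) (D.act g b) = (g : MulAut V) (D.e a b) := by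
  by_cases h : a = b
  · subst h; rw [D.e_self, D.e_self, map_one]
  · refine D.e_eq ((D.act g).injective.ne h) ?_ ?_
    · rw [D.act_val]; exact Set.mem_image_of_mem _ (D.e_mem h).1
    · rw [D.act_val]; exact Set.mem_image_of_mem _ (D.e_mem h).2

theorem φ_act [DecidableEq D.Star] (g : ↥Γ) {s : Finset D.Star} (hs : Even s.card) :
    (g : MulAut V) (D.φ s) = D.φ (s.image (D.act g)) := by
  obtain ⟨k, hk⟩ := hs
  rw [φ, φ, map_prod, Finset.prod_image (D.act g).injective.injOn]
  have h1 : ∀ x ∈ s, (g : MulAut V) (D.g₀ x) = D.g₀ (D.act g D.base) * D.g₀ (D.act g x) :=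
    fun x _ => by rw [D.g_mul, D.e_act]; rfl
  rw [Finset.prod_congr rfl h1, Finset.prod_mul_distrib, Finset.prod_const, hk, pow_add, D.sq,
    one_mul]

theorem act_blocks [DecidableEq D.Star] (g : ↥Γ) {b : Finset D.Star} (hb : b ∈ D.blocks) :
    b.image (D.act g) ∈ D.blocks := by
  refine ⟨by rw [Finset.card_image_of_injective _ (D.act g).injective]; exact hb.1, ?_⟩
  rw [← D.φ_act g (by rw [hb.1]; exact ⟨4, rfl⟩), hb.2, map_one]

theorem act_injective : Function.Injective D.act := by
  classical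
  rw [injective_iff_map_eq_one]
  intro g hg
  have hN : ∀ v ∈ D.N, (g : MulAut V) v = v := fun v hv => by
    obtain ⟨a, b, hab, ha, hb, -⟩ := D.two_stars hv
    have h := D.e_act g a b
    rw [hg] at h
    rw [← D.e_eq hab ha hb]
    exact h.symm
  refine Subtype.ext (MulEquiv.ext fun v => ?_)
  show (g : MulAut V) v = v
  by_cases h1 : v = 1
  · rw [h1, map_one]
  by_cases h2 : v ∈ D.N
  · exact hN v h2
  obtain ⟨u, hu, rfl⟩ := D.four_fibre.1 v h1 h2
  rw [D.φ_act g (by rw [hu]; exact ⟨2, rfl⟩), hg]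
  simp

theorem fix_iff_pair [DecidableEq D.Star] (g : ↥Γ) {a b : D.Star} (hab : a ≠ b) :
    (g : MulAut V) (D.e a b) = D.e a b ↔
      ({a, b} : Finset D.Star).image (D.act g) = {a, b} := by
  rw [← D.e_act]
  have hσ := (D.act g).injective.ne hab
  simp only [Finset.image_insert, Finset.image_singleton]
  constructor
  · intro h
    have hm := D.e_mem hσ
    rw [h] at hm
    obtain ⟨ha, hb⟩ := D.e_mem hab
    have h1 := D.eq_of_two hab ha hb hm.1
    have h2 := D.eq_of_two hab ha hb hm.2
    rcases h1 with e1 | e1 <;> rcases h2 with e2 | e2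
    · exact absurd (e1.trans e2.symm) hσ
    · rw [e1, e2]
    · rw [e1, e2, Finset.pair_comm]
    · exact absurd (e1.trans e2.symm) hσ
  · intro h
    have h1 : D.act g a ∈ ({a, b} : Finset D.Star) := h ▸ Finset.mem_insert_self _ _
    have h2 : D.act g b ∈ ({a, b} : Finset D.Star) := h ▸ Finset.mem_insert_of_mem
      (Finset.mem_singleton_self _)
    simp only [Finset.mem_insert, Finset.mem_singleton] at h1 h2
    rcases h1 with e1 | e1 <;> rcases h2 with e2 | e2
    · exact absurd (e1.trans e2.symm) hσ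
    · rw [e1, e2]
    · rw [e1, e2, D.e_comm]
    · exact absurd (e1.trans e2.symm) hσ

end action

end Pairs

end Cfsg.Agent.H38.JFour
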