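import Cfsg.Agent.H98.JFour.Cores
import Cfsg.Agent.H98.JFour.Lines
import Cfsg.Agent.H98.JFour.Orbits

/-!
The largest normal 2-subgroup of `C(z)` against a complement `K` of `V` in its normaliser: it is the product of its
intersections with `V` and `K`, and the latter consists of the elements of `K ∩ H` acting trivially on `A₇ ⧸ ⟨z⟩`.
-/

set_option autoImplicit false
set_option linter.style.haveILetI false

namespace Cfsg.Agent.H38.JFour

open Subgroup H43.JFour H98.JFour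

universe u v

variable {G : Type u} [Group G] [Finite G] {A : Type v} [Group A]
variable {c : Ctx G A} {M W : Subgroup A}

/-- A complement to `V` in its normaliser. -/
structure Compl (h : Pkg c M W) (K : Subgroup G) : Prop where
  le : K ≤ normalizer (h.V : Set G)
  inf : K ⊓ h.V = ⊥
  sup : h.V ⊔ K = normalizer (h.V : Set G)

variable {h : Pkg c M W} {K : Subgroup G}

theorem Compl.decomp (hK : Compl h K) {x : G} (hx : x ∈ normalizer (h.V : Set G)) :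
    ∃ v ∈ h.V, ∃ k ∈ K, x = v * k :=
  exists_mul_of_mem_sup hK.le (hK.sup.symm ▸ hx)

theorem Compl.unique (hK : Compl h K) {v v' k k' : G} (hv : v ∈ h.V) (hv' : v' ∈ h.V) (hk : k ∈ K)
    (hk' : k' ∈ K) (e : v * k = v' * k') : v = v' ∧ k = k' := by
  have e1 : v'⁻¹ * v = k' * k⁻¹ := by
    calc v'⁻¹ * v = v'⁻¹ * (v * k) * k⁻¹ := by group
      _ = k' * k⁻¹ := by rw [e]; group
  have hm : k' * k⁻¹ ∈ K ⊓ h.V :=
    mem_inf.2 ⟨mul_mem hk' (inv_mem hk), e1 ▸ mul_mem (inv_mem hv') hv⟩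
  rw [hK.inf, mem_bot] at hm
  exact ⟨(inv_mul_eq_one.1 (e1.trans hm)).symm, (mul_inv_eq_one.1 hm).symm⟩

theorem two_pow_eq_one {Q : Subgroup G} {n : ℕ} (hQ : Nat.card Q = 2 ^ n) {x : G} (hx : x ∈ Q) :
    x ^ 2 ^ n = 1 := by
  rw [← hQ, ← orderOf_dvd_iff_pow_eq_one]
  exact Subgroup.orderOf_dvd_natCard Q hx

theorem E_V_comm (h : Pkg c M W) {e v : G} (he : e ∈ c.E) (hv : v ∈ h.V) :
    v * e * v⁻¹ * e⁻¹ ∈ h.A7 := by
  rw [← h.V_inf_E]
  refine mem_inf.2 ⟨?_, mul_mem (h.hc.conjE (h.V_le_H hv) he) (inv_mem he)⟩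
  rw [show v * e * v⁻¹ * e⁻¹ = v * (e * v⁻¹ * e⁻¹) by group]
  exact mul_mem hv (h.E_conj_V he (inv_mem hv))

/-- The elements of `K` in `E V` lie in `E`. -/
theorem Compl.mem_E (hK : Compl h K) {e v : G} (he : e ∈ c.E) (hv : v ∈ h.V) (hev : e * v ∈ K) :
    e * v ∈ c.E := by
  classical
  obtain ⟨hpP, hp1⟩ := spForm_p_mem h.hc
  set p : G := ((spForm h.hc).p : G) with hp
  have hpN : p ∈ h.NH := h.P_le_NH hpP
  have hpn : p ∈ normalizer (h.V : Set G) := (mem_inf.1 (h.NH_eq ▸ hpN)).2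
  obtain ⟨v0, hv0, x, hx, hpx⟩ := hK.decomp hpn
  have hxH : x ∈ c.H := by
    rw [show x = v0⁻¹ * p by rw [hpx]; group]; exact mul_mem (inv_mem (h.V_le_H hv0)) (h.hc.P_le hpP)
  have hxx : x * x * x = 1 := by
    have h3 : p * p * p = 1 := by
      have := orderOf_dvd_iff_pow_eq_one.1 (h.hc.cardP ▸ Subgroup.orderOf_dvd_natCard c.P hpP)
      rwa [pow_three'] at this
    have hVc : ∀ y ∈ h.V, x * y * x⁻¹ ∈ h.V := fun y hy =>
      (mem_normalizer_iff.1 (hK.le hx) y).1 hy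
    have e1 : v0 * (x * v0 * x⁻¹) * (x * (x * v0 * x⁻¹) * x⁻¹) * (x * x * x) = 1 * 1 := by
      rw [one_mul, ← h3, hpx]; group
    exact (hK.unique (mul_mem (mul_mem hv0 (hVc _ hv0)) (hVc _ (hVc _ hv0))) (one_mem _)
      (mul_mem (mul_mem hx hx) hx) (one_mem _) e1).2
  have hprx : c.pr x = 1 := by
    have hW : c.pr x ∈ W := by
      rw [show x = v0⁻¹ * p by rw [hpx]; group, h.hc.pr_mul _ (inv_mem (h.V_le_H hv0)) _ (h.hc.P_le hpP),
        h.hc.pr_P hpP, mul_one]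
      exact h.pr_V_mem (inv_mem hv0)
    have h3 : c.pr x * c.pr x * c.pr x = 1 := by
      rw [← h.hc.pr_mul _ hxH _ hxH, ← h.hc.pr_mul _ (mul_mem hxH hxH) _ hxH, hxx, h.hc.pr_one]
    rwa [h.sq_W hW, one_mul] at h3
  have hxEP : x ∈ c.E ⊔ c.P := (h.hc.pr_ker _ hxH).1 hprx
  -- the elements of `K` in `E V`
  let R : Set G := {k | k ∈ K ∧ ∃ e' ∈ c.E, ∃ v' ∈ h.V, k = e' * v'}
  have hEV : ∀ {k}, k ∈ R → x * k * x⁻¹ * k⁻¹ ∈ c.E := by
    rintro k ⟨hk, e', he', v', hv', rfl⟩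
    have hH : e' * v' ∈ c.H := mul_mem (h.hc.le_H he') (h.V_le_H hv')
    have hq : x * (e' * v') * x⁻¹ * (e' * v')⁻¹ ∈ c.E ⊔ c.P := by
      refine (h.hc.pr_ker _ (mul_mem (mul_mem (mul_mem hxH hH) (inv_mem hxH)) (inv_mem hH))).1 ?_
      rw [h.hc.pr_mul _ (mul_mem (mul_mem hxH hH) (inv_mem hxH)) _ (inv_mem hH), h.hc.pr_conj hxH hH,
        h.hc.pr_inv hH, hprx, one_mul, inv_one, mul_one, mul_inv_cancel]
    have hEVle : c.E ≤ normalizer (h.V : Set G) := fun y hy =>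
      (mem_inf.1 (h.NH_eq ▸ h.E_le_NH hy)).2
    set Q := h.V ⊔ c.E with hQ
    have hqQ : x * (e' * v') * x⁻¹ * (e' * v')⁻¹ ∈ Q := by
      have hm : e' * v' ∈ Q := mul_mem (mem_sup_right he') (mem_sup_left hv')
      refine mul_mem ?_ (inv_mem hm)
      rw [show x * (e' * v') * x⁻¹ = (x * e' * x⁻¹) * (x * v' * x⁻¹) by group]
      exact mul_mem (mem_sup_right (h.hc.conjE hxH he'))
        (mem_sup_left ((mem_normalizer_iff.1 (hK.le hx) v').1 hv'))
    obtain ⟨n, hn⟩ : ∃ n, Nat.card Q = 2 ^ n := by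
      have hp2 : IsPGroup 2 Q := by
        rw [hQ, sup_comm]
        exact IsPGroup.to_sup_of_normal_right'
          (IsPGroup.of_card h.hc.cardE) (IsPGroup.of_card h.card_V) hEVle
      exact IsPGroup.iff_card.1 hp2
    exact h.hc.mem_E_of_pow hq (two_pow_eq_one hn hqQ)
  have hRK : ∀ {k}, k ∈ R → x * k * x⁻¹ * k⁻¹ ∈ R := fun {k} hk =>
    ⟨mul_mem (mul_mem (mul_mem hx hk.1) (inv_mem hx)) (inv_mem hk.1), _, hEV hk, 1, one_mem _,
      (mul_one _).symm⟩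
  have hinj : Set.InjOn (fun k => x * k * x⁻¹ * k⁻¹) R := by
    intro k hk k' hk' e0
    have e0' : x * k * x⁻¹ * k⁻¹ = x * k' * x⁻¹ * k'⁻¹ := e0
    set d := k⁻¹ * k' with hd
    have hcomm : x * d * x⁻¹ = d := by
      calc x * d * x⁻¹ = (x * k * x⁻¹)⁻¹ * (x * k' * x⁻¹) := by rw [hd]; group
        _ = ((x * k * x⁻¹ * k⁻¹) * k)⁻¹ * ((x * k' * x⁻¹ * k'⁻¹) * k') := by group
        _ = d := by rw [e0', hd]; group
    obtain ⟨hkK, e1, he1, v1, hv1, hk1⟩ := hk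
    obtain ⟨hkK', e2, he2, v2, hv2, hk2⟩ := hk'
    have hed : ∃ e' ∈ c.E, ∃ v' ∈ h.V, d = e' * v' := by
      refine ⟨e1⁻¹ * e2, mul_mem (inv_mem he1) he2,
        (e2⁻¹ * e1 * v1⁻¹ * (e2⁻¹ * e1)⁻¹) * v2,
        mul_mem (h.E_conj_V (mul_mem (inv_mem he2) he1) (inv_mem hv1)) hv2, ?_⟩
      rw [hd, hk1, hk2]; group
    obtain ⟨e', he', v', hv', hde⟩ := hed
    have hA : ∀ {a b}, a ∈ h.A7 → b ∈ h.V → b * a * b⁻¹ = a := fun {a b} ha hb => by
      rw [h.V_comm hb (h.A7_le_V ha), mul_inv_cancel_right]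
    -- `p` fixes `d` modulo `A₇`
    have h1 : p * d * p⁻¹ * d⁻¹ ∈ h.A7 := by
      have hd' : d ∈ c.H := by rw [hde]; exact mul_mem (h.hc.le_H he') (h.V_le_H hv')
      have e3 : p * d * p⁻¹ * d⁻¹ = v0 * d * v0⁻¹ * d⁻¹ := by
        calc p * d * p⁻¹ * d⁻¹ = v0 * (x * d * x⁻¹) * v0⁻¹ * d⁻¹ := by rw [hpx]; group
          _ = v0 * d * v0⁻¹ * d⁻¹ := by rw [hcomm]
      rw [e3, hde, show v0 * (e' * v') * v0⁻¹ * (e' * v')⁻¹ =
        (v0 * e' * v0⁻¹ * e'⁻¹) * (e' * (v0 * v' * v0⁻¹ * v'⁻¹) * e'⁻¹) by group,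
        h.V_comm hv0 hv', mul_inv_cancel_right, mul_inv_cancel, mul_one, mul_inv_cancel, mul_one]
      exact E_V_comm h he' hv0
    obtain ⟨a1, ha1, w, hw, hv'e⟩ := hv'
    have hpw : p * w * p⁻¹ = w := by
      rw [h.hc.P_central hpP hw.1, mul_inv_cancel_right]
    have hpn' : c.pr p ∈ normalizer (W : Set A) := hpN.2
    have ha2 : p * a1 * p⁻¹ ∈ h.A7 :=
      h.A7_conj (c.C_le_Nh (h.hc.P_le_C hpP)) hpn' ha1
    set f := e' * a1 with hf
    have hfE : f ∈ c.E := mul_mem he' (mem_inf.1 ha1).1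
    have h2 : p * f * p⁻¹ * f⁻¹ ∈ h.A7 := by
      have e4 : p * d * p⁻¹ * d⁻¹ = p * f * p⁻¹ * f⁻¹ := by
        rw [hde, hv'e, show p * (e' * (a1 * w)) * p⁻¹ * (e' * (a1 * w))⁻¹ =
          (p * f * p⁻¹) * (p * w * p⁻¹) * w⁻¹ * f⁻¹ by rw [hf]; group, hpw, mul_inv_cancel_right]
      exact e4 ▸ h1
    have hfA : f ∈ h.A7 := by
      haveI := finite_sp h.hc
      rw [h.A7_eq_pre] at h2 ⊢
      refine ⟨hfE, ?_⟩
      set u := vec c f with hu
      have hpu : (spForm h.hc).ρ (spForm h.hc).p u + u ∈ h.X := by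
        have h3 := h2.2
        rw [vec_mul c (h.hc.conjE (h.hc.P_le hpP) hfE) (inv_mem hfE)] at h3
        rw [hu, spForm_ρ h.hc _ hfE]
        rwa [show vec c f⁻¹ = vec c f from (vec_eq_iff h.hc (inv_mem hfE) hfE).2 (by
          rcases h.hc.sq_mem hfE with e2 | e2
          · exact Or.inl (inv_eq_of_mul_eq_one_left e2)
          · exact Or.inr (inv_eq_of_mul_eq_one_left (by rw [mul_assoc, e2, h.hc.z_sq])))] at h3
      obtain ⟨u', hu', he''⟩ := h.P_surj_X hpu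
      have h4 : (spForm h.hc).ρ (spForm h.hc).p (u + u') = u + u' := by
        rw [map_add]
        have h5 : (spForm h.hc).ρ (spForm h.hc).p u' + u' + ((spForm h.hc).ρ (spForm h.hc).p u + u) = 0 := by
          rw [he'', add_self_sp]
        set r := (spForm h.hc).ρ (spForm h.hc).p u
        set r' := (spForm h.hc).ρ (spForm h.hc).p u'
        calc r + r' = r + r' + ((u + u) + (u' + u')) := by
              rw [add_self_sp, add_self_sp, add_zero, add_zero]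
          _ = (r' + u' + (r + u)) + (u + u') := by abel
          _ = u + u' := by rw [h5, zero_add]
      have h6 := (spForm h.hc).fpf _ h4
      rw [show u = u' by rw [← add_zero u, ← add_self_sp c u', ← add_assoc, h6, zero_add]]
      exact hu'
    have hdV : d ∈ h.V := by
      rw [hde, hv'e, show e' * (a1 * w) = f * w by rw [hf]; group]
      exact mul_mem (h.A7_le_V hfA) (h.E5_le_V hw)
    have hdm : d ∈ K ⊓ h.V := mem_inf.2 ⟨mul_mem (inv_mem hkK) hkK', hdV⟩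
    rw [hK.inf, mem_bot, hd, inv_mul_eq_one] at hdm
    exact hdm
  have hRfin : R.Finite := Set.toFinite _
  have hsurj : (fun k => x * k * x⁻¹ * k⁻¹) '' R = R :=
    Set.eq_of_subset_of_ncard_le (by rintro _ ⟨k, hk, rfl⟩; exact hRK hk)
      (le_of_eq (Set.ncard_image_of_injOn hinj).symm) hRfin
  have hmem : e * v ∈ R := ⟨hev, e, he, v, hv, rfl⟩
  rw [← hsurj] at hmem
  obtain ⟨k, hk, ek⟩ := hmem
  exact ek ▸ hEV hk

/-- `E` is the product of its intersections with `V` and `K`. -/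
theorem Compl.split (hK : Compl h K) {e : G} (he : e ∈ c.E) :
    ∃ a ∈ h.A7, ∃ k ∈ K, k ∈ c.E ∧ e = a * k := by
  obtain ⟨v, hv, k, hk, rfl⟩ := hK.decomp ((mem_inf.1 (h.NH_eq ▸ h.E_le_NH he)).2)
  have e1 : v * k * (k⁻¹ * v⁻¹ * k) = k := by group
  have hk' : k⁻¹ * v⁻¹ * k ∈ h.V := by
    simpa using (mem_normalizer_iff.1 (hK.le (inv_mem hk)) v⁻¹).1 (inv_mem hv)
  have hkE : k ∈ c.E := e1 ▸ hK.mem_E he hk' (e1.symm ▸ hk)
  refine ⟨v, ?_, k, hk, hkE, rfl⟩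
  rw [← h.V_inf_E]
  exact mem_inf.2 ⟨hv, by simpa using mul_mem he (inv_mem hkE)⟩

/-- The elements of `K ∩ H` fixing `A₇` modulo `⟨z⟩` lie in `E`. -/
theorem Compl.mem_E_of_fix (hK : Compl h K) {k : G} (hk : k ∈ K) (hkz : k * c.z = c.z * k)
    (hfix : ∀ a ∈ h.A7, c.Eqz a (k * a * k⁻¹)) : k ∈ c.E := by
  obtain ⟨hpP, hp1⟩ := spForm_p_mem h.hc
  set p : G := ((spForm h.hc).p : G) with hp
  have hkH : k ∈ c.H := c.mem_H.2 hkz.symm
  have hkN : k ∈ h.NH := h.NH_eq ▸ mem_inf.2 ⟨hkH, hK.le hk⟩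
  obtain ⟨e, he, n, hn, rfl⟩ := h.hc.frattini hkH
  have hnW : c.pr n ∈ normalizer (W : Set A) := by
    have := hkN.2
    rwa [h.hc.pr_mul _ (h.hc.le_H he) _ hn.1, h.hc.pr_E he, one_mul] at this
  have hpW : c.pr p ∈ normalizer (W : Set A) := by rw [h.hc.pr_P hpP]; exact one_mem _
  have hpA : ∀ a ∈ h.A7, p * a * p⁻¹ ∈ h.A7 := fun a ha =>
    h.A7_conj (c.C_le_Nh (h.hc.P_le_C hpP)) hpW ha
  have hnfix : ∀ a ∈ h.A7, c.Eqz a (n * a * n⁻¹) := by
    intro a ha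
    have hnE : n * a * n⁻¹ ∈ c.E := h.hc.conjE hn.1 (mem_inf.1 ha).1
    have h1 := hfix a ha
    rw [show e * n * a * (e * n)⁻¹ = e * (n * a * n⁻¹) * e⁻¹ by group] at h1
    exact h.hc.eqz_trans h1 (h.hc.eqz_symm (h.hc.eqz_E_conj he hnE))
  have hnC : n ∈ c.C := by
    by_contra hnC
    have hinv : n * p * n⁻¹ = p⁻¹ := by
      have hmem : n * p * n⁻¹ ∈ c.P := (mem_normalizer_iff.1 hn.2 p).1 hpP
      rcases h.hc.P_cases hpP hp1 hmem with e1 | e1 | e1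
      · exact absurd (by
          calc p = n⁻¹ * (n * p * n⁻¹) * n := by group
            _ = 1 := by rw [e1]; group) hp1
      · exfalso
        refine hnC (mem_inf.2 ⟨hn.1, mem_centralizer_iff.2 fun q hq => ?_⟩)
        have hcomm : Commute n p := (mul_inv_eq_iff_eq_mul.1 e1)
        rcases h.hc.P_cases hpP hp1 hq with rfl | rfl | rfl
        · rw [one_mul, mul_one]
        · exact hcomm.eq.symm
        · exact ((hcomm.mul_right hcomm).eq).symm
      · rw [e1]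
        have h3 : p ^ 3 = 1 :=
          orderOf_dvd_iff_pow_eq_one.1 (h.hc.cardP ▸ Subgroup.orderOf_dvd_natCard c.P hpP)
        rw [pow_three] at h3
        exact (inv_eq_of_mul_eq_one_right h3).symm
    have hall : h.A7 ≤ zpowers c.z := by
      intro a ha
      set b := p * a * p⁻¹ with hb
      have hbA := hpA a ha
      have hx : n * b * n⁻¹ = p⁻¹ * (n * a * n⁻¹) * p := by
        rw [hb, show n * (p * a * p⁻¹) * n⁻¹ = (n * p * n⁻¹) * (n * a * n⁻¹) * (n * p * n⁻¹)⁻¹ by group,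
          hinv, inv_inv]
      have h1 : c.Eqz b (p⁻¹ * (n * a * n⁻¹) * p) := hx ▸ hnfix b hbA
      have h2 : c.Eqz (p⁻¹ * a * p) (p⁻¹ * (n * a * n⁻¹) * p) := by
        have := h.hc.eqz_conj (inv_mem (h.hc.P_le hpP)) (hnfix a ha)
        rwa [inv_inv] at this
      have h3 : c.Eqz b (p⁻¹ * a * p) := h.hc.eqz_trans h1 (h.hc.eqz_symm h2)
      have h4 := h.hc.eqz_conj (h.hc.P_le hpP) h3
      rw [show p * (p⁻¹ * a * p) * p⁻¹ = a by group] at h4
      have hpp : p * p ∈ c.P := mul_mem hpP hpP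
      have hpp1 : p * p ≠ 1 := fun e1 => hp1 (by
        have h3 : p ^ 3 = 1 :=
          orderOf_dvd_iff_pow_eq_one.1 (h.hc.cardP ▸ Subgroup.orderOf_dvd_natCard c.P hpP)
        rwa [pow_three', e1, one_mul] at h3)
      refine h.hc.fpf hpp hpp1 (mem_inf.1 ha).1 (h.hc.eqz_symm ?_)
      rw [show p * p * a * (p * p)⁻¹ = p * b * p⁻¹ by rw [hb]; group]
      exact h4
    have := Subgroup.card_le_of_le hall
    rw [h.card_A7, Nat.card_zpowers, h.hc.ord] at this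
    norm_num at this
  have hnα : c.pr n ∈ W := h.pr_mem_W (n := ⟨n, hnC⟩) hnW fun u hu => by
    obtain ⟨a, ha, rfl⟩ := vec_surj c u
    have haA : a ∈ h.A7 := by rw [h.A7_eq_pre]; exact ⟨ha, hu⟩
    rw [spForm_ρ h.hc _ ha]
    exact (vec_eq_iff h.hc (h.hc.conjE hn.1 ha) ha).2 (hnfix a haA)
  obtain ⟨w, hw, hwn⟩ := h.E5_surj hnα
  have hq : n * w⁻¹ ∈ c.C := mul_mem hnC (inv_mem hw.1)
  obtain ⟨q, hqP, hqq⟩ := h.ker_mem hq
    (by rw [h.pr_mul_C hnC (inv_mem hw.1), h.pr_inv_C hw.1, hwn, mul_inv_cancel])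
  have hq1 : q = 1 := by
    by_contra hq1
    have hall : h.A7 ≤ zpowers c.z := by
      intro a ha
      refine h.hc.fpf hqP hq1 (mem_inf.1 ha).1 ?_
      have h1 := hnfix a ha
      have hwa : w * a * w⁻¹ = a := by rw [h.E5_A7 hw ha, mul_inv_cancel_right]
      rw [show n * a * n⁻¹ = (n * w⁻¹) * (w * a * w⁻¹) * (n * w⁻¹)⁻¹ by group, hwa] at h1
      rcases hqq with e1 | e1 <;> rw [e1] at h1
      · exact h1
      · have hqa : q * a * q⁻¹ ∈ c.E := h.hc.conjE (h.hc.P_le hqP) (mem_inf.1 ha).1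
        rwa [show c.z * q * a * (c.z * q)⁻¹ = c.z * (q * a * q⁻¹) * c.z⁻¹ by group,
          h.hc.z_comm hqa, mul_inv_cancel_right] at h1
    have := Subgroup.card_le_of_le hall
    rw [h.card_A7, Nat.card_zpowers, h.hc.ord] at this
    norm_num at this
  rw [hq1] at hqq
  rcases hqq with e1 | e1
  · rw [mul_inv_eq_one] at e1
    rw [e1] at hk ⊢
    exact hK.mem_E he (h.E5_le_V hw) hk
  · have hn' : e * n = (e * c.z) * w := by
      rw [show n = n * w⁻¹ * w by group, e1]; group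
    rw [hn'] at hk ⊢
    exact hK.mem_E (mul_mem he h.hc.z_mem) (h.E5_le_V hw) hk

end Cfsg.Agent.H38.JFour
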