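import Cfsg.Agent.H38.JFour.Recog
import Cfsg.Agent.H38.JFour.Cocode

/-!
A dictionary between the elementary abelian group and the even part of the cocode of length 24.
-/

set_option autoImplicit false

namespace Cfsg.Agent.H38.JFour

open Cfsg Cfsg.Agent.Golay
open scoped Pointwise symmDiff

variable {V : Type*} [CommGroup V]

/-- The dictionary: each element of `N` is the product attached to a pair of points. -/
structure Dict (Γ : Subgroup (MulAut V)) (N : Set V) (t : V) where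
  Ψ : ↥Γ ≃* ↥Cfsg.M24
  g : GolayPt → V
  sq : ∀ v : V, v * v = 1
  card_V : Nat.card V = 2048
  one_N : (1 : V) ∉ N
  t_eq : g none * g (some 0) = t
  pair_N : ∀ a b, a ≠ b → g a * g b ∈ N
  N_pair : ∀ v ∈ N, ∃ a b, a ≠ b ∧ g a * g b = v
  four : ∀ v, v ≠ 1 → v ∉ N → ∃ a b a' b', g a * g b * (g a' * g b') = v
  octad : ∀ O ∈ Cfsg.octads, ∏ p ∈ O, g p = 1
  equiv : ∀ (γ : ↥Γ) a b, (γ : MulAut V) (g a * g b) =
    g (((Ψ γ : ↥Cfsg.M24) : Equiv.Perm GolayPt) a) * g (((Ψ γ : ↥Cfsg.M24) : Equiv.Perm GolayPt) b)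

theorem exists_dict [Finite V] {Γ : Subgroup (MulAut V)} (D : Pairs Γ) {t : V} (ht : t ∈ D.N) :
    Nonempty (Dict Γ D.N t) := by
  classical
  obtain ⟨Ψ₀, -⟩ := recognise D
  let i1 := Fintype.ofFinite D.Star
  have hstar : Fintype.card D.Star = 24 := by rw [← Nat.card_eq_fintype_card, D.card_star]
  obtain ⟨e, heX, he⟩ := H29.exists_embed24 hstar D.blocks_isSteiner
  have hbij : Function.Bijective e := by
    refine ⟨e.injective, fun p => ?_⟩
    obtain ⟨x, -, hx⟩ := Finset.mem_map.1 (heX.symm ▸ Finset.mem_univ p)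
    exact ⟨x, hx⟩
  let E := Equiv.ofBijective e hbij
  have hK : (Cfsg.setSystemAut D.blocks).map (Equiv.Perm.viaEmbeddingHom e) = Cfsg.M24 := by
    ext σ
    rw [H29.aut_map_viaEmbedding e he, H29.smul_octads_iff]
    exact and_iff_right fun p hp => absurd (heX.symm ▸ Finset.mem_univ p) hp
  obtain ⟨φ, hφ⟩ := H29.aut_equiv e hK
  have hmem : ∀ g : ↥Γ, D.act g ∈ Cfsg.setSystemAut D.blocks := by
    intro g
    refine MulAction.mem_stabilizer_iff.2 (Set.ext fun b => ?_)
    constructor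
    · rintro ⟨c, hc, rfl⟩
      exact D.act_blocks g hc
    · intro hb
      refine ⟨D.act g⁻¹ • b, D.act_blocks g⁻¹ hb, ?_⟩
      show D.act g • (D.act g⁻¹ • b) = b
      rw [smul_smul, ← map_mul, mul_inv_cancel, map_one, one_smul]
  let Φ : ↥Γ →* ↥Cfsg.M24 := φ.toMonoidHom.comp (D.act.codRestrict _ hmem)
  have hinj : Function.Injective Φ := φ.injective.comp fun a b h =>
    D.act_injective (congrArg Subtype.val h)
  have hbijΦ : Function.Bijective Φ := by
    rw [Nat.bijective_iff_injective_and_card]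
    exact ⟨hinj, Nat.card_congr Ψ₀.toEquiv⟩
  obtain ⟨a, b, hab, ha, hb, -⟩ := D.two_stars ht
  have h2 : MulAction.IsMultiplyPretransitive ↥Cfsg.M24 GolayPt 2 := by
    have := S0366.result
    exact MulAction.isMultiplyPretransitive_of_le (n := 5) (by norm_num) (by
      rw [Nat.card_eq_fintype_card]; decide)
  obtain ⟨m, hma, hmb⟩ :=
    MulAction.is_two_pretransitive_iff.1 h2 (show E a ≠ E b from E.injective.ne hab)
      (show (none : GolayPt) ≠ some 0 from Option.some_ne_none _ |>.symm)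
  let σ : Equiv.Perm GolayPt := (m : Equiv.Perm GolayPt)
  let g : GolayPt → V := fun p => D.g₀ (E.symm (σ.symm p))
  have hg : ∀ x y : D.Star, g (σ (E x)) * g (σ (E y)) = D.e x y := fun x y => by
    simp [g, D.g_mul]
  have hgf : ∀ p q : GolayPt, g p * g q = D.e (E.symm (σ.symm p)) (E.symm (σ.symm q)) := fun p q => by
    simp [g, D.g_mul]
  refine ⟨{
    Ψ := (MulEquiv.ofBijective Φ hbijΦ).trans (MulAut.conj m)
    g := g
    sq := D.sq
    card_V := D.card_V
    one_N := D.one_N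
    t_eq := ?_
    pair_N := fun p q hpq => ?_
    N_pair := fun v hv => ?_
    four := fun v hv1 hvN => ?_
    octad := fun O hO => ?_
    equiv := fun γ p q => ?_ }⟩
  · rw [← hma, ← hmb]
    show g (σ (E a)) * g (σ (E b)) = t
    rw [hg, D.e_eq hab ha hb]
  · rw [hgf]
    exact D.e_N fun e => hpq (σ.symm.injective (E.symm.injective e))
  · obtain ⟨x, y, hxy, hx, hy, -⟩ := D.two_stars hv
    exact ⟨σ (E x), σ (E y), σ.injective.ne (E.injective.ne hxy), by rw [hg, D.e_eq hxy hx hy]⟩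
  · obtain ⟨u, hu, hφu⟩ := D.four_fibre.1 v hv1 hvN
    obtain ⟨x, y, x', y', h1, h2', h3, h4, h5, h6, rfl⟩ := Finset.card_eq_four.1 hu
    refine ⟨σ (E x), σ (E y), σ (E x'), σ (E y'), ?_⟩
    rw [hg, hg, ← hφu, Pairs.φ, Finset.prod_insert (by simp [h1, h2', h3]),
      Finset.prod_insert (by simp [h4, h5]), Finset.prod_pair h6, ← mul_assoc, D.g_mul, D.g_mul]
  · have hO' : σ⁻¹ • O ∈ H29.mapSys e D.blocks := by
      rw [he]
      have hs := H29.smul_octads_iff.1 (inv_mem m.2 : σ⁻¹ ∈ Cfsg.M24)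
      rw [← hs]
      exact Set.smul_mem_smul_set hO
    obtain ⟨B, hB, hBO⟩ := hO'
    have e1 : ∏ p ∈ O, g p = D.φ B := by
      have hBO' : O = σ • (B.map e) := by
        rw [show B.map e = σ⁻¹ • O from hBO, smul_inv_smul]
      rw [hBO', H29.smul_eq_map, Finset.prod_map, Finset.prod_map, Pairs.φ]
      refine Finset.prod_congr rfl fun x _ => ?_
      show D.g₀ (E.symm (σ.symm (σ (e x)))) = D.g₀ x
      rw [Equiv.symm_apply_apply, show e x = E x from rfl, Equiv.symm_apply_apply]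
    rw [e1, hB.2]
  · obtain ⟨x, rfl⟩ := (E.trans σ).surjective p
    obtain ⟨y, rfl⟩ := (E.trans σ).surjective q
    have key : ∀ z : D.Star, ((((MulEquiv.ofBijective Φ hbijΦ).trans (MulAut.conj m)) γ : ↥Cfsg.M24) :
        Equiv.Perm GolayPt) (σ (E z)) = σ (E (D.act γ z)) := fun z => by
      show σ (((φ _ : ↥Cfsg.M24) : Equiv.Perm GolayPt) (σ.symm (σ (e z)))) = σ (e (D.act γ z))
      rw [Equiv.symm_apply_apply, hφ]
      rfl
    simp only [Equiv.trans_apply]
    rw [hg, ← D.e_act, key, key, hg]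

namespace Dict

variable {Γ : Subgroup (MulAut V)} {N : Set V} {t : V} (D : Dict Γ N t)
include D

/-- The product over a mask. -/
noncomputable def φ (m : ℕ) : V := ∏ p ∈ ptSet m, D.g p

theorem φ_zero : D.φ 0 = 1 := by rw [φ, ptSet_zero, Finset.prod_empty]

theorem φ_xor (a b : ℕ) : D.φ (a ^^^ b) = D.φ a * D.φ b := by
  classical
  rw [φ, φ, φ, ptSet_xor]
  set s := ptSet a
  set r := ptSet b
  have hs : ∏ p ∈ s, D.g p = (∏ p ∈ s \ r, D.g p) * ∏ p ∈ s ∩ r, D.g p := by
    rw [← Finset.prod_union (Finset.disjoint_sdiff_inter s r), Finset.sdiff_union_inter]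
  have hr : ∏ p ∈ r, D.g p = (∏ p ∈ r \ s, D.g p) * ∏ p ∈ s ∩ r, D.g p := by
    rw [Finset.inter_comm, ← Finset.prod_union (Finset.disjoint_sdiff_inter r s),
      Finset.sdiff_union_inter]
  rw [hs, hr, mul_mul_mul_comm, D.sq, mul_one]
  exact Finset.prod_union disjoint_sdiff_sdiff

theorem φ_red (m : ℕ) : D.φ (red m) = D.φ m := by
  have h : ∀ (l : List (ℕ × ℕ)), (∀ q ∈ l, q.2 ∈ octadList) → ∀ acc,
      D.φ (l.foldl redStep acc) = D.φ acc := by
    intro l
    induction l with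
    | nil => intro _ acc; rfl
    | cons q l ih =>
      intro hl acc
      rw [List.foldl_cons, ih (fun x hx => hl x (List.mem_cons_of_mem _ hx)), redStep]
      split_ifs
      · rw [D.φ_xor, show D.φ q.2 = 1 from D.octad _ (ptSet_mem_octads (hl q List.mem_cons_self)),
          mul_one]
      · rfl
  refine h rowList (fun q hq => ?_) m
  have := duad_check.2.2.1
  rw [List.all_eq_true] at this
  exact List.contains_iff_mem.1 (this q hq)

theorem φ_pair {i j : ℕ} (hi : i < 24) (hj : j < 24) : D.φ (pairS i j) = D.g (pt i) * D.g (pt j) := by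
  have h1 : ∀ k, k < 24 → D.φ (2 ^ k) = D.g (pt k) := fun k hk => by
    have hs : ptSet (2 ^ k) = {pt k} := by
      ext p
      rw [mem_ptSet, Finset.mem_singleton, Nat.testBit_two_pow, decide_eq_true_eq]
      constructor
      · intro e; rw [e, pt_idx]
      · intro e; rw [e, idx_pt k hk]
    rw [φ, hs, Finset.prod_singleton]
  rw [pairS, D.φ_red, D.φ_xor, h1 i hi, h1 j hj]

theorem φ_duad_N {s : ℕ} (h : isDuad s = true) : D.φ s ∈ N := by
  obtain ⟨i, j, hij, hj, rfl⟩ := isDuad_iff.1 h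
  rw [D.φ_pair (hij.trans hj) hj]
  exact D.pair_N _ _ fun e => hij.ne ((pt_inj (hij.trans hj) hj).1 e)

theorem exists_duad {v : V} (hv : v ∈ N) : ∃ s, isDuad s = true ∧ D.φ s = v := by
  obtain ⟨a, b, hab, rfl⟩ := D.N_pair v hv
  rcases lt_or_gt_of_ne (idx_injective.ne hab) with h | h
  · exact ⟨pairS (idx a) (idx b), isDuad_iff.2 ⟨_, _, h, idx_lt b, rfl⟩,
      by rw [D.φ_pair (idx_lt a) (idx_lt b), pt_idx, pt_idx]⟩
  · exact ⟨pairS (idx b) (idx a), isDuad_iff.2 ⟨_, _, h, idx_lt a, rfl⟩,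
      by rw [D.φ_pair (idx_lt b) (idx_lt a), pt_idx, pt_idx, mul_comm]⟩

theorem exists_ev (v : V) : ∃ s, ev s = true ∧ D.φ s = v := by
  by_cases h1 : v = 1
  · exact ⟨0, ev_zero, by rw [D.φ_zero, h1]⟩
  by_cases h2 : v ∈ N
  · obtain ⟨s, hs, e⟩ := D.exists_duad h2
    exact ⟨s, (ev_of_isDuad hs).1, e⟩
  obtain ⟨a, b, a', b', rfl⟩ := D.four v h1 h2
  have key : ∀ p q : GolayPt, ∃ s, ev s = true ∧ D.φ s = D.g p * D.g q := fun p q => by
    by_cases e : p = q
    · exact ⟨0, ev_zero, by rw [D.φ_zero, e, D.sq]⟩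
    · obtain ⟨s, hs, e'⟩ := D.exists_duad (D.pair_N p q e)
      exact ⟨s, (ev_of_isDuad hs).1, e'⟩
  obtain ⟨s, hs, e⟩ := key a b
  obtain ⟨s', hs', e'⟩ := key a' b'
  exact ⟨s ^^^ s', ev_xor hs hs', by rw [D.φ_xor, e, e']⟩

theorem φ_inj {s s' : ℕ} (hs : ev s = true) (hs' : ev s' = true) (h : D.φ s = D.φ s') : s = s' := by
  classical
  set L := (List.range (2 ^ 12)).filter ev with hL
  have hmem : ∀ {x}, ev x = true → x ∈ L.toFinset := fun {x} hx => by
    have : x < 2 ^ 12 := by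
      simp only [ev, Bool.and_eq_true, decide_eq_true_eq] at hx; exact hx.1
    exact List.mem_toFinset.2 (List.mem_filter.2 ⟨List.mem_range.2 this, hx⟩)
  haveI : Finite V := Nat.finite_of_card_ne_zero (by rw [D.card_V]; norm_num)
  letI := Fintype.ofFinite V
  have hcard : L.toFinset.card = Fintype.card V := by
    rw [List.toFinset_card_of_nodup (List.nodup_range.filter _), duad_check.2.2.2,
      ← Nat.card_eq_fintype_card, D.card_V]
  have himg : L.toFinset.image D.φ = Finset.univ := Finset.eq_univ_of_forall fun v => by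
    obtain ⟨x, hx, e⟩ := D.exists_ev v
    exact Finset.mem_image.2 ⟨x, hmem hx, e⟩
  exact Finset.card_image_iff.1 (by rw [himg, Finset.card_univ, hcard]) (hmem hs) (hmem hs') h

theorem mem_N_iff {s : ℕ} (hs : ev s = true) : D.φ s ∈ N ↔ isDuad s = true := by
  refine ⟨fun h => ?_, D.φ_duad_N⟩
  obtain ⟨d, hd, e⟩ := D.exists_duad h
  rwa [← D.φ_inj (ev_of_isDuad hd).1 hs e]

theorem φ_t : D.φ (pairS 23 0) = t := by
  rw [D.φ_pair (by norm_num) (by norm_num)]
  exact D.t_eq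

theorem φ_smul (γ : ↥Γ) {s : Finset GolayPt} (hs : Even s.card) :
    (γ : MulAut V) (∏ p ∈ s, D.g p) =
      ∏ p ∈ ((D.Ψ γ : ↥Cfsg.M24) : Equiv.Perm GolayPt) • s, D.g p := by
  classical
  obtain ⟨k, hk⟩ := hs
  set σ := ((D.Ψ γ : ↥Cfsg.M24) : Equiv.Perm GolayPt)
  have hinv : ∀ v : V, v⁻¹ = v := fun v => inv_eq_of_mul_eq_one_right (D.sq v)
  have h1 : ∀ x ∈ s, (γ : MulAut V) (D.g x) =
      ((γ : MulAut V) (D.g none) * D.g (σ none)) * D.g (σ x) := fun x _ => by
    have h := D.equiv γ none x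
    rw [map_mul] at h
    rw [mul_assoc, ← h, ← mul_assoc, D.sq, one_mul]
  rw [map_prod, Finset.prod_congr rfl h1, Finset.prod_mul_distrib, Finset.prod_const, hk, pow_add,
    D.sq, one_mul, H29.smul_eq_map, Finset.prod_map]
  rfl

theorem φ_img (γ : ↥Γ) {T s : ℕ} (hT : validT T = true)
    (hσ : mkPerm T = ((D.Ψ γ : ↥Cfsg.M24) : Equiv.Perm GolayPt)) (hs : Even (ptSet s).card) :
    (γ : MulAut V) (D.φ s) = D.φ (img T s) := by
  rw [img, D.φ_red, φ, φ, ptSet_tblImg hT, hσ]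
  exact D.φ_smul γ hs

end Dict

end Cfsg.Agent.H38.JFour
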