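import Cfsg.Agent.H38.JFour.Cocode

/-!
Linear maps of the even syndromes given by the images of a basis.
-/

set_option autoImplicit false

namespace Cfsg.Agent.H38.JFour

/-- A basis of the even syndromes. -/
def basisE : List ℕ := (List.range 11).map fun i => 3 <<< i

/-- The images of the basis. -/
def linGens (T : ℕ) : List ℕ := basisE.map (img T)

/-- The sum of those entries at whose position the parity of the lower bits is odd. -/
def linAux : List ℕ → ℕ → ℕ → Bool → ℕ → ℕ
  | [], _, _, _, acc => acc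
  | g :: gs, s, i, p, acc =>
    linAux gs s (i + 1) (xor p (s.testBit i)) (bif xor p (s.testBit i) then acc ^^^ g else acc)

/-- The linear map with the given images. -/
def lin (gs : List ℕ) (s : ℕ) : ℕ := linAux gs s 0 false 0

/-- All pairs of sums over the same positions. -/
def pairFold : List ℕ → List ℕ → List (ℕ × ℕ) → List (ℕ × ℕ)
  | b :: bs, g :: gs, r => pairFold bs gs (r.flatMap fun q => [q, (q.1 ^^^ b, q.2 ^^^ g)])
  | _, _, r => r

/-- The graph of the linear map. -/
def graphL (gs : List ℕ) : List (ℕ × ℕ) := pairFold basisE gs [(0, 0)]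

/-- The fixed syndromes. -/
def fixedList (gs : List ℕ) : List ℕ :=
  ((graphL gs).filter fun q => q.1 == q.2).map Prod.fst

/-- The syndromes of the form `u + k u`, as a mask. -/
def imMask (gs : List ℕ) : ℕ :=
  ((graphL gs).map fun q => q.1 ^^^ q.2).foldl (fun a i => a ||| 2 ^ i) 0

lemma basis_check : ((List.range (2 ^ 12)).all fun s => !ev s || lin basisE s == s) = true ∧
    basisE.all ev = true := by
  decide +kernel

theorem lin_basis {s : ℕ} (h : ev s = true) : lin basisE s = s := by
  have hlt : s < 2 ^ 12 := by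
    simp only [ev, Bool.and_eq_true, decide_eq_true_eq] at h; exact h.1
  have hc := basis_check.1
  simp only [List.all_eq_true, List.mem_range, Bool.or_eq_true, Bool.not_eq_true', beq_iff_eq] at hc
  exact (hc s hlt).resolve_left (by rw [h]; simp)

theorem linAux_mem : ∀ (bs gs : List ℕ) (s i : ℕ) (p : Bool) (x y : ℕ) (r : List (ℕ × ℕ)),
    bs.length = gs.length → (x, y) ∈ r →
    (linAux bs s i p x, linAux gs s i p y) ∈ pairFold bs gs r
  | [], [], _, _, _, _, _, _, _, hm => hm
  | [], _ :: _, _, _, _, _, _, _, h, _ => by simp at h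
  | _ :: _, [], _, _, _, _, _, _, h, _ => by simp at h
  | b :: bs, g :: gs, s, i, p, x, y, r, h, hm => by
    rw [linAux, linAux, pairFold]
    refine linAux_mem bs gs s _ _ _ _ _ (by simpa using h) (List.mem_flatMap.2 ⟨_, hm, ?_⟩)
    cases xor p (s.testBit i) <;> simp

theorem pairFold_rel (R : ℕ → ℕ → Prop) (hxor : ∀ a b a' b', R a b → R a' b' → R (a ^^^ a') (b ^^^ b')) :
    ∀ (bs gs : List ℕ) (r : List (ℕ × ℕ)), List.Forall₂ R bs gs → (∀ q ∈ r, R q.1 q.2) →
      ∀ q ∈ pairFold bs gs r, R q.1 q.2
  | [], gs, r, hf, hr => by cases hf; exact hr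
  | b :: bs, gs, r, hf, hr => by
    cases hf with
    | cons hbg hrest =>
      refine pairFold_rel R hxor bs _ _ hrest fun q hq => ?_
      obtain ⟨q', hq', hm⟩ := List.mem_flatMap.1 hq
      simp only [List.mem_cons, List.not_mem_nil, or_false] at hm
      rcases hm with rfl | rfl
      exacts [hr _ hq', hxor _ _ _ _ (hr _ hq') hbg]

theorem lin_mem_graph {gs : List ℕ} (hl : gs.length = 11) {s : ℕ} (h : ev s = true) :
    (s, lin gs s) ∈ graphL gs := by
  have := linAux_mem basisE gs s 0 false 0 0 [(0, 0)] (by simp [basisE, hl]) List.mem_cons_self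
  rwa [show linAux basisE s 0 false 0 = s from lin_basis h] at this

theorem mem_fixedList {gs : List ℕ} (hl : gs.length = 11) {s : ℕ} (h : ev s = true)
    (he : lin gs s = s) : s ∈ fixedList gs := by
  refine List.mem_map.2 ⟨(s, lin gs s), List.mem_filter.2 ⟨lin_mem_graph hl h, ?_⟩, rfl⟩
  rw [he]; simp

theorem graphL_rel (R : ℕ → ℕ → Prop) (h0 : R 0 0)
    (hxor : ∀ a b a' b', R a b → R a' b' → R (a ^^^ a') (b ^^^ b')) {gs : List ℕ}
    (hf : List.Forall₂ R basisE gs) : ∀ q ∈ graphL gs, R q.1 q.2 :=
  pairFold_rel R hxor _ _ _ hf fun q hq => by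
    rw [List.mem_singleton] at hq
    rw [hq]; exact h0

end Cfsg.Agent.H38.JFour
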