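import Cfsg.Agent.H61.ZStarInst
import Cfsg.Agent.Coprime.Generation
import Cfsg.Prelude.Def_JankoFourType
import Cfsg.Prelude.Def_Transfer

/-!
Groups of Janko-four type: the centraliser of an involution `t` of `V` that is not conjugate to `z`
normalises `V`. The argument works from the properties collected in `TCfg` and `TModel`; no other
property of `G` is used.
-/

set_option autoImplicit false

namespace Cfsg.Agent.H38.JFour

open Cfsg Subgroup

universe u

variable {G : Type u} [Group G] [Finite G]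

/-- The properties of `z`, `V` and `t`. -/
structure TCfg (z : G) (V : Subgroup G) (t : G) : Prop where
  V_elem : IsElementaryAbelian 2 V
  t_V : t ∈ V
  t_sq : t * t = 1
  t_not : ¬ IsConj z t
  z_ne : z ≠ 1
  weak : ∀ g : G, (∀ v ∈ V, g * v * g⁻¹ ∈ normalizer (V : Set G)) → g ∈ normalizer (V : Set G)
  two_cent : ∀ a ∈ V, IsConj z a → centralizer ({a} : Set G) ⊓ centralizer ({t} : Set G) ≤
    normalizer (V : Set G)
  equiv : ∀ g x : G, twoCoreOfCentralizer (g * x * g⁻¹) =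
    (twoCoreOfCentralizer x).map (MulAut.conj g).toMonoidHom
  E_le : ∀ x : G, twoCoreOfCentralizer x ≤ centralizer ({x} : Set G)
  E_norm : ∀ x : G, centralizer ({x} : Set G) ≤ normalizer (twoCoreOfCentralizer x : Set G)
  E_comm : ∀ x : G, IsConj z x → ∀ p ∈ twoCoreOfCentralizer x, ∀ q ∈ twoCoreOfCentralizer x,
    p * q * p⁻¹ * q⁻¹ = 1 ∨ p * q * p⁻¹ * q⁻¹ = x
  E_sq : ∀ x : G, IsConj z x → ∀ p ∈ twoCoreOfCentralizer x, p * p = 1 ∨ p * p = x
  E_cent : ∀ x : G, IsConj z x → ∀ p ∈ twoCoreOfCentralizer x, ∀ q ∈ twoCoreOfCentralizer x,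
    p ≠ 1 → p ≠ x → twoCoreOfCentralizer x ⊓ centralizer ({p} : Set G) ≤ centralizer ({q} : Set G) →
    q = 1 ∨ q = x ∨ q = p ∨ q = x * p
  E_index : ∀ x : G, IsConj z x → ∀ p ∈ twoCoreOfCentralizer x, p ≠ 1 → p ≠ x →
    Nat.card ↥(twoCoreOfCentralizer x ⊓ centralizer ({p} : Set G)) = 2 ^ 12
  symm : ∀ x y : G, IsConj z x → IsConj z y → y ∈ twoCoreOfCentralizer x →
    x ∈ twoCoreOfCentralizer y
  spread : ∀ x g : G, IsConj z x → g⁻¹ * x * g ∈ V → ∀ R : Subgroup G,
    R ≤ centralizer ({x} : Set G) →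
    (∀ p ∈ R, p * p ∈ twoCoreOfCentralizer x) →
    (∀ p ∈ R, ∀ q ∈ R, p * q * p⁻¹ * q⁻¹ ∈ twoCoreOfCentralizer x) →
    2 ^ 11 ≤ Nat.card ↥(R ⊓ (normalizer (V : Set G)).map (MulAut.conj g).toMonoidHom) →
    Nat.card ↥(R ⊓ twoCoreOfCentralizer x) ≤ 2 ^ 7 →
    R ≤ (normalizer (V : Set G)).map (MulAut.conj g).toMonoidHom
  E_meet : ∀ x y : G, IsConj z x → IsConj z y → x ≠ y → y ∈ twoCoreOfCentralizer x →
    Nat.card ↥(twoCoreOfCentralizer x ⊓ twoCoreOfCentralizer y) ≤ 2 ^ 7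
  intra : ∀ a ∈ V, IsConj z a → ¬ IsConj z (a * t) → t ∈ twoCoreOfCentralizer a

/-- An element of `V` conjugate to `z` whose product with `t` is not. -/
def TypeOne (z : G) (V : Subgroup G) (t a : G) : Prop := a ∈ V ∧ IsConj z a ∧ ¬ IsConj z (a * t)

/-- An element of `V` conjugate to `z` whose product with `t` is too. -/
def TypeTwo (z : G) (V : Subgroup G) (t a : G) : Prop := a ∈ V ∧ IsConj z a ∧ IsConj z (a * t)

/-- An involution of `C(t)` in `N(V)` outside `V`. -/
def Outside (V : Subgroup G) (t c : G) : Prop :=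
  c ∈ normalizer (V : Set G) ∧ c * t = t * c ∧ c * c = 1 ∧ c ∉ V

/-- A pair `c`, `c t` outside the class of `z`. -/
def Pure (z : G) (t c : G) : Prop := ¬ IsConj z c ∧ ¬ IsConj z (c * t)

/-- The facts read off from the model of `N(V)`. -/
structure TModel (z : G) (V : Subgroup G) (t : G) (Fix Swap : G → Prop) : Prop where
  cover : ∀ c, Outside V t c → ∃ a, TypeOne z V t a ∧ c ∈ twoCoreOfCentralizer a
  two : ∀ c, Outside V t c → ∃ b, TypeTwo z V t b ∧ c * b = b * c
  one_any : ∃ a, TypeOne z V t a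
  two_any : ∃ b, TypeTwo z V t b
  dich : ∀ c, Outside V t c → Pure z t c → Fix c ∨ Swap c
  swap_mul : ∀ c d, Outside V t c → Outside V t d → c * d = d * c → c * d ∉ V →
    Swap c → Swap d → ¬ Swap (c * d)
  swap_tri : ∀ c u, Outside V t c → Swap c → u ∈ V → u ≠ 1 → u ≠ t → Pure z t u → c * u ≠ u * c
  tri_eight : ∀ u w, u ∈ V → w ∈ V → u ≠ 1 → u ≠ t → w ≠ 1 → w ≠ t → w ≠ u → w ≠ u * t →
    Pure z t u → Pure z t w → ¬ Pure z t (u * w)
  tri_one : ∀ u, u ∈ V → u ≠ 1 → u ≠ t → Pure z t u →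
    ∃ a, TypeOne z V t a ∧ ¬ IsConj z (a * u) ∧ ¬ IsConj z (a * (u * t))
  tri_two : ∀ u, u ∈ V → u ≠ 1 → u ≠ t → Pure z t u →
    ∃ b, TypeTwo z V t b ∧ ∀ π ∈ ({u, u * t} : Set G),
      IsConj z (b * π) → IsConj z (b * π * t)
  fix_unique : ∀ c a a', Outside V t c → Fix c → Pure z t c → TypeOne z V t a →
    TypeOne z V t a' → c ∈ twoCoreOfCentralizer a → c ∈ twoCoreOfCentralizer a' → a = a'
  fix_second : ∀ c a, Outside V t c → Fix c → Pure z t c → TypeOne z V t a →
    c ∈ twoCoreOfCentralizer a →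
    ∃ b ∈ V, IsConj z b ∧ IsConj z (a * b) ∧ b ≠ a ∧ c * b = b * c

variable {z : G} {V : Subgroup G} {t : G}

theorem cent_mem {t g : G} : g ∈ centralizer ({t} : Set G) ↔ g * t = t * g := by
  rw [mem_centralizer_singleton_iff]

theorem conj_of_comm {g x : G} (h : g * x = x * g) : g * x * g⁻¹ = x := by
  rw [h, mul_inv_cancel_right]

theorem comm_of_conj {g x : G} (h : g * x * g⁻¹ = x) : g * x = x * g := by
  calc g * x = g * x * g⁻¹ * g := by group
    _ = x * g := by rw [h]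

theorem isConj_conj (g : G) {x : G} : IsConj z (g * x * g⁻¹) ↔ IsConj z x :=
  ⟨fun h => h.trans (isConj_iff.2 ⟨g⁻¹, by group⟩), fun h => h.trans (isConj_iff.2 ⟨g, rfl⟩)⟩

namespace TCfg

variable (S : TCfg z V t)
include S

theorem comm_V {a b : G} (ha : a ∈ V) (hb : b ∈ V) : a * b = b * a :=
  congrArg Subtype.val (S.V_elem.1.is_comm.comm ⟨a, ha⟩ ⟨b, hb⟩)

theorem sq_V {a : G} (ha : a ∈ V) : a * a = 1 := by rw [← sq]; exact S.V_elem.2 a ha

theorem V_le : V ≤ normalizer (V : Set G) := fun a ha => mem_normalizer_iff.2 fun x =>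
  ⟨fun hx => V.mul_mem (V.mul_mem ha hx) (V.inv_mem ha),
   fun hx => by simpa [mul_assoc] using V.mul_mem (V.mul_mem (V.inv_mem ha) hx) ha⟩

/-- The centraliser of a `z`-element of `V` and `t` normalises `V`. -/
theorem le_N {a g : G} (ha : a ∈ V) (hz : IsConj z a) (h1 : g * a = a * g) (h2 : g * t = t * g) :
    g ∈ normalizer (V : Set G) :=
  S.two_cent a ha hz (mem_inf.2 ⟨cent_mem.2 h1, cent_mem.2 h2⟩)

theorem E_equiv {g x p : G} :
    g * p * g⁻¹ ∈ twoCoreOfCentralizer (g * x * g⁻¹) ↔ p ∈ twoCoreOfCentralizer x := by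
  rw [S.equiv, Subgroup.mem_map_equiv]
  simp [MulAut.conj_symm_apply, mul_assoc]

theorem E_equiv' {g x p : G} (h : p ∈ twoCoreOfCentralizer x) :
    g⁻¹ * p * g ∈ twoCoreOfCentralizer (g⁻¹ * x * g) := by
  have := (S.E_equiv (g := g⁻¹) (x := x) (p := p)).2 h
  rwa [inv_inv] at this

theorem mem_E_self_comm {x p : G} (h : p ∈ twoCoreOfCentralizer x) : p * x = x * p :=
  cent_mem.1 (S.E_le x h)

/-- An element of `C(t)` carrying `V` into `N(V)` lies in it. -/
theorem back {g : G} (h : ∀ v ∈ V, g * v * g⁻¹ ∈ normalizer (V : Set G)) :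
    g ∈ normalizer (V : Set G) := S.weak g h

variable {Fix Swap : G → Prop} (F : TModel z V t Fix Swap)
include F

/-- Good: the `C(t)`-conjugates inside `N(V)` lie in `V`. -/
theorem good_one {a y : G} (ha : TypeOne z V t a) (hy : y * t = t * y)
    (hM : y * a * y⁻¹ ∈ normalizer (V : Set G)) : y * a * y⁻¹ ∈ V := by
  obtain ⟨haV, haz, hat⟩ := ha
  by_contra hx
  set x := y * a * y⁻¹ with hxdef
  have hyt : y * t * y⁻¹ = t := conj_of_comm hy
  have hxt : x * t = t * x := by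
    rw [hxdef]
    nth_rewrite 1 [← hyt]
    nth_rewrite 2 [← hyt]
    rw [show y * a * y⁻¹ * (y * t * y⁻¹) = y * (a * t) * y⁻¹ by group, S.comm_V haV S.t_V]
    group
  have hxx : x * x = 1 := by
    rw [hxdef, show y * a * y⁻¹ * (y * a * y⁻¹) = y * (a * a) * y⁻¹ by group, S.sq_V haV]; group
  obtain ⟨w, ⟨hwV, hwz, hwt⟩, hxw⟩ := F.cover x ⟨hM, hxt, hxx, hx⟩
  have hxz : IsConj z x := (isConj_conj y).2 haz
  have hwx : w ∈ twoCoreOfCentralizer x := S.symm w x hwz hxz hxw
  have htw : t ∈ twoCoreOfCentralizer w := S.intra w hwV hwz hwt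
  have htx : t ∈ twoCoreOfCentralizer x := by
    have := (S.E_equiv (g := y)).2 (S.intra a haV haz hat)
    rwa [hyt, ← hxdef] at this
  have hxne : x ≠ 1 := fun e => hx (e ▸ V.one_mem)
  have hxw' : x ≠ w := fun e => hx (e ▸ hwV)
  set R : Subgroup G := twoCoreOfCentralizer w ⊓ centralizer ({x} : Set G) with hR
  set N' := (normalizer (V : Set G)).map (MulAut.conj y).toMonoidHom with hN'
  have hmemN : ∀ g, g ∈ N' ↔ y⁻¹ * g * y ∈ normalizer (V : Set G) := fun g => by
    rw [hN', Subgroup.mem_map_equiv]; simp [MulAut.conj_symm_apply]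
  have htR : t ∈ R := mem_inf.2 ⟨htw, cent_mem.2 hxt.symm⟩
  -- the elements of `R` commuting with `t` normalise the conjugate of `V`
  have hsub : R ⊓ centralizer ({t} : Set G) ≤ R ⊓ N' := by
    rintro g ⟨hg, hgt⟩
    refine ⟨hg, (hmemN g).2 (S.le_N haV haz ?_ ?_)⟩
    · have h1 := cent_mem.1 hg.2
      calc y⁻¹ * g * y * a = y⁻¹ * (g * x) * y := by rw [hxdef]; group
        _ = y⁻¹ * (x * g) * y := by rw [h1]
        _ = a * (y⁻¹ * g * y) := by rw [hxdef]; group
    · have h1 := cent_mem.1 hgt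
      calc y⁻¹ * g * y * t = y⁻¹ * g * (y * t) := by group
        _ = y⁻¹ * (g * t) * y := by rw [hy]; group
        _ = y⁻¹ * (t * g) * y := by rw [h1]
        _ = (y⁻¹ * t * y) * (y⁻¹ * g * y) := by group
        _ = t * (y⁻¹ * g * y) := by
          rw [show y⁻¹ * t * y = t by rw [mul_assoc, ← hy]; group]
  have hRcard : Nat.card R = 2 ^ 12 := S.E_index w hwz x hxw hxne hxw'
  have hidx : 2 ^ 11 ≤ Nat.card ↥(R ⊓ centralizer ({t} : Set G)) := by
    by_cases hall : R ≤ centralizer ({t} : Set G)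
    · rw [inf_eq_left.2 hall, hRcard]; norm_num
    · obtain ⟨r, hr, hrt⟩ := SetLike.not_le_iff_exists.1 hall
      have hidx : (centralizer ({t} : Set G)).relIndex R = 2 := by
        rw [Subgroup.relIndex, Subgroup.index_eq_two_iff]
        refine ⟨⟨r, hr⟩, fun g => ?_⟩
        simp only [mem_subgroupOf, Subgroup.coe_mul, cent_mem]
        have key : ∀ {g : G}, g ∈ R → g * t ≠ t * g → g * t = w * (t * g) := by
          intro g hg hne
          rcases S.E_comm w hwz g hg.1 t htw with h | h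
          · exact absurd (by
              calc g * t = g * t * g⁻¹ * t⁻¹ * (t * g) := by group
                _ = t * g := by rw [h, one_mul]) hne
          · calc g * t = g * t * g⁻¹ * t⁻¹ * (t * g) := by group
              _ = w * (t * g) := by rw [h]
        have hrt' := key hr (fun h => hrt (cent_mem.2 h))
        have hwc : ∀ {g : G}, g ∈ R → g * w = w * g := fun hg => S.mem_E_self_comm hg.1
        by_cases hg : (g : G) * t = t * g
        · refine Or.inr ⟨hg, fun h => hrt (cent_mem.2 ?_)⟩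
          exact mul_left_cancel (a := (g : G)) (by rw [← mul_assoc, h, ← mul_assoc, ← hg, mul_assoc])
        · refine Or.inl ⟨?_, hg⟩
          calc (g : G) * r * t = g * (r * t) := mul_assoc _ _ _
            _ = g * w * (t * r) := by rw [hrt']; group
            _ = w * (g * t) * r := by rw [hwc g.2]; group
            _ = (w * w) * t * (g * r) := by rw [key g.2 hg]; group
            _ = t * (g * r) := by rw [S.sq_V hwV, one_mul]
      have h := Subgroup.card_mul_index ((centralizer ({t} : Set G)).subgroupOf R)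
      rw [show ((centralizer ({t} : Set G)).subgroupOf R).index = 2 from hidx, hRcard,
        ← Subgroup.inf_subgroupOf_left, Nat.card_congr (subgroupOfEquivOfLe inf_le_left).toEquiv] at h
      omega
  have hRN : R ≤ N' := by
    refine S.spread x y hxz ?_ R inf_le_right (fun p hp => ?_) (fun p hp q hq => ?_)
      (hidx.trans (Subgroup.card_le_of_le hsub)) ?_
    · rwa [show y⁻¹ * x * y = a by rw [hxdef]; group]
    · rcases S.E_sq w hwz p hp.1 with h | h <;> rw [h]
      exacts [one_mem _, hwx]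
    · rcases S.E_comm w hwz p hp.1 q hq.1 with h | h <;> rw [h]
      exacts [one_mem _, hwx]
    · refine le_trans (Subgroup.card_le_of_le ?_) (S.E_meet w x hwz hxz (Ne.symm hxw') hxw)
      exact inf_le_inf inf_le_left le_rfl
  obtain ⟨r, hr, hrt⟩ : ∃ r ∈ R, r * t ≠ t * r := by
    by_contra hall
    push Not at hall
    rcases S.E_cent w hwz x hxw t htw hxne hxw' (fun g hg => cent_mem.2 (hall g hg)) with e | e | e | e
    · exact hat (by rw [e, mul_one]; exact haz)
    · exact S.t_not (e ▸ hwz)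
    · exact S.t_not (e ▸ hxz)
    · exact hx (by
        have : x = w * t := by rw [e, ← mul_assoc, S.sq_V hwV, one_mul]
        rw [this]; exact V.mul_mem hwV S.t_V)
  -- their commutator
  have hconj : r * t * r⁻¹ = w * t := by
    rcases S.E_comm w hwz r hr.1 t htw with h | h
    · exact absurd (by
        calc r * t = r * t * r⁻¹ * t⁻¹ * (t * r) := by group
          _ = t * r := by rw [h, one_mul]) hrt
    · calc r * t * r⁻¹ = r * t * r⁻¹ * t⁻¹ * t := by group
        _ = w * t := by rw [h]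
  have hw' : y⁻¹ * w * y ∈ V := by
    have hrN := (hmemN r).1 (hRN hr)
    have htV : y⁻¹ * t * y = t := by rw [mul_assoc, ← hy]; group
    have h1 := (mem_normalizer_iff.1 hrN t).1 S.t_V
    have h2 : y⁻¹ * r * y * t * (y⁻¹ * r * y)⁻¹ = (y⁻¹ * w * y) * t := by
      nth_rewrite 1 [← htV]
      rw [show y⁻¹ * r * y * (y⁻¹ * t * y) * (y⁻¹ * r * y)⁻¹ = y⁻¹ * (r * t * r⁻¹) * y by group,
        hconj, show y⁻¹ * (w * t) * y = y⁻¹ * w * (t * y) by group, ← hy]
      group
    rw [h2] at h1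
    simpa using V.mul_mem h1 (V.inv_mem S.t_V)
  have hyN : y ∈ normalizer (V : Set G) := by
    refine S.back fun v hv => S.le_N hwV hwz ?_ ?_
    · have h := S.comm_V hv hw'
      calc y * v * y⁻¹ * w = y * (v * (y⁻¹ * w * y)) * y⁻¹ := by group
        _ = y * ((y⁻¹ * w * y) * v) * y⁻¹ := by rw [h]
        _ = w * (y * v * y⁻¹) := by group
    · have h := S.comm_V hv S.t_V
      nth_rewrite 1 [← hyt]
      nth_rewrite 2 [← hyt]
      rw [show y * v * y⁻¹ * (y * t * y⁻¹) = y * (v * t) * y⁻¹ by group, h]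
      group
  exact hx ((mem_normalizer_iff.1 hyN a).1 haV)

/-- A `z`-element of `V` with a `C(t)`-conjugate in `V` is moved there by `N(V)`. -/
theorem back_of_mem {b y : G} (hb : b ∈ V) (hbz : IsConj z b) (hy : y * t = t * y)
    (hV : y * b * y⁻¹ ∈ V) : y ∈ normalizer (V : Set G) := by
  refine S.back fun v hv => S.le_N hV ((isConj_conj y).2 hbz) ?_ ?_
  · rw [show y * v * y⁻¹ * (y * b * y⁻¹) = y * (v * b) * y⁻¹ by group, S.comm_V hv hb]; group
  · have hyt : y * t * y⁻¹ = t := conj_of_comm hy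
    nth_rewrite 1 [← hyt]
    nth_rewrite 2 [← hyt]
    rw [show y * v * y⁻¹ * (y * t * y⁻¹) = y * (v * t) * y⁻¹ by group, S.comm_V hv S.t_V]
    group

/-- All `z`-elements of `V` are good. -/
theorem back_of_z {b y : G} (hb : b ∈ V) (hbz : IsConj z b) (hy : y * t = t * y)
    (hM : y * b * y⁻¹ ∈ normalizer (V : Set G)) : y ∈ normalizer (V : Set G) := by
  by_cases h1 : IsConj z (b * t)
  swap
  · exact S.back_of_mem F hb hbz hy (S.good_one F ⟨hb, hbz, h1⟩ hy hM)
  refine S.back_of_mem F hb hbz hy ?_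
  by_contra hx
  set x := y * b * y⁻¹ with hxdef
  have hyt : y * t * y⁻¹ = t := conj_of_comm hy
  have hxt : x * t = t * x := by
    rw [hxdef]
    nth_rewrite 1 [← hyt]
    nth_rewrite 2 [← hyt]
    rw [show y * b * y⁻¹ * (y * t * y⁻¹) = y * (b * t) * y⁻¹ by group, S.comm_V hb S.t_V]
    group
  have hxx : x * x = 1 := by
    rw [hxdef, show y * b * y⁻¹ * (y * b * y⁻¹) = y * (b * b) * y⁻¹ by group, S.sq_V hb]; group
  obtain ⟨a, ha, hxa⟩ := F.cover x ⟨hM, hxt, hxx, hx⟩
  have hax : x * a = a * x := S.mem_E_self_comm hxa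
  have hyi : y⁻¹ * t = t * y⁻¹ := (Commute.inv_left (show Commute y t from hy)).eq
  have hmem : y⁻¹ * a * y ∈ normalizer (V : Set G) := by
    refine S.le_N hb hbz ?_ ?_
    · calc y⁻¹ * a * y * b = y⁻¹ * (a * x) * y := by rw [hxdef]; group
        _ = y⁻¹ * (x * a) * y := by rw [hax]
        _ = b * (y⁻¹ * a * y) := by rw [hxdef]; group
    · calc y⁻¹ * a * y * t = y⁻¹ * a * (y * t) := by group
        _ = y⁻¹ * (a * t) * y := by rw [hy]; group
        _ = y⁻¹ * (t * a) * y := by rw [S.comm_V ha.1 S.t_V]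
        _ = (y⁻¹ * t) * a * y := by group
        _ = t * (y⁻¹ * a * y) := by rw [hyi]; group
  have h := S.good_one F ha hyi (by simpa using hmem)
  have hyN := S.back_of_mem F ha.1 ha.2.1 hyi h
  exact hx ((mem_normalizer_iff.1 (by simpa using inv_mem hyN) b).1 hb)

/-- Involutions with centraliser in `N(V)` fix a single point. -/
theorem not_two_points {c y : G} (hy : y * t = t * y) (hyN : y ∉ normalizer (V : Set G))
    (hc : Outside V t (y⁻¹ * c * y) ∨ y⁻¹ * c * y ∈ V)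
    (hcen : centralizer ({c} : Set G) ⊓ centralizer ({t} : Set G) ≤ normalizer (V : Set G)) :
    False := by
  obtain ⟨a, ⟨haV, haz, -⟩, hac⟩ : ∃ a, TypeOne z V t a ∧
      (y⁻¹ * c * y) * a = a * (y⁻¹ * c * y) := by
    rcases hc with hc | hc
    · obtain ⟨a, ha, hca⟩ := F.cover _ hc
      exact ⟨a, ha, S.mem_E_self_comm hca⟩
    · obtain ⟨a, ha⟩ := F.one_any
      exact ⟨a, ha, S.comm_V hc ha.1⟩
  refine hyN (S.back_of_z F haV haz hy (hcen (mem_inf.2 ⟨cent_mem.2 ?_, cent_mem.2 ?_⟩)))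
  · calc y * a * y⁻¹ * c = y * (a * (y⁻¹ * c * y)) * y⁻¹ := by group
      _ = y * ((y⁻¹ * c * y) * a) * y⁻¹ := by rw [hac]
      _ = c * (y * a * y⁻¹) := by group
  · have hyt : y * t * y⁻¹ = t := conj_of_comm hy
    nth_rewrite 1 [← hyt]
    nth_rewrite 2 [← hyt]
    rw [show y * a * y⁻¹ * (y * t * y⁻¹) = y * (a * t) * y⁻¹ by group, S.comm_V haV S.t_V]
    group

/-- A `z`-involution of `C(t)` inside `N(V)` has its centraliser there. -/
theorem cent_z {c : G} (hc : Outside V t c) (hcz : IsConj z c) :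
    centralizer ({c} : Set G) ⊓ centralizer ({t} : Set G) ≤ normalizer (V : Set G) := by
  obtain ⟨a, ⟨haV, haz, -⟩, hca⟩ := F.cover c hc
  have hac : a ∈ twoCoreOfCentralizer c := S.symm a c haz hcz hca
  have hmv : ∀ p ∈ twoCoreOfCentralizer c, p * t = t * p →
      p ∈ normalizer (V : Set G) := by
    intro p hp hpt
    rcases S.E_comm c hcz p hp a hac with h | h
    · exact S.le_N haV haz (by
        calc p * a = p * a * p⁻¹ * a⁻¹ * (a * p) := by group
          _ = a * p := by rw [h, one_mul]) hpt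
    · refine S.back_of_z F haV haz hpt ?_
      rw [show p * a * p⁻¹ = p * a * p⁻¹ * a⁻¹ * a by group, h]
      exact mul_mem hc.1 (S.V_le haV)
  rintro d ⟨hdc, hdt⟩
  have h1 := cent_mem.1 hdc
  have h2 := cent_mem.1 hdt
  refine S.back_of_z F haV haz h2 (hmv _ ?_ ?_)
  · exact (mem_normalizer_iff.1 (S.E_norm c hdc) a).1 hac
  · calc d * a * d⁻¹ * t = d * a * (d⁻¹ * t) := by group
      _ = d * (a * t) * d⁻¹ := by rw [(Commute.inv_left (show Commute d t from h2)).eq]; group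
      _ = d * (t * a) * d⁻¹ := by rw [S.comm_V haV S.t_V]
      _ = t * (d * a * d⁻¹) := by rw [← mul_assoc d t a, h2]; group

/-- A fixing pure involution of `C(t)` inside `N(V)` has its centraliser there. -/
theorem cent_fix {c : G} (hc : Outside V t c) (hfix : Fix c) (hp : Pure z t c) :
    centralizer ({c} : Set G) ⊓ centralizer ({t} : Set G) ≤ normalizer (V : Set G) := by
  obtain ⟨a, ha, hca⟩ := F.cover c hc
  have hca' : c * a = a * c := S.mem_E_self_comm hca
  set D : Subgroup G := centralizer ({c} : Set G) ⊓ centralizer ({t} : Set G) with hD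
  have haD : a ∈ D := mem_inf.2 ⟨cent_mem.2 hca'.symm, cent_mem.2 (S.comm_V ha.1 S.t_V)⟩
  -- `a` is isolated
  have hiso : ∀ d ∈ D, d * a * d⁻¹ ∈ normalizer (V : Set G) → d * a * d⁻¹ = a := by
    intro d hd hM
    have h1 := cent_mem.1 (mem_inf.1 hd).1
    have h2 := cent_mem.1 (mem_inf.1 hd).2
    have hdN := S.back_of_z F ha.1 ha.2.1 h2 hM
    refine F.fix_unique c _ a hc hfix hp
      ⟨(mem_normalizer_iff.1 hdN a).1 ha.1, (isConj_conj d).2 ha.2.1, ?_⟩ ha ?_ hca
    · nth_rewrite 1 [← conj_of_comm h2]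
      rw [show d * a * d⁻¹ * (d * t * d⁻¹) = d * (a * t) * d⁻¹ by group, isConj_conj]
      exact ha.2.2
    · have := (S.E_equiv (g := d)).2 hca
      rwa [conj_of_comm h1] at this
  haveI : Fact (Nat.Prime 2) := ⟨Nat.prime_two⟩
  have haa : a * a = 1 := S.sq_V ha.1
  have hane : a ≠ 1 := by
    intro e
    have h : z = 1 := isConj_one_left.1 (e ▸ ha.2.1)
    apply ha.2.2
    exact absurd (show IsConj z (1 : G) from h ▸ IsConj.refl _) (fun _ => S.z_ne h)
  have haord : orderOf (⟨a, haD⟩ : D) = 2 :=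
    orderOf_eq_prime (by rw [sq]; exact Subtype.ext haa) fun e => hane (congrArg Subtype.val e)
  have hP0 : IsPGroup 2 (zpowers (⟨a, haD⟩ : D)) :=
    IsPGroup.of_card (n := 1) (by rw [Nat.card_zpowers, haord, pow_one])
  obtain ⟨P, hP⟩ := hP0.exists_le_sylow
  have haP : (⟨a, haD⟩ : D) ∈ (P : Subgroup D) := hP (mem_zpowers _)
  set M' : Subgroup D := (normalizer (V : Set G)).subgroupOf D with hM'
  have hPM : (P : Subgroup D) ≤ M' := by
    by_contra hle
    haveI := P.2.isNilpotent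
    have hlt : M'.subgroupOf (P : Subgroup D) < ⊤ :=
      lt_top_iff_ne_top.2 fun h => hle (subgroupOf_eq_top.1 h)
    obtain ⟨n, hn, hnM⟩ := SetLike.exists_of_lt
      ((Group.normalizerCondition_of_isNilpotent (G := (P : Subgroup D))) _ hlt)
    refine hnM (show ((n : D) : G) ∈ normalizer (V : Set G) from ?_)
    refine S.back_of_z F ha.1 ha.2.1 (cent_mem.1 (mem_inf.1 (n : D).2).2) ?_
    exact (mem_normalizer_iff.1 hn ⟨⟨a, haD⟩, haP⟩).1 (S.V_le ha.1)
  obtain ⟨N, hN, hodd, hcom⟩ := H61.zStarTheorem P (⟨a, haD⟩ : D) haord haP fun d hd =>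
    Subtype.ext (hiso d d.2 (hPM hd))
  obtain ⟨b, hb, hbz, habz, hbne, hcb⟩ := F.fix_second c a hc hfix hp ha hca
  have hbD : b ∈ D := mem_inf.2 ⟨cent_mem.2 hcb.symm, cent_mem.2 (S.comm_V hb S.t_V)⟩
  -- a four group
  let A4 : Subgroup D :=
    { carrier := {x | (x : G) = 1 ∨ (x : G) = a ∨ (x : G) = b ∨ (x : G) = a * b}
      one_mem' := Or.inl rfl
      mul_mem' := by
        have hba : b * a = a * b := S.comm_V hb ha.1
        have hbb : b * b = 1 := S.sq_V hb
        have e1 : a * (a * b) = b := by rw [← mul_assoc, haa, one_mul]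
        have e2 : a * b * a = b := by rw [mul_assoc, hba, e1]
        have e3 : b * (a * b) = a := by rw [← mul_assoc, hba, mul_assoc, hbb, mul_one]
        have e4 : a * b * b = a := by rw [mul_assoc, hbb, mul_one]
        have e5 : a * b * (a * b) = 1 := by rw [← mul_assoc, e2, hbb]
        rintro p q hp hq
        simp only [Set.mem_ofPred_eq, Subgroup.coe_mul] at hp hq ⊢
        rcases hp with hp | hp | hp | hp <;> rcases hq with hq | hq | hq | hq <;> rw [hp, hq] <;>
          simp only [one_mul, mul_one, haa, hbb, hba, e1, e2, e3, e4, e5, true_or, or_true]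
      inv_mem' := by
        have hba : b * a = a * b := S.comm_V hb ha.1
        have hbb : b * b = 1 := S.sq_V hb
        rintro p hp
        simp only [Set.mem_ofPred_eq, InvMemClass.coe_inv] at hp ⊢
        rcases hp with hp | hp | hp | hp <;> rw [hp] <;>
          simp only [inv_one, inv_eq_of_mul_eq_one_right haa, inv_eq_of_mul_eq_one_right hbb,
            mul_inv_rev, hba, true_or, or_true] }
  haveI : IsMulCommutative A4 := ⟨⟨fun p q => Subtype.ext (Subtype.ext (by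
    have hV : ∀ x : A4, ((x : D) : G) ∈ V := fun x => by
      rcases x.2 with h | h | h | h <;> rw [h]
      exacts [V.one_mem, ha.1, hb, V.mul_mem ha.1 hb]
    exact S.comm_V (hV p) (hV q)))⟩⟩
  have hA2 : ∀ x : A4, x * x = 1 := fun x => Subtype.ext (Subtype.ext (by
    have hV : ((x : D) : G) ∈ V := by
      rcases x.2 with h | h | h | h <;> rw [h]
      exacts [V.one_mem, ha.1, hb, V.mul_mem ha.1 hb]
    exact S.sq_V hV))
  let a4 : A4 := ⟨⟨a, haD⟩, Or.inr (Or.inl rfl)⟩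
  let b4 : A4 := ⟨⟨b, hbD⟩, Or.inr (Or.inr (Or.inl rfl))⟩
  have hb1 : b ≠ 1 := fun e => hane (by
    exact absurd (isConj_one_left.1 (e ▸ hbz)) S.z_ne)
  have hncyc : ¬ IsCyclic A4 := by
    intro hc'
    obtain ⟨g, hg⟩ := hc'.exists_generator
    have h2 : Nat.card A4 ≤ 2 := by
      rw [← orderOf_eq_card_of_forall_mem_zpowers hg]
      exact Nat.le_of_dvd (by norm_num) (orderOf_dvd_of_pow_eq_one (by rw [sq]; exact hA2 g))
    have hgen : ∀ x : A4, x = 1 ∨ x = g := by
      intro x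
      obtain ⟨n, rfl⟩ := mem_zpowers_iff.1 (hg x)
      have hg2 : g ^ (2 : ℤ) = 1 := by rw [zpow_two]; exact hA2 g
      rcases Int.even_or_odd n with ⟨k, rfl⟩ | ⟨k, rfl⟩
      · left; rw [← two_mul, zpow_mul, hg2, one_zpow]
      · right; rw [zpow_add_one, zpow_mul, hg2, one_zpow, one_mul]
    have hval : ∀ {x y : A4}, x = y → ((x : D) : G) = ((y : D) : G) := fun h => by rw [h]
    rcases hgen a4 with h | h
    · exact hane (hval h)
    rcases hgen b4 with h' | h'
    · exact hb1 (hval h')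
    exact hbne (hval (h'.trans h.symm))
  have hNM : N ≤ M' := by
    haveI := hN
    refine Coprime.le_of_centralizer_noncyclic_le (A := A4) (M := M') hncyc
      (fun g _ => by rw [normalizer_eq_top]; exact mem_top _) ?_ ?_
    · have hp : IsPGroup 2 A4 := fun x => ⟨1, by rw [pow_one, sq]; exact hA2 x⟩
      obtain ⟨n, hn⟩ := IsPGroup.iff_card.1 hp
      rw [hn]
      exact Nat.Coprime.pow_left n hodd.coprime_two_left
    · intro x hx hx1 k hk
      obtain ⟨hxz, hxV⟩ : IsConj z (x : G) ∧ (x : G) ∈ V := by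
        rcases hx with h | h | h | h <;> rw [h]
        exacts [absurd (Subtype.ext h) hx1, ⟨ha.2.1, ha.1⟩, ⟨hbz, hb⟩, ⟨habz, V.mul_mem ha.1 hb⟩]
      exact S.le_N hxV hxz (congrArg Subtype.val (mem_centralizer_singleton_iff.1 hk.2))
        (cent_mem.1 (mem_inf.1 k.2).2)
  intro d hd
  have h2 := cent_mem.1 (mem_inf.1 hd).2
  refine S.back_of_z F ha.1 ha.2.1 h2 ?_
  have h := hNM (hcom ⟨d, hd⟩)
  change a * d * a⁻¹ * d⁻¹ ∈ normalizer (V : Set G) at h
  rw [inv_eq_of_mul_eq_one_right haa] at h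
  have h' := mul_mem (S.V_le ha.1) h
  rwa [show a * (a * d * a * d⁻¹) = (a * a) * (d * a * d⁻¹) by group, haa, one_mul] at h'

/-- The product of two `z`-elements fixing different points. -/
theorem product_step (P0 : Subgroup G) {a b y : G}
    (hP0 : ∀ p ∈ P0, p * t = t * p ∧ p * p = 1) (hy : y * t = t * y) (ha : a ∈ V)
    (haz : IsConj z a) (hb : b ∈ V) (hbz : IsConj z b)
    (hca : ∀ p ∈ P0, p * a = a * p)
    (hcb : ∀ p ∈ P0, p * (y * b * y⁻¹) = (y * b * y⁻¹) * p)
    (h1 : ∀ p ∈ P0, p ≠ 1 → ¬ ∃ g, g * t = t * g ∧ g * a * g⁻¹ = a * p)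
    (h2 : ∀ p ∈ P0, ¬ ∃ g, g * t = t * g ∧ g * a * g⁻¹ = p * (y * b * y⁻¹)) :
    ∃ c, c ∉ P0 ∧ c * c = 1 ∧ (∀ p ∈ P0, c * p = p * c) ∧ c * t = t * c ∧
      c ∈ normalizer (V : Set G) ∧ y⁻¹ * c * y ∈ normalizer (V : Set G) := by
  classical
  set b' := y * b * y⁻¹ with hb'
  have hyt : y * t * y⁻¹ = t := conj_of_comm hy
  have hb't : b' * t = t * b' := by
    rw [hb']
    nth_rewrite 1 [← hyt]
    nth_rewrite 2 [← hyt]
    rw [show y * b * y⁻¹ * (y * t * y⁻¹) = y * (b * t) * y⁻¹ by group, S.comm_V hb S.t_V]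
    group
  have haa := S.sq_V ha
  have hbb : b' * b' = 1 := by
    rw [hb', show y * b * y⁻¹ * (y * b * y⁻¹) = y * (b * b) * y⁻¹ by group, S.sq_V hb]; group
  set r := a * b' with hr
  have hrt : Commute r t := by
    show a * b' * t = t * (a * b')
    rw [mul_assoc, hb't, ← mul_assoc, S.comm_V ha S.t_V, mul_assoc]
  have hex : ∃ m, 0 < m ∧ r ^ m ∈ P0 :=
    ⟨orderOf r, orderOf_pos r, by rw [pow_orderOf_eq_one]; exact one_mem _⟩
  obtain ⟨m, ⟨hmpos, hm⟩, hmin⟩ : ∃ m, (0 < m ∧ r ^ m ∈ P0) ∧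
      ∀ k, k < m → ¬ (0 < k ∧ r ^ k ∈ P0) :=
    ⟨Nat.find hex, Nat.find_spec hex, fun k hk => Nat.find_min hex hk⟩
  have hinvert : ∀ n : ℕ, r ^ n * a * (r ^ n)⁻¹ = r ^ (2 * n) * a := by
    intro n
    have h : a * (r ^ n)⁻¹ * a = r ^ n := by
      have e : a * r⁻¹ * a = r := by
        rw [hr, mul_inv_rev, inv_eq_of_mul_eq_one_right hbb, inv_eq_of_mul_eq_one_right haa]
        rw [show a * (b' * a) * a = a * b' * (a * a) by group, haa, mul_one]
      rw [← inv_pow]
      have h2 : ∀ k : ℕ, a * (r⁻¹) ^ k * a = (a * r⁻¹ * a) ^ k := by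
        intro k
        induction k with
        | zero => simp [haa]
        | succ k ih =>
          rw [pow_succ, pow_succ, ← ih]
          rw [show a * r⁻¹ ^ k * a * (a * r⁻¹ * a) = a * r⁻¹ ^ k * (a * a) * (r⁻¹ * a) by group,
            haa, mul_one]
          group
      rw [h2, e]
    calc r ^ n * a * (r ^ n)⁻¹ = r ^ n * (a * (r ^ n)⁻¹ * a) * a⁻¹ := by group
      _ = r ^ (2 * n) * a := by
        rw [h, ← pow_add, ← two_mul, inv_eq_of_mul_eq_one_right haa]
  rcases Nat.even_or_odd m with ⟨k, hk⟩ | ⟨k, hk⟩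
  · -- the central involution
    set c := r ^ k with hc
    have hkpos : 0 < k := by omega
    have hp : r ^ (2 * k) ∈ P0 := by rwa [two_mul, ← hk]
    have hconj : c * a * c⁻¹ = r ^ (2 * k) * a := hinvert k
    have hpi : r ^ (2 * k) = 1 := by
      by_contra hne
      exact h1 _ hp hne ⟨c, (hrt.pow_left k).eq, by rw [hconj, hca _ hp]⟩
    have hcc : c * c = 1 := by rw [hc, ← pow_add, ← two_mul]; exact hpi
    have hac : c * a = a * c := comm_of_conj (by rw [hconj, hpi, one_mul])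
    have hbc : c * b' = b' * c := by
      have e : b' = a * r := by rw [hr, ← mul_assoc, haa, one_mul]
      rw [e, ← mul_assoc, hac, mul_assoc, hc, ← pow_succ, mul_assoc, ← pow_succ']
    refine ⟨c, fun hcP => hmin k (by omega) ⟨hkpos, hcP⟩, hcc, fun p hp' => ?_, (hrt.pow_left k).eq,
      S.le_N ha haz hac (hrt.pow_left k).eq, S.le_N hb hbz ?_ ?_⟩
    · have hpr : Commute r p := Commute.mul_left (hca p hp').symm (hcb p hp').symm
      exact (hpr.pow_left k).eq
    · calc y⁻¹ * c * y * b = y⁻¹ * (c * b') * y := by rw [hb']; group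
        _ = y⁻¹ * (b' * c) * y := by rw [hbc]
        _ = b * (y⁻¹ * c * y) := by rw [hb']; group
    · have hyi : y⁻¹ * t = t * y⁻¹ := (Commute.inv_left (show Commute y t from hy)).eq
      calc y⁻¹ * c * y * t = y⁻¹ * c * (y * t) := by group
        _ = y⁻¹ * (c * t) * y := by rw [hy]; group
        _ = y⁻¹ * (t * c) * y := by rw [(hrt.pow_left k).eq]
        _ = (y⁻¹ * t) * c * y := by group
        _ = t * (y⁻¹ * c * y) := by rw [hyi]; group
  · -- conjugate
    exfalso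
    refine h2 (r ^ m) hm ⟨r ^ k, (hrt.pow_left k).eq, ?_⟩
    rw [hinvert k, hk, pow_succ, mul_assoc]
    congr 1
    rw [hr, mul_assoc, hbb, mul_one]

/-- Involutions of `N(V)` fixing two points are pure. -/
theorem two_point_cases {c y : G} (hy : y * t = t * y) (hyN : y ∉ normalizer (V : Set G))
    (hcc : c * c = 1) (hct : c * t = t * c) (hc1 : c ≠ 1) (hct1 : c ≠ t)
    (hcN : c ∈ normalizer (V : Set G)) (hcy : y⁻¹ * c * y ∈ normalizer (V : Set G)) :
    (Pure z t c) ∧ (c ∈ V ∨ (c ∉ V ∧ Swap c ∧ Outside V t c)) := by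
  have hyt : y⁻¹ * t * y = t := by rw [mul_assoc, ← hy]; group
  have hconj : ∀ d, d * d = 1 → d * t = t * d → y⁻¹ * d * y ∈ normalizer (V : Set G) →
      Outside V t (y⁻¹ * d * y) ∨ y⁻¹ * d * y ∈ V := by
    intro d hd1 hd2 hd3
    by_cases h : y⁻¹ * d * y ∈ V
    · exact Or.inr h
    refine Or.inl ⟨hd3, ?_, ?_, h⟩
    · nth_rewrite 1 [← hyt]
      nth_rewrite 2 [← hyt]
      rw [show y⁻¹ * d * y * (y⁻¹ * t * y) = y⁻¹ * (d * t) * y by group, hd2]
      group
    · rw [show y⁻¹ * d * y * (y⁻¹ * d * y) = y⁻¹ * (d * d) * y by group, hd1]; group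
  have hnz : ∀ d, d * d = 1 → d * t = t * d → d ∈ normalizer (V : Set G) →
      y⁻¹ * d * y ∈ normalizer (V : Set G) → ¬ IsConj z d := by
    intro d hd1 hd2 hd3 hd4 hdz
    refine S.not_two_points F hy hyN (hconj d hd1 hd2 hd4) ?_
    by_cases hdV : d ∈ V
    · exact S.two_cent d hdV hdz
    · exact S.cent_z F ⟨hd3, hd2, hd1, hdV⟩ hdz
  have hpure : Pure z t c := by
    refine ⟨hnz c hcc hct hcN hcy, hnz (c * t) ?_ ?_ (mul_mem hcN (S.V_le S.t_V)) ?_⟩
    · rw [mul_assoc, ← mul_assoc t c, ← hct, mul_assoc c t, S.t_sq, mul_one, hcc]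
    · rw [mul_assoc, S.t_sq, mul_one, ← mul_assoc, ← hct, mul_assoc, S.t_sq, mul_one]
    · rw [show y⁻¹ * (c * t) * y = (y⁻¹ * c * y) * (y⁻¹ * t * y) by group, hyt]
      exact mul_mem hcy (S.V_le S.t_V)
  refine ⟨hpure, ?_⟩
  by_cases hV : c ∈ V
  · exact Or.inl hV
  refine Or.inr ⟨hV, ?_, hcN, hct, hcc, hV⟩
  rcases F.dich c ⟨hcN, hct, hcc, hV⟩ hpure with h | h
  · exact (S.not_two_points F hy hyN (hconj c hcc hct hcy)
      (S.cent_fix F ⟨hcN, hct, hcc, hV⟩ h hpure)).elim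
  · exact h

/-- The centraliser of `t` normalises `V`. -/
theorem cent_le : centralizer ({t} : Set G) ≤ normalizer (V : Set G) := by
  intro y hy'
  by_contra hyN
  have hy := cent_mem.1 hy'
  have hyi : y⁻¹ * t = t * y⁻¹ := (Commute.inv_left (show Commute y t from hy)).eq
  have hyt : y⁻¹ * t * y = t := by rw [mul_assoc, ← hy]; group
  obtain ⟨a₀, ha₀⟩ := F.one_any
  obtain ⟨b₀, hb₀⟩ := F.two_any
  have ht1 : t ≠ 1 := fun e => ha₀.2.2 (by rw [e, mul_one]; exact ha₀.2.1)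
  have htwo : ∀ {x : G}, x ∈ zpowers t ↔ x = 1 ∨ x = t := by
    intro x
    constructor
    · intro hx
      obtain ⟨n, rfl⟩ := mem_zpowers_iff.1 hx
      rcases Int.even_or_odd n with ⟨k, rfl⟩ | ⟨k, rfl⟩
      · left; rw [← two_mul, zpow_mul, zpow_two, S.t_sq, one_zpow]
      · right; rw [zpow_add_one, zpow_mul, zpow_two, S.t_sq, one_zpow, one_mul]
    · rintro (rfl | rfl); exacts [one_mem _, mem_zpowers _]
  -- a conjugate in `C(t)` of `a` cannot equal a product with the class of `b`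
  have hno : ∀ {a b p : G}, TypeOne z V t a → b ∈ V →
      (y⁻¹ * p * y) ∈ normalizer (V : Set G) →
      ((y⁻¹ * p * y) ∈ V → IsConj z (b * (y⁻¹ * p * y)) → IsConj z (b * (y⁻¹ * p * y) * t)) →
      ¬ ∃ g, g * t = t * g ∧ g * a * g⁻¹ = p * (y * b * y⁻¹) := by
    rintro a b p ha hb hpN hcond ⟨g, hgt, hg⟩
    have he : (y⁻¹ * g) * a * (y⁻¹ * g)⁻¹ = (y⁻¹ * p * y) * b := by
      rw [show (y⁻¹ * g) * a * (y⁻¹ * g)⁻¹ = y⁻¹ * (g * a * g⁻¹) * y by group, hg]; group
    have hgt' : y⁻¹ * g * t = t * (y⁻¹ * g) := by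
      rw [mul_assoc, hgt, ← mul_assoc, hyi, mul_assoc]
    have hmem : (y⁻¹ * g) * a * (y⁻¹ * g)⁻¹ ∈ V :=
      S.good_one F ha hgt' (by rw [he]; exact mul_mem hpN (S.V_le hb))
    have hp'V : y⁻¹ * p * y ∈ V := by
      rw [he] at hmem; simpa using V.mul_mem hmem (V.inv_mem hb)
    have hbp : (y⁻¹ * p * y) * b = b * (y⁻¹ * p * y) := S.comm_V hp'V hb
    have hz1 : IsConj z (b * (y⁻¹ * p * y)) := hbp ▸ he ▸ (isConj_conj _).2 ha.2.1
    have hz2 := hcond hp'V hz1
    rw [← hbp, ← he] at hz2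
    refine ha.2.2 ((isConj_conj (y⁻¹ * g)).1 ?_)
    rw [show y⁻¹ * g * (a * t) * (y⁻¹ * g)⁻¹ =
      y⁻¹ * g * a * (y⁻¹ * g)⁻¹ * (y⁻¹ * g * t * (y⁻¹ * g)⁻¹) by group, conj_of_comm hgt']
    exact hz2
  have hno1 : ∀ {a p : G}, TypeOne z V t a → p ∈ normalizer (V : Set G) →
      (p ∈ V → ¬ IsConj z (a * p)) → ¬ ∃ g, g * t = t * g ∧ g * a * g⁻¹ = a * p := by
    rintro a p ha hpN hV ⟨g, hgt, hg⟩
    by_cases hpV : p ∈ V
    · exact hV hpV (hg ▸ (isConj_conj g).2 ha.2.1)
    · have := S.good_one F ha hgt (by rw [hg]; exact mul_mem (S.V_le ha.1) hpN)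
      rw [hg] at this
      exact hpV (by simpa using V.mul_mem (V.inv_mem ha.1) this)
  -- first involution
  obtain ⟨c, hcP, hcc, -, hct, hcN, hcy⟩ := S.product_step F (zpowers t) (y := y)
    (a := a₀) (b := b₀)
    (fun p hp => by rcases htwo.1 hp with h | h <;> rw [h] <;> simp [S.t_sq])
    hy ha₀.1 ha₀.2.1 hb₀.1 hb₀.2.1
    (fun p hp => S.comm_V ((zpowers_le.2 S.t_V) hp) ha₀.1)
    (fun p hp => by
      rcases htwo.1 hp with h | h <;> rw [h]
      · simp
      · nth_rewrite 1 [← conj_of_comm hy]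
        nth_rewrite 2 [← conj_of_comm hy]
        rw [show y * t * y⁻¹ * (y * b₀ * y⁻¹) = y * (t * b₀) * y⁻¹ by group,
          S.comm_V S.t_V hb₀.1]
        group)
    (fun p hp hp1 => hno1 ha₀ (S.V_le ((zpowers_le.2 S.t_V) hp)) fun _ => by
      rw [(htwo.1 hp).resolve_left hp1]; exact ha₀.2.2)
    (fun p hp => by
      refine hno ha₀ hb₀.1 ?_ ?_ <;> rcases htwo.1 hp with h | h <;> rw [h]
      · simp
      · rw [hyt]; exact S.V_le S.t_V
      · intro _ _; simpa using hb₀.2.2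
      · intro _ _; rw [hyt, mul_assoc, S.t_sq, mul_one]; exact hb₀.2.1)
  have hc1 : c ≠ 1 := fun e => hcP (e ▸ one_mem _)
  have hctne : c ≠ t := fun e => hcP (e ▸ mem_zpowers _)
  obtain ⟨hpure, hcase⟩ := S.two_point_cases F hy hyN hcc hct hc1 hctne hcN hcy
  set c₁ := y⁻¹ * c * y with hc₁
  have hc₁t : c₁ * t = t * c₁ := by
    rw [hc₁]
    nth_rewrite 1 [← hyt]
    nth_rewrite 2 [← hyt]
    rw [show y⁻¹ * c * y * (y⁻¹ * t * y) = y⁻¹ * (c * t) * y by group, hct]
    group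
  have hpure1 : Pure z t c₁ := by
    refine ⟨fun h => hpure.1 ?_, fun h => hpure.2 ?_⟩
    · rw [hc₁] at h; exact h.trans (isConj_iff.2 ⟨y, by group⟩)
    · refine h.trans (isConj_iff.2 ⟨y, ?_⟩)
      rw [hc₁]; nth_rewrite 1 [← hyt]; group
  have hc₁1 : c₁ ≠ 1 := fun e => hc1 (by
    calc c = y * c₁ * y⁻¹ := by rw [hc₁]; group
      _ = 1 := by rw [e]; group)
  have hc₁t' : c₁ ≠ t := fun e => hctne (by
    calc c = y * c₁ * y⁻¹ := by rw [hc₁]; group
      _ = t := by rw [e, hy]; group)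
  -- the four elements
  let P0 : Subgroup G :=
    { carrier := {x | x = 1 ∨ x = t ∨ x = c ∨ x = c * t}
      one_mem' := Or.inl rfl
      mul_mem' := by
        have e1 : c * (c * t) = t := by rw [← mul_assoc, hcc, one_mul]
        have e2 : c * t * c = t := by rw [mul_assoc, ← hct, e1]
        have e3 : t * (c * t) = c := by rw [← mul_assoc, ← hct, mul_assoc, S.t_sq, mul_one]
        have e4 : c * t * t = c := by rw [mul_assoc, S.t_sq, mul_one]
        have e5 : c * t * (c * t) = 1 := by rw [← mul_assoc, e2, S.t_sq]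
        rintro p q hp hq
        simp only [Set.mem_ofPred_eq] at hp hq ⊢
        rcases hp with hp | hp | hp | hp <;> rcases hq with hq | hq | hq | hq <;> rw [hp, hq] <;>
          simp only [one_mul, mul_one, hcc, S.t_sq, ← hct, e1, e2, e3, e4, e5, true_or, or_true]
      inv_mem' := by
        rintro p hp
        simp only [Set.mem_ofPred_eq] at hp ⊢
        rcases hp with hp | hp | hp | hp <;> rw [hp] <;>
          simp only [inv_one, inv_eq_of_mul_eq_one_right hcc, inv_eq_of_mul_eq_one_right S.t_sq,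
            mul_inv_rev, ← hct, true_or, or_true] }
  have hP0 : ∀ p ∈ P0, p = 1 ∨ p = t ∨ p = c ∨ p = c * t := fun p hp => hp
  -- choice of the second pair
  obtain ⟨a, ha, hca, hau⟩ : ∃ a, TypeOne z V t a ∧ c * a = a * c ∧
      (c ∈ V → ¬ IsConj z (a * c) ∧ ¬ IsConj z (a * (c * t))) := by
    rcases hcase with hV | ⟨hV, -, hout⟩
    · obtain ⟨a, ha, h1, h2⟩ := F.tri_one c hV hc1 hctne hpure
      exact ⟨a, ha, S.comm_V hV ha.1, fun _ => ⟨h1, h2⟩⟩
    · obtain ⟨a, ha, hca⟩ := F.cover c hout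
      exact ⟨a, ha, S.mem_E_self_comm hca, fun h => absurd h hV⟩
  obtain ⟨b, hb, hcb, hbu⟩ : ∃ b, TypeTwo z V t b ∧ c₁ * b = b * c₁ ∧ (c₁ ∈ V →
      ∀ π ∈ ({c₁, c₁ * t} : Set G), IsConj z (b * π) → IsConj z (b * π * t)) := by
    by_cases hV : c₁ ∈ V
    · obtain ⟨b, hb, h⟩ := F.tri_two c₁ hV hc₁1 hc₁t' hpure1
      exact ⟨b, hb, S.comm_V hV hb.1, fun _ => h⟩
    · obtain ⟨b, hb, h⟩ := F.two c₁ ⟨hcy, hc₁t, by
        rw [hc₁, show y⁻¹ * c * y * (y⁻¹ * c * y) = y⁻¹ * (c * c) * y by group, hcc]; group, hV⟩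
      exact ⟨b, hb, h, fun h' => absurd h' hV⟩
  have hb't : t * (y * b * y⁻¹) = y * b * y⁻¹ * t := by
    nth_rewrite 1 [← conj_of_comm hy]
    nth_rewrite 2 [← conj_of_comm hy]
    rw [show y * t * y⁻¹ * (y * b * y⁻¹) = y * (t * b) * y⁻¹ by group, S.comm_V S.t_V hb.1]
    group
  have hb'c : c * (y * b * y⁻¹) = y * b * y⁻¹ * c := by
    calc c * (y * b * y⁻¹) = y * (c₁ * b) * y⁻¹ := by rw [hc₁]; group
      _ = y * (b * c₁) * y⁻¹ := by rw [hcb]
      _ = y * b * y⁻¹ * c := by rw [hc₁]; group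
  have hcta : c * t * a = a * (c * t) := by
    rw [mul_assoc, S.comm_V S.t_V ha.1, ← mul_assoc, hca, mul_assoc]
  obtain ⟨d, hdP, hdd, hdc, hdt, hdN, hdy⟩ := S.product_step F P0 (y := y) (a := a) (b := b)
    (fun p hp => by
      rcases hP0 p hp with h | h | h | h <;> rw [h]
      · simp
      · exact ⟨rfl, S.t_sq⟩
      · exact ⟨hct, hcc⟩
      · exact ⟨by rw [mul_assoc, S.t_sq, mul_one, ← mul_assoc, ← hct, mul_assoc, S.t_sq, mul_one],
          by rw [mul_assoc, ← mul_assoc t c, ← hct, mul_assoc c t, S.t_sq, mul_one, hcc]⟩)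
    hy ha.1 ha.2.1 hb.1 hb.2.1
    (fun p hp => by
      rcases hP0 p hp with h | h | h | h <;> rw [h]
      exacts [by simp, S.comm_V S.t_V ha.1, hca, hcta])
    (fun p hp => by
      rcases hP0 p hp with h | h | h | h <;> rw [h]
      exacts [by simp, hb't, hb'c, by
        rw [mul_assoc, hb't, ← mul_assoc, hb'c, mul_assoc]])
    (fun p hp hp1 => by
      rcases hP0 p hp with h | h | h | h <;> rw [h]
      · exact absurd h hp1
      · exact hno1 ha (S.V_le S.t_V) fun _ => ha.2.2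
      · exact hno1 ha hcN fun h => (hau h).1
      · exact hno1 ha (mul_mem hcN (S.V_le S.t_V)) fun h => by
          refine (hau ?_).2
          simpa [mul_assoc, S.t_sq] using V.mul_mem h S.t_V)
    (fun p hp => by
      rcases hP0 p hp with h | h | h | h <;> rw [h]
      · refine hno ha hb.1 (by simp) fun _ _ => ?_
        simpa using hb.2.2
      · refine hno ha hb.1 (by rw [hyt]; exact S.V_le S.t_V) fun _ _ => ?_
        rw [hyt, mul_assoc, S.t_sq, mul_one]; exact hb.2.1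
      · refine hno ha hb.1 hcy fun hV h => ?_
        exact hbu hV c₁ (Or.inl rfl) h
      · have e : y⁻¹ * (c * t) * y = c₁ * t := by
          rw [show y⁻¹ * (c * t) * y = (y⁻¹ * c * y) * (y⁻¹ * t * y) by group, hyt]
        refine hno ha hb.1 (by rw [e]; exact mul_mem hcy (S.V_le S.t_V)) fun hV h => ?_
        rw [e] at hV h ⊢
        exact hbu (by simpa [mul_assoc, S.t_sq] using V.mul_mem hV S.t_V) _ (Or.inr rfl) h)
  have hdc' : d * c = c * d := hdc c (Or.inr (Or.inr (Or.inl rfl)))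
  have hd1 : d ≠ 1 := fun e => hdP (Or.inl e)
  have hdt1 : d ≠ t := fun e => hdP (Or.inr (Or.inl e))
  have hdc1 : d ≠ c := fun e => hdP (Or.inr (Or.inr (Or.inl e)))
  have hdct1 : d ≠ c * t := fun e => hdP (Or.inr (Or.inr (Or.inr e)))
  obtain ⟨hdp, hdcase⟩ := S.two_point_cases F hy hyN hdd hdt hd1 hdt1 hdN hdy
  have hcd2 : (c * d) * (c * d) = 1 := by
    rw [mul_assoc, ← mul_assoc d c, hdc', mul_assoc c d, hdd, mul_one, hcc]
  have hcdt : c * d * t = t * (c * d) := by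
    rw [mul_assoc, hdt, ← mul_assoc, hct, mul_assoc]
  have hcd1 : c * d ≠ 1 := fun e => hdc1 (by
    rw [eq_inv_of_mul_eq_one_right e, inv_eq_of_mul_eq_one_right hcc])
  have hcdt1 : c * d ≠ t := fun e => hdct1 (by rw [← e, ← mul_assoc, hcc, one_mul])
  obtain ⟨hcdp, hcdcase⟩ := S.two_point_cases F hy hyN hcd2 hcdt hcd1 hcdt1 (mul_mem hcN hdN)
    (by rw [show y⁻¹ * (c * d) * y = (y⁻¹ * c * y) * (y⁻¹ * d * y) by group]; exact mul_mem hcy hdy)
  rcases hcase with hcV | ⟨-, hcS, hco⟩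
  · rcases hdcase with hdV | ⟨-, hdS, hdo⟩
    · exact F.tri_eight c d hcV hdV hc1 hctne hd1 hdt1 hdc1 hdct1 hpure hdp hcdp
    · exact F.swap_tri d c hdo hdS hcV hc1 hctne hpure hdc'
  · rcases hdcase with hdV | ⟨-, hdS, hdo⟩
    · exact F.swap_tri c d hco hcS hdV hd1 hdt1 hdp hdc'.symm
    · rcases hcdcase with hcdV | ⟨hcdV, hcdS, -⟩
      · refine F.swap_tri c (c * d) hco hcS hcdV hcd1 hcdt1 hcdp ?_
        rw [mul_assoc c d c, hdc']
      · exact F.swap_mul c d hco hdo hdc'.symm hcdV hcS hdS hcdS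

end TCfg

end Cfsg.Agent.H38.JFour
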