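import Cfsg.Agent.H38.JFour.CoreSplit
import Cfsg.Agent.H38.JFour.Dict
import Cfsg.Agent.H38.JFour.Lin
import Cfsg.Agent.H98.JFour.BlocksInst
import Cfsg.Agent.H98.JFour.TCfgInst

/-!
Syndromes for the elements of `V`, with the action of a complement, in a group of Janko-four type.
-/

set_option autoImplicit false
set_option linter.style.haveILetI false

namespace Cfsg.Agent.H38.JFour

open Cfsg Cfsg.Agent.Golay Subgroup H43.JFour H98.JFour

universe u v

variable {G : Type u} [Group G] [Finite G] {A : Type v} [Group A]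
variable {c : Ctx G A} {M W : Subgroup A} {h : Pkg c M W}

/-- The dictionary of `V` at an element `t`. -/
abbrev DictOf (h : Pkg c M W) (t : h.V) : Type u :=
  @Dict _ h.commV h.conjV.range {x : h.V | (x : G) ∈ h.rest} t

theorem exists_dictOf (h : Pkg c M W) (hF : HasFus c M) {t : h.V} (ht : (t : G) ∈ h.rest) :
    Nonempty (DictOf h t) := by
  letI := h.commV
  obtain ⟨D, hN, -⟩ := h.blocks hF
  have hp : D.toPairs.N = {x : h.V | (x : G) ∈ h.rest} := hN
  have := exists_dict D.toPairs (t := t) (hp.symm ▸ ht)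
  rwa [hp] at this

/-- The standing data: a complement and a dictionary. -/
structure Setting (h : Pkg c M W) (K : Subgroup G) (t : h.V) where
  hF : HasFus c M
  hE : IsCore c
  hK : Compl h K
  ht : (t : G) ∈ h.rest
  D : DictOf h t

namespace Setting

variable {K : Subgroup G} {t : h.V} (S : Setting h K t)
include S

/-- The element of `V` with a given syndrome. -/
noncomputable def F (s : ℕ) : G := ((letI := h.commV; S.D.φ s : h.V) : G)

/-- The permutation induced by an element of the normaliser. -/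
noncomputable def Φ : ↥(normalizer (h.V : Set G)) →* ↥Cfsg.M24 :=
  (letI := h.commV; S.D.Ψ).toMonoidHom.comp h.conjV.rangeRestrict

theorem F_mem (s : ℕ) : S.F s ∈ h.V := Subtype.coe_prop _

theorem F_zero : S.F 0 = 1 := by
  letI := h.commV
  show ((S.D.φ 0 : h.V) : G) = 1
  rw [S.D.φ_zero]; rfl

theorem F_xor (a b : ℕ) : S.F (a ^^^ b) = S.F a * S.F b := by
  letI := h.commV
  show ((S.D.φ _ : h.V) : G) = (S.D.φ a : h.V) * (S.D.φ b : h.V)
  rw [S.D.φ_xor]; rfl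

theorem F_sq (s : ℕ) : S.F s * S.F s = 1 := h.V_sq (S.F_mem s)

theorem F_inj {a b : ℕ} (ha : ev a = true) (hb : ev b = true) (e : S.F a = S.F b) : a = b := by
  letI := h.commV
  exact S.D.φ_inj ha hb (Subtype.ext e)

theorem exists_F {v : G} (hv : v ∈ h.V) : ∃ s, ev s = true ∧ S.F s = v := by
  letI := h.commV
  obtain ⟨s, hs, e⟩ := S.D.exists_ev ⟨v, hv⟩
  exact ⟨s, hs, congrArg Subtype.val e⟩

theorem F_tS : S.F (pairS 23 0) = t := by
  letI := h.commV
  exact congrArg Subtype.val S.D.φ_t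

theorem F_eq_one {s : ℕ} (hs : ev s = true) : S.F s = 1 ↔ s = 0 :=
  ⟨fun e => S.F_inj hs ev_zero (e.trans S.F_zero.symm), fun e => e ▸ S.F_zero⟩

theorem F_rest {s : ℕ} (hs : ev s = true) : S.F s ∈ h.rest ↔ isDuad s = true := by
  letI := h.commV
  exact S.D.mem_N_iff hs

theorem F_isConj {s : ℕ} (hs : ev s = true) : IsConj c.z (S.F s) ↔ isSext s = true := by
  constructor
  · intro hz
    have hne : s ≠ 0 := fun e => h.one_notMem_zOrb (by
      have := h.fusion (S.F_mem s) hz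
      rwa [(S.F_eq_one hs).2 e] at this)
    have hd : isDuad s = false := by
      by_contra hd
      exact ((S.F_rest hs).2 (by simpa using hd)).2 (h.fusion (S.F_mem s) hz)
    simp [isSext, hs, hne, hd]
  · intro hx
    obtain ⟨-, hne, hd⟩ := isSext_ev hx
    by_contra hz
    have : S.F s ∈ h.rest := ⟨⟨S.F_mem s, fun e => hne ((S.F_eq_one hs).1 e)⟩,
      fun e => hz (h.zOrb_isConj e)⟩
    rw [S.F_rest hs, hd] at this
    exact Bool.noConfusion this

theorem Φ_ker (x : ↥(normalizer (h.V : Set G))) : S.Φ x = 1 ↔ (x : G) ∈ h.V := by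
  rw [Φ, MonoidHom.comp_apply, MulEquiv.coe_toMonoidHom, MulEquiv.map_eq_one_iff,
    ← MonoidHom.mem_ker, MonoidHom.ker_rangeRestrict]
  have hk : h.conjV.ker = h.V.subgroupOf (normalizer (h.V : Set G)) := by
    show h.V.normalizerMonoidHom.ker = _
    rw [normalizerMonoidHom_ker, h.cent_V]
  rw [hk, mem_subgroupOf]

/-- Every permutation of the group comes from a unique element of the complement. -/
theorem exists_lift (σ : ↥Cfsg.M24) : ∃ k : ↥(normalizer (h.V : Set G)), (k : G) ∈ K ∧ S.Φ k = σ := by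
  obtain ⟨⟨x, hx⟩, e⟩ : ∃ x, S.Φ x = σ :=
    ((letI := h.commV; S.D.Ψ).surjective.comp h.conjV.rangeRestrict_surjective) σ
  obtain ⟨v, hv, k, hk, rfl⟩ := S.hK.decomp hx
  refine ⟨⟨k, S.hK.le hk⟩, hk, ?_⟩
  rw [← e, show (⟨v * k, hx⟩ : ↥(normalizer (h.V : Set G))) =
    ⟨v, le_normalizer hv⟩ * ⟨k, S.hK.le hk⟩ from rfl, map_mul,
    (S.Φ_ker ⟨v, le_normalizer hv⟩).2 hv, one_mul]

theorem Φ_inj_K {k k' : ↥(normalizer (h.V : Set G))} (hk : (k : G) ∈ K) (hk' : (k' : G) ∈ K)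
    (e : S.Φ k = S.Φ k') : k = k' := by
  have h1 : ((k * k'⁻¹ : ↥(normalizer (h.V : Set G))) : G) ∈ h.V :=
    (S.Φ_ker _).1 (by rw [map_mul, map_inv, e, mul_inv_cancel])
  have h2 : ((k * k'⁻¹ : ↥(normalizer (h.V : Set G))) : G) ∈ K ⊓ h.V :=
    mem_inf.2 ⟨mul_mem hk (inv_mem hk'), h1⟩
  rw [S.hK.inf, mem_bot] at h2
  exact Subtype.ext (mul_inv_eq_one.1 h2)

/-- Images of syndromes under a linear map given by an element. -/
def Maps (n : G) (gs : List ℕ) : Prop :=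
  gs.length = 11 ∧ ∀ s, ev s = true → ev (lin gs s) = true ∧ n * S.F s * n⁻¹ = S.F (lin gs s)

theorem maps_of_table {n : ↥(normalizer (h.V : Set G))} {T : ℕ} (hT : validT T = true)
    (hσ : mkPerm T = ((S.Φ n : ↥Cfsg.M24) : Equiv.Perm GolayPt)) (hev : (linGens T).all ev = true) :
    S.Maps n (linGens T) ∧ ∀ q ∈ graphL (linGens T),
      ev q.1 = true ∧ (n : G) * S.F q.1 * (n : G)⁻¹ = S.F q.2 := by
  letI := h.commV
  have hf : List.Forall₂ (fun x y => ev x = true ∧ ev y = true ∧ (n : G) * S.F x * (n : G)⁻¹ = S.F y)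
      basisE (linGens T) := by
    rw [linGens, List.forall₂_map_right_iff, List.forall₂_same]
    intro x hx
    have hbx : ev x = true := List.all_eq_true.1 basis_check.2 x hx
    refine ⟨hbx, List.all_eq_true.1 hev _ (List.mem_map.2 ⟨x, hx, rfl⟩), ?_⟩
    have h1 := congrArg Subtype.val (S.D.φ_img (h.conjV.rangeRestrict n) hT hσ (ev_card hbx))
    rw [MonoidHom.coe_rangeRestrict, h.conjV_apply] at h1
    exact h1
  have hrel := graphL_rel _ ⟨ev_zero, ev_zero, by rw [S.F_zero]; group⟩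
    (fun a b a' b' ha hb => ⟨ev_xor ha.1 hb.1, ev_xor ha.2.1 hb.2.1, by
      rw [S.F_xor, S.F_xor, show (n : G) * (S.F a * S.F a') * (n : G)⁻¹ =
        ((n : G) * S.F a * (n : G)⁻¹) * ((n : G) * S.F a' * (n : G)⁻¹) by group, ha.2.2, hb.2.2]⟩) hf
  refine ⟨⟨by simp [linGens, basisE], fun s hs => ?_⟩, fun q hq => ⟨(hrel q hq).1, (hrel q hq).2.2⟩⟩
  have := hrel _ (lin_mem_graph (by simp [linGens, basisE]) hs)
  exact ⟨this.2.1, this.2.2⟩

theorem maps_tblOf (n : ↥(normalizer (h.V : Set G)))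
    (hev : (linGens (tblOf ((S.Φ n : ↥Cfsg.M24) : Equiv.Perm GolayPt))).all ev = true) :
    S.Maps n (linGens (tblOf ((S.Φ n : ↥Cfsg.M24) : Equiv.Perm GolayPt))) :=
  (S.maps_of_table (validT_tblOf _) (mkPerm_tblOf _) hev).1

theorem rest_conj {n v : G} (hn : n ∈ normalizer (h.V : Set G)) (hv : v ∈ h.rest) :
    n⁻¹ * v * n ∈ h.rest :=
  h.conj_rest hn (h.rest_inv.sub hv) hv.1.2
    (fun e => hv.2 (h.fusion (h.rest_inv.sub hv) e))

/-- Conjugates of `z` in `V` come from `K`. -/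
theorem exists_K_conj {a : G} (ha : a ∈ h.V) (haz : IsConj c.z a) : ∃ k ∈ K, k * c.z * k⁻¹ = a := by
  obtain ⟨n, hn, rfl⟩ := h.fusion ha haz
  obtain ⟨v, hv, k, hk, rfl⟩ := S.hK.decomp hn
  refine ⟨k, hk, ?_⟩
  have h1 : k * c.z * k⁻¹ ∈ h.V := (mem_normalizer_iff.1 (S.hK.le hk) c.z).1 h.z_mem_V
  rw [show v * k * c.z * (v * k)⁻¹ = v * (k * c.z * k⁻¹) * v⁻¹ by group, h.V_comm hv h1,
    mul_inv_cancel_right]

theorem core_eq {k : G} : Cfsg.twoCoreOfCentralizer (k * c.z * k⁻¹) =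
    c.E.map (MulAut.conj k).toMonoidHom := by
  rw [twoCore_conj, ← S.hE]

theorem mem_core {k x : G} :
    x ∈ Cfsg.twoCoreOfCentralizer (k * c.z * k⁻¹) ↔ k⁻¹ * x * k ∈ c.E := by
  rw [S.core_eq, Ctx.mem_conj_map]

/-- The core of a conjugate in `V` splits along `V` and `K`. -/
theorem core_split {a v k : G} (ha : a ∈ h.V) (haz : IsConj c.z a) (hv : v ∈ h.V) (hk : k ∈ K) :
    v * k ∈ Cfsg.twoCoreOfCentralizer a ↔
      v ∈ Cfsg.twoCoreOfCentralizer a ∧ k ∈ Cfsg.twoCoreOfCentralizer a := by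
  refine ⟨fun hm => ?_, fun hm => mul_mem hm.1 hm.2⟩
  obtain ⟨n, hn, rfl⟩ := S.exists_K_conj ha haz
  rw [S.mem_core] at hm
  obtain ⟨b, hb, k', hk', hk'E, e⟩ := S.hK.split hm
  have hv' : n⁻¹ * v * n ∈ h.V := by
    simpa using (mem_normalizer_iff.1 (S.hK.le (inv_mem hn)) v).1 hv
  obtain ⟨e1, e2⟩ := S.hK.unique hv' (h.A7_le_V hb) (mul_mem (mul_mem (inv_mem hn) hk) hn) hk'
    (by rw [← e]; group)
  exact ⟨S.mem_core.2 (e1 ▸ (mem_inf.1 hb).1), S.mem_core.2 (e2 ▸ hk'E)⟩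

theorem card_core_V {a : G} (ha : a ∈ h.V) (haz : IsConj c.z a) :
    Nat.card ↥(h.V ⊓ Cfsg.twoCoreOfCentralizer a) = 128 := by
  obtain ⟨k, hk, rfl⟩ := S.exists_K_conj ha haz
  have e : h.V ⊓ Cfsg.twoCoreOfCentralizer (k * c.z * k⁻¹) = h.A7.map (MulAut.conj k).toMonoidHom := by
    ext x
    rw [mem_inf, S.mem_core, Ctx.mem_conj_map, ← h.V_inf_E, mem_inf]
    refine and_congr_left fun _ => ?_
    have := mem_normalizer_iff.1 (inv_mem (S.hK.le hk)) x
    rwa [inv_inv] at this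
  rw [e, Subgroup.card_map_of_injective (MulAut.conj k).injective, h.card_A7]
  rfl

theorem pair_core {a v : G} (ha : a ∈ h.V) (haz : IsConj c.z a) (hv : v ∈ h.rest)
    (hva : v * a ∈ h.rest) : v ∈ Cfsg.twoCoreOfCentralizer a := by
  obtain ⟨k, hk, rfl⟩ := S.exists_K_conj ha haz
  rw [S.mem_core]
  have h1 := S.rest_conj (S.hK.le hk) hv
  have h2 := S.rest_conj (S.hK.le hk) hva
  rw [show k⁻¹ * (v * (k * c.z * k⁻¹)) * k = k⁻¹ * v * k * c.z by group] at h2
  exact (mem_inf.1 (h.mem_A7_of_pr (h.rest_inv.sub h1) (h.pair_pr S.hF h1 h2))).1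

/-- Elements of `K` fixing the part of a core in `V` modulo its centre lie in it. -/
theorem mem_core_of_fix {a k : G} (ha : a ∈ h.V) (haz : IsConj c.z a) (hk : k ∈ K)
    (hka : k * a = a * k)
    (hfix : ∀ v ∈ h.V ⊓ Cfsg.twoCoreOfCentralizer a, k * v * k⁻¹ = v ∨ k * v * k⁻¹ = a * v) :
    k ∈ Cfsg.twoCoreOfCentralizer a := by
  obtain ⟨n, hn, rfl⟩ := S.exists_K_conj ha haz
  rw [S.mem_core]
  refine S.hK.mem_E_of_fix (mul_mem (mul_mem (inv_mem hn) hk) hn) ?_ fun b hb => ?_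
  · calc n⁻¹ * k * n * c.z = n⁻¹ * (k * (n * c.z * n⁻¹)) * n := by group
      _ = c.z * (n⁻¹ * k * n) := by rw [hka]; group
  · have hm : n * b * n⁻¹ ∈ h.V ⊓ Cfsg.twoCoreOfCentralizer (n * c.z * n⁻¹) :=
      mem_inf.2 ⟨(mem_normalizer_iff.1 (S.hK.le hn) b).1 (h.A7_le_V hb), S.mem_core.2 (by
        rw [show n⁻¹ * (n * b * n⁻¹) * n = b by group]; exact (mem_inf.1 hb).1)⟩
    rcases hfix _ hm with e | e
    · left
      rw [show n⁻¹ * k * n * b * (n⁻¹ * k * n)⁻¹ = n⁻¹ * (k * (n * b * n⁻¹) * k⁻¹) * n by group, e]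
      group
    · right
      rw [show n⁻¹ * k * n * b * (n⁻¹ * k * n)⁻¹ = n⁻¹ * (k * (n * b * n⁻¹) * k⁻¹) * n by group, e]
      group

end Setting

end Cfsg.Agent.H38.JFour
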