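import Mathlib

/-!
A set `N` of 276 elements of an elementary abelian group of order `2 ^ 11`, each having 44
neighbours (product in `N`), two non-neighbours having four common neighbours forming a coset:
every edge then lies in a clique of 23 elements.
-/

set_option autoImplicit false

namespace Cfsg.Agent.H38.JFour

variable {V : Type*} [CommGroup V]

/-- The local data. -/
structure Pairs (Γ : Subgroup (MulAut V)) where
  N : Set V
  sq : ∀ v : V, v * v = 1
  card_V : Nat.card V = 2048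
  card_N : N.ncard = 276
  one_N : (1 : V) ∉ N
  inv : ∀ g ∈ Γ, ∀ v ∈ N, g v ∈ N
  card_dvd : 27202560 ∣ Nat.card Γ
  valency : ∀ t ∈ N, {u | u ∈ N ∧ t * u ∈ N}.ncard = 44
  four : ∀ t ∈ N, ∀ u ∈ N, t ≠ u → t * u ∉ N → ∃ w,
    {x | x ∈ N ∧ t * x ∈ N ∧ u * x ∈ N} = {w, t * w, u * w, t * u * w}

namespace Pairs

variable {Γ : Subgroup (MulAut V)} (D : Pairs Γ)
include D

theorem inv_eq (v : V) : v⁻¹ = v := inv_eq_of_mul_eq_one_right (D.sq v)

theorem cancel (a b : V) : a * (a * b) = b := by rw [← mul_assoc, D.sq, one_mul]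

theorem cancel_mid (a b : V) : a * b * a = b := by rw [mul_comm (a * b), D.cancel]

theorem eq_of_mul_eq_one {a b : V} (h : a * b = 1) : b = a := by
  rw [← D.cancel a b, h, mul_one]

theorem ne_one_of_N {v : V} (h : v ∈ D.N) : v ≠ 1 := fun e => D.one_N (e ▸ h)

theorem inv' {g : MulAut V} (hg : g ∈ Γ) {v : V} : g v ∈ D.N ↔ v ∈ D.N := by
  refine ⟨fun h => ?_, D.inv g hg v⟩
  have := D.inv g⁻¹ (Γ.inv_mem hg) _ h
  rwa [← MulAut.mul_apply, inv_mul_cancel, MulAut.one_apply] at this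

/-- Neighbours. -/
def Nb (t : V) : Set V := {u | u ∈ D.N ∧ t * u ∈ D.N}

/-- Common neighbours other than the product. -/
def Com (t u : V) : Set V := {v | v ∈ D.Nb t ∧ v ∈ D.Nb u ∧ v ≠ t * u}

theorem Nb_symm {t u : V} (ht : t ∈ D.N) (h : u ∈ D.Nb t) : t ∈ D.Nb u :=
  ⟨ht, by rw [mul_comm]; exact h.2⟩

theorem mul_mem_Nb {t u : V} (h : u ∈ D.Nb t) : t * u ∈ D.Nb t :=
  ⟨h.2, by rw [D.cancel]; exact h.1⟩

theorem ne_of_Nb {t u : V} (h : u ∈ D.Nb t) : u ≠ t := fun e =>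
  D.one_N (by have := h.2; rwa [e, D.sq] at this)

theorem Nb_map {g : MulAut V} (hg : g ∈ Γ) (t u : V) : g u ∈ D.Nb (g t) ↔ u ∈ D.Nb t := by
  show g u ∈ D.N ∧ g t * g u ∈ D.N ↔ _
  rw [← map_mul, D.inv' hg, D.inv' hg]
  rfl

theorem Com_map {g : MulAut V} (hg : g ∈ Γ) (t u v : V) :
    g v ∈ D.Com (g t) (g u) ↔ v ∈ D.Com t u := by
  show g v ∈ D.Nb (g t) ∧ g v ∈ D.Nb (g u) ∧ g v ≠ g t * g u ↔ _
  rw [D.Nb_map hg, D.Nb_map hg, ← map_mul, g.injective.ne_iff]
  rfl

theorem exists_nb {t : V} (ht : t ∈ D.N) : ∃ u, u ∈ D.Nb t :=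
  Set.nonempty_of_ncard_ne_zero (s := D.Nb t)
    (by rw [Nb, D.valency t ht]; norm_num)

/-- Exactly one of `u * v`, `t * u * v` is in `N`. -/
def One (t u v : V) : Prop := (u * v ∈ D.N ↔ t * u * v ∉ D.N)

/-- Common neighbours of two non-adjacent neighbours of `t`. -/
theorem four_of_common {t a b : V} (ha : a ∈ D.Nb t) (hb : b ∈ D.Nb t) (hab : a ≠ b)
    (hN : a * b ∉ D.N) (ht : t ∈ D.N) :
    {x | x ∈ D.N ∧ a * x ∈ D.N ∧ b * x ∈ D.N} = {t, a * t, b * t, a * b * t} := by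
  obtain ⟨w, hw⟩ := D.four a ha.1 b hb.1 hab hN
  have htw : t ∈ ({w, a * w, b * w, a * b * w} : Set V) := hw ▸
    show t ∈ D.N ∧ a * t ∈ D.N ∧ b * t ∈ D.N from
      ⟨ht, by rw [mul_comm]; exact ha.2, by rw [mul_comm]; exact hb.2⟩
  rw [hw]
  rcases htw with e | e | e | e <;> subst e <;> ext x <;>
    simp only [Set.mem_insert_iff, Set.mem_singleton_iff, mul_assoc, D.cancel,
      show ∀ p q r : V, p * (q * r) = q * (p * r) from fun p q r => mul_left_comm p q r,
      D.sq, mul_one] <;> tauto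

theorem nb_cases {t u v : V} (ht : t ∈ D.N) (hu : u ∈ D.Nb t) (hv : v ∈ D.Nb t) (hvu : v ≠ u)
    (h : u * v ∉ D.N) : t * u * v ∈ D.N := by
  have h4 := D.four_of_common hu hv (Ne.symm hvu) h ht
  have : v * t ∈ {x | x ∈ D.N ∧ u * x ∈ D.N ∧ v * x ∈ D.N} := by rw [h4]; simp
  obtain ⟨-, h', -⟩ := this
  rwa [mul_comm t u, mul_assoc, mul_comm t v]

section finite

variable [Finite V]

/-- The sum over the neighbours of their common neighbours. -/
theorem sum_common {t : V} (ht : t ∈ D.N) [Fintype ↥(D.Nb t)] :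
    ∑ u : ↥(D.Nb t), {x | x ∈ D.Nb t ∧ x ∈ D.Nb (u : V)}.ncard = 44 * 22 := by
  classical
  let iV := Fintype.ofFinite V
  set A : Finset V := (D.Nb t).toFinset with hA
  set R : Finset V := Finset.univ.filter fun v => v ∈ D.N ∧ v ≠ t ∧ v ∉ D.Nb t with hR
  have hAc : A.card = 44 := by
    rw [hA, ← Set.ncard_eq_toFinset_card']; exact D.valency t ht
  have hRc : R.card = 231 := by
    have h1 : R = ((Finset.univ.filter fun v => v ∈ D.N) \ insert t A) := by
      ext v; simp [hR, hA]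
    have hN : (Finset.univ.filter fun v => v ∈ D.N).card = 276 := by
      rw [← D.card_N, Set.ncard_eq_toFinset_card']; congr 1; ext v; simp
    rw [h1, Finset.card_sdiff_of_subset, hN, Finset.card_insert_of_notMem, hAc]
    · intro h; exact D.ne_of_Nb (Set.mem_toFinset.1 h) rfl
    · intro v hv
      simp only [Finset.mem_insert, hA, Set.mem_toFinset] at hv
      simp only [Finset.mem_filter, Finset.mem_univ, true_and]
      rcases hv with rfl | hv
      exacts [ht, hv.1]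
  have hr : ∀ v ∈ R, (A.bipartiteBelow (fun u w => w ∈ D.Nb u) v).card = 4 := by
    intro v hv
    simp only [hR, Finset.mem_filter, Finset.mem_univ, true_and] at hv
    obtain ⟨hvN, hvt, hvA⟩ := hv
    have hn : t * v ∉ D.N := fun h => hvA ⟨hvN, h⟩
    obtain ⟨w, hw⟩ := D.four t ht v hvN (Ne.symm hvt) hn
    have e : (A.bipartiteBelow (fun u w => w ∈ D.Nb u) v) =
        ({w, t * w, v * w, t * v * w} : Finset V) := by
      ext x
      have hx := Set.ext_iff.1 hw x
      simp only [Set.mem_ofPred_eq, Set.mem_insert_iff, Set.mem_singleton_iff] at hx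
      simp only [Finset.bipartiteBelow, Finset.mem_filter, hA, Set.mem_toFinset, Finset.mem_insert,
        Finset.mem_singleton, ← hx]
      exact ⟨fun h => ⟨h.1.1, h.1.2, by rw [mul_comm]; exact h.2.2⟩,
        fun h => ⟨⟨h.1, h.2.1⟩, hvN, by rw [mul_comm]; exact h.2.2⟩⟩
    rw [e]
    have h1 : t ≠ 1 := D.ne_one_of_N ht
    have h2 : v ≠ 1 := D.ne_one_of_N hvN
    have h3 : t * v ≠ 1 := fun h => hvt (D.eq_of_mul_eq_one h)
    have h5 : t * w ≠ v * w := fun h => hvt (mul_right_cancel h).symm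
    rw [Finset.card_eq_four]
    refine ⟨w, t * w, v * w, t * v * w, fun h => h1 (mul_eq_right.1 h.symm),
      fun h => h2 (mul_eq_right.1 h.symm), fun h => h3 (mul_eq_right.1 h.symm), h5,
      fun h => h2 (mul_eq_left.1 (mul_right_cancel h).symm),
      fun h => h1 (mul_eq_right.1 (mul_right_cancel h).symm), rfl⟩
  have hdc := Finset.sum_card_bipartiteAbove_eq_sum_card_bipartiteBelow
    (fun u w => w ∈ D.Nb u) (s := A) (t := R)
  rw [Finset.sum_congr rfl hr, Finset.sum_const, hRc, smul_eq_mul] at hdc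
  have hu : ∀ u ∈ A, (R.bipartiteAbove (fun u w => w ∈ D.Nb u) u).card +
      {x | x ∈ D.Nb t ∧ x ∈ D.Nb u}.ncard = 43 := by
    intro u hu
    rw [hA, Set.mem_toFinset] at hu
    have hnb : (D.Nb u).toFinset = insert t ((R.bipartiteAbove (fun u w => w ∈ D.Nb u) u) ∪
        {x | x ∈ D.Nb t ∧ x ∈ D.Nb u}.toFinset) := by
      ext x
      simp only [hR, Finset.bipartiteAbove, Set.mem_toFinset, Finset.mem_insert, Finset.mem_union,
        Finset.mem_filter, Finset.mem_univ, true_and, Set.mem_ofPred_eq]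
      constructor
      · intro hx
        by_cases hxt : x = t
        · exact Or.inl hxt
        by_cases hxA : x ∈ D.Nb t
        · exact Or.inr (Or.inr ⟨hxA, hx⟩)
        · exact Or.inr (Or.inl ⟨⟨hx.1, hxt, hxA⟩, hx⟩)
      · rintro (rfl | ⟨-, h⟩ | ⟨-, h⟩)
        exacts [D.Nb_symm ht hu, h, h]
    have h44 : (D.Nb u).toFinset.card = 44 := by
      rw [← Set.ncard_eq_toFinset_card']; exact D.valency u hu.1
    rw [hnb, Finset.card_insert_of_notMem, Finset.card_union_of_disjoint,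
      ← Set.ncard_eq_toFinset_card'] at h44
    · omega
    · rw [Finset.disjoint_left]
      intro x hx hx'
      simp only [hR, Finset.bipartiteAbove, Finset.mem_filter, Finset.mem_univ, true_and] at hx
      exact hx.1.2.2 (Set.mem_toFinset.1 hx').1
    · simp only [hR, Finset.bipartiteAbove, Finset.mem_union, Finset.mem_filter, Finset.mem_univ,
        true_and, Set.mem_toFinset, Set.mem_ofPred_eq, not_or]
      exact ⟨fun h => h.1.2.1 rfl, fun h => D.ne_of_Nb h.1 rfl⟩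
  have hsum := Finset.sum_congr rfl hu (s₁ := A)
  rw [Finset.sum_add_distrib, hdc, Finset.sum_const, hAc, smul_eq_mul] at hsum
  rw [Finset.sum_set_coe (D.Nb t) (f := fun u => {x | x ∈ D.Nb t ∧ x ∈ D.Nb u}.ncard)]
  rw [hA] at hsum
  omega

theorem common_card {t u : V} (ht : t ∈ D.N) (hu : u ∈ D.Nb t) :
    {x | x ∈ D.Nb t ∧ x ∈ D.Nb u}.ncard = 22 ∧
    ∀ v ∈ D.Nb t, v ≠ u → v ≠ t * u → D.One t u v := by
  classical
  let iV := Fintype.ofFinite V
  let i0 : Fintype ↥(D.Nb t) := Fintype.ofFinite _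
  have key : ∀ u ∈ D.Nb t, 22 ≤ {x | x ∈ D.Nb t ∧ x ∈ D.Nb u}.ncard ∧
      ({x | x ∈ D.Nb t ∧ x ∈ D.Nb u}.ncard = 22 →
        ∀ v ∈ D.Nb t, v ≠ u → v ≠ t * u → D.One t u v) := by
    intro u hu
    set A : Set V := {x | x ∈ D.Nb t ∧ x ∈ D.Nb u ∧ x ≠ t * u} with hA
    set B : Set V := (fun x => t * x) '' A with hB
    set R : Set V := D.Nb t \ {u, t * u} with hR
    have huu : u ≠ t * u := fun h => D.ne_one_of_N ht (mul_eq_right.1 h.symm)
    have hRc : R.ncard = 42 := by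
      rw [hR, Set.ncard_sdiff (by
        intro x hx; rcases hx with rfl | rfl; exacts [hu, D.mul_mem_Nb hu]),
        Set.ncard_pair huu, Nb, D.valency t ht]
    have hAR : A ⊆ R := fun x hx => ⟨hx.1, by
      rintro (rfl | rfl); exacts [D.ne_of_Nb hx.2.1 rfl, hx.2.2 rfl]⟩
    have hBR : B ⊆ R := by
      rintro _ ⟨x, hx, rfl⟩
      refine ⟨D.mul_mem_Nb hx.1, ?_⟩
      rintro (e | e)
      · exact hx.2.2 (by rw [← e, D.cancel])
      · exact D.ne_of_Nb hx.2.1 (mul_left_cancel e)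
    have hsub : R ⊆ A ∪ B := by
      intro v ⟨hv, hne⟩
      simp only [Set.mem_insert_iff, Set.mem_singleton_iff, not_or] at hne
      by_cases h : u * v ∈ D.N
      · exact Or.inl ⟨hv, ⟨hv.1, h⟩, hne.2⟩
      · refine Or.inr ⟨t * v, ⟨D.mul_mem_Nb hv, ⟨hv.2, ?_⟩, fun e => hne.1
          (mul_left_cancel e)⟩, D.cancel t v⟩
        rw [← mul_assoc, mul_comm u t]
        exact D.nb_cases ht hu hv hne.1 h
    have hBc : B.ncard = A.ncard := Set.ncard_image_of_injective _ (mul_right_injective t)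
    have heq : A ∪ B = R := Set.Subset.antisymm (Set.union_subset hAR hBR) hsub
    have h2 := Set.ncard_union_add_ncard_inter A B
    rw [heq, hRc, hBc] at h2
    have hfull : {x | x ∈ D.Nb t ∧ x ∈ D.Nb u} = insert (t * u) A := by
      ext x
      simp only [hA, Set.mem_ofPred_eq, Set.mem_insert_iff]
      constructor
      · intro h
        by_cases e : x = t * u
        exacts [Or.inl e, Or.inr ⟨h.1, h.2, e⟩]
      · rintro (rfl | h)
        · exact ⟨D.mul_mem_Nb hu, ⟨hu.2, by rw [mul_left_comm, D.sq, mul_one]; exact ht⟩⟩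
        · exact ⟨h.1, h.2.1⟩
    have hc : {x | x ∈ D.Nb t ∧ x ∈ D.Nb u}.ncard = A.ncard + 1 := by
      rw [hfull, Set.ncard_insert_of_notMem (fun h => h.2.2 rfl)]
    refine ⟨by omega, fun h22 v hv h1 h3 => ?_⟩
    have hAB : A ∩ B = ∅ := by
      rw [← Set.ncard_eq_zero (Set.toFinite _)]; omega
    constructor
    · intro h h'
      have hvA : v ∈ A := ⟨hv, ⟨hv.1, h⟩, h3⟩
      have hvB : v ∈ B := ⟨t * v, ⟨D.mul_mem_Nb hv, ⟨hv.2, by
        rw [← mul_assoc, mul_comm u t]; exact h'⟩, fun e => h1 (mul_left_cancel e)⟩, D.cancel t v⟩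
      exact (Set.eq_empty_iff_forall_notMem.1 hAB v) ⟨hvA, hvB⟩
    · intro h
      by_contra h'
      exact h (D.nb_cases ht hu hv h1 h')
  have hs := D.sum_common ht
  have h22 : {x | x ∈ D.Nb t ∧ x ∈ D.Nb u}.ncard = 22 := by
    by_contra hne
    have hlt : ∑ _w : ↥(D.Nb t), 22 < ∑ w : ↥(D.Nb t), {x | x ∈ D.Nb t ∧ x ∈ D.Nb (w : V)}.ncard :=
      Finset.sum_lt_sum (fun w _ => (key w w.2).1)
        ⟨⟨u, hu⟩, Finset.mem_univ _, lt_of_le_of_ne (key u hu).1 (Ne.symm hne)⟩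
    rw [hs, Finset.sum_const, Finset.card_univ, ← Nat.card_eq_fintype_card, Nat.card_coe_set_eq,
      Nb, D.valency t ht, smul_eq_mul] at hlt
    exact lt_irrefl _ hlt
  exact ⟨h22, (key u hu).2 h22⟩

/-- Everything needed from an edge. -/
theorem edge {t u : V} (ht : t ∈ D.N) (hu : u ∈ D.Nb t) :
    (D.Nb t).ncard = 44 ∧ (D.Com t u).ncard = 21 ∧
    (∀ v ∈ D.Nb t, v ≠ u → v ≠ t * u → D.One t u v) ∧
    (∀ a ∈ D.Com t u, ∀ b ∈ D.Com t u, a ≠ b → a * b ∈ D.N) := by
  obtain ⟨h22, hone⟩ := D.common_card ht hu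
  refine ⟨D.valency t ht, ?_, hone, fun a ha b hb hab => ?_⟩
  · have e : {x | x ∈ D.Nb t ∧ x ∈ D.Nb u} = insert (t * u) (D.Com t u) := by
      ext x
      simp only [Com, Set.mem_ofPred_eq, Set.mem_insert_iff]
      constructor
      · intro h
        by_cases e : x = t * u
        exacts [Or.inl e, Or.inr ⟨h.1, h.2, e⟩]
      · rintro (rfl | h)
        · exact ⟨D.mul_mem_Nb hu, ⟨hu.2, by rw [mul_left_comm, D.sq, mul_one]; exact ht⟩⟩
        · exact ⟨h.1, h.2.1⟩
    rw [e, Set.ncard_insert_of_notMem (fun h => h.2.2 rfl)] at h22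
    omega
  · by_contra hN
    have hu' : u ∈ {x | x ∈ D.N ∧ a * x ∈ D.N ∧ b * x ∈ D.N} :=
      ⟨hu.1, by rw [mul_comm]; exact ha.2.1.2, by rw [mul_comm]; exact hb.2.1.2⟩
    rw [D.four_of_common ha.1 hb.1 hab hN ht] at hu'
    rcases hu' with e | e | e | e
    · exact D.ne_of_Nb hu e
    · exact ha.2.2 (by rw [e, mul_left_comm, D.sq, mul_one])
    · exact hb.2.2 (by rw [e, mul_left_comm, D.sq, mul_one])
    · have := hu.2
      rw [e, mul_left_comm, D.sq, mul_one] at this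
      exact hN this

end finite

end Pairs

end Cfsg.Agent.H38.JFour
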