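import Cfsg.Agent.H38.JFour.Code
import Cfsg.Agent.H29.SteinerAut
import Cfsg.Agent.S0364
import Cfsg.Agent.S0365
import Cfsg.Agent.S0366

/-!
(After `H61/Todd/Recognition`, for the weaker data `Pairs`.) The group is the Mathieu group of degree 24, and the stabiliser of an element of `N` that of a
pair of points.
-/

set_option autoImplicit false

namespace Cfsg.Agent.H38.JFour

open Cfsg
open scoped Pointwise

theorem index_nine_top {G : Type*} [Group G] [Finite G] [IsSimpleGroup G] (h23 : 23 ∣ Nat.card G)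
    (H : Subgroup G) (h : H.index ∣ 9) : H = ⊤ := by
  rw [← Subgroup.index_eq_one]
  have hle : H.index ≤ 9 := Nat.le_of_dvd (by norm_num) h
  by_contra hne
  rcases Subgroup.Normal.eq_bot_or_eq_top (H := H.normalCore) inferInstance with hb | ht
  · have hd : Nat.card G ∣ Nat.card (Equiv.Perm (G ⧸ H)) := by
      refine Subgroup.card_dvd_of_injective (MulAction.toPermHom G (G ⧸ H)) ?_
      rw [← MonoidHom.ker_eq_bot_iff, ← Subgroup.normalCore_eq_ker]
      exact hb
    rw [Nat.card_perm, ← Subgroup.index] at hd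
    have := (Nat.Prime.dvd_factorial (by norm_num : Nat.Prime 23)).1 (h23.trans hd)
    omega
  · exact hne (Subgroup.index_eq_one.2 (top_le_iff.1 (ht ▸ H.normalCore_le)))

variable {V : Type*} [CommGroup V] [Finite V] {Γ : Subgroup (MulAut V)}

theorem recognise (D : Pairs Γ) :
    ∃ Ψ : ↥Γ ≃* ↥Cfsg.M24, ∀ t ∈ D.N, ∃ a b : GolayPt, a ≠ b ∧ ∀ g : ↥Γ,
      ((g : MulAut V) t = t ↔
        ((Ψ g : ↥Cfsg.M24) : Equiv.Perm GolayPt) • ({a, b} : Set GolayPt) = {a, b}) := by
  classical
  let i1 := Fintype.ofFinite D.Star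
  have hstar : Fintype.card D.Star = 24 := by rw [← Nat.card_eq_fintype_card, D.card_star]
  obtain ⟨e, heX, he⟩ := H29.exists_embed24 hstar D.blocks_isSteiner
  have hK : (Cfsg.setSystemAut D.blocks).map (Equiv.Perm.viaEmbeddingHom e) = Cfsg.M24 := by
    ext σ
    rw [H29.aut_map_viaEmbedding e he, H29.smul_octads_iff]
    exact and_iff_right fun p hp => absurd (heX.symm ▸ Finset.mem_univ p) hp
  obtain ⟨φ, hφ⟩ := H29.aut_equiv e hK
  have hsub : ∀ (g : ↥Γ) (b : Finset D.Star), D.act g • b = b.image (D.act g) := fun g b => rfl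
  have hmem : ∀ g : ↥Γ, D.act g ∈ Cfsg.setSystemAut D.blocks := by
    intro g
    refine MulAction.mem_stabilizer_iff.2 (Set.ext fun b => ?_)
    constructor
    · rintro ⟨c, hc, rfl⟩
      show D.act g • c ∈ D.blocks
      rw [hsub]
      exact D.act_blocks g hc
    · intro hb
      refine ⟨D.act g⁻¹ • b, by rw [hsub]; exact D.act_blocks g⁻¹ hb, ?_⟩
      show D.act g • (D.act g⁻¹ • b) = b
      rw [smul_smul, ← map_mul, mul_inv_cancel, map_one, one_smul]
  let Φ : ↥Γ →* ↥Cfsg.M24 := φ.toMonoidHom.comp (D.act.codRestrict _ hmem)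
  have hinj : Function.Injective Φ := φ.injective.comp fun a b h =>
    D.act_injective (congrArg Subtype.val h)
  have : IsSimpleGroup ↥Cfsg.M24 := S0365.result
  have hidx : Φ.range.index ∣ 9 := by
    have h1 := Φ.range.card_mul_index
    rw [← Nat.card_congr (MonoidHom.ofInjective hinj).toEquiv, S0364.result] at h1
    obtain ⟨c, hc⟩ := D.card_dvd
    exact Dvd.intro_left c (Nat.eq_of_mul_eq_mul_left (show 0 < 27202560 by norm_num)
      (by rw [← mul_assoc, ← hc, h1]))
  have hsurj : Function.Surjective Φ :=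
    MonoidHom.range_eq_top.1 (index_nine_top (by rw [S0364.result]; norm_num) _ hidx)
  refine ⟨MulEquiv.ofBijective Φ ⟨hinj, hsurj⟩, fun t ht => ?_⟩
  obtain ⟨a, b, hab, ha, hb, -⟩ := D.two_stars ht
  refine ⟨e a, e b, e.injective.ne hab, fun g => ?_⟩
  rw [← D.e_eq hab ha hb, D.fix_iff_pair g hab]
  have hp : ∀ x : D.Star, ((Φ g : ↥Cfsg.M24) : Equiv.Perm GolayPt) (e x) = e (D.act g x) :=
    fun x => hφ _ x
  show _ ↔ ((Φ g : ↥Cfsg.M24) : Equiv.Perm GolayPt) • ({e a, e b} : Set GolayPt) = {e a, e b}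
  have himg : ((Φ g : ↥Cfsg.M24) : Equiv.Perm GolayPt) • ({e a, e b} : Set GolayPt) =
      e '' (({a, b} : Finset D.Star).image (D.act g) : Finset D.Star) := by
    rw [← Set.image_smul]
    simp [Set.image_insert_eq, hp]
  rw [himg, ← Finset.coe_inj]
  have h2 : ({e a, e b} : Set GolayPt) = e '' ((({a, b} : Finset D.Star)) : Set D.Star) := by
    simp [Set.image_insert_eq]
  rw [h2, e.injective.image_injective.eq_iff]

/-- The form with the standard pair. -/
theorem recognise_pair (D : Pairs Γ) {t : V} (ht : t ∈ D.N) :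
    ∃ Ψ : ↥Γ ≃* ↥Cfsg.M24, ∀ g : ↥Γ, ((g : MulAut V) t = t ↔
      ((Ψ g : ↥Cfsg.M24) : Equiv.Perm GolayPt) ∈
        MulAction.stabilizer (Equiv.Perm GolayPt) ({none, some 0} : Set GolayPt)) := by
  obtain ⟨Ψ, hΨ⟩ := recognise D
  obtain ⟨a, b, hab, h⟩ := hΨ t ht
  have h2 : MulAction.IsMultiplyPretransitive ↥Cfsg.M24 GolayPt 2 := by
    have := S0366.result
    exact MulAction.isMultiplyPretransitive_of_le (n := 5) (by norm_num) (by
      rw [Nat.card_eq_fintype_card]; decide)
  obtain ⟨m, hma, hmb⟩ :=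
    MulAction.is_two_pretransitive_iff.1 h2 (show a ≠ b from hab)
      (show (none : GolayPt) ≠ some 0 from Option.some_ne_none _ |>.symm)
  refine ⟨Ψ.trans (MulAut.conj m), fun g => (h g).trans ?_⟩
  have hm : (m : Equiv.Perm GolayPt) • ({a, b} : Set GolayPt) = {none, some 0} := by
    rw [← Set.image_smul]
    simp only [Set.image_insert_eq, Set.image_singleton]
    rw [show (m : Equiv.Perm GolayPt) • a = none from hma,
      show (m : Equiv.Perm GolayPt) • b = some 0 from hmb]
  rw [MulAction.mem_stabilizer_iff]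
  show _ ↔ ((m * Ψ g * m⁻¹ : ↥Cfsg.M24) : Equiv.Perm GolayPt) • _ = _
  rw [← hm, Subgroup.coe_mul, Subgroup.coe_mul, Subgroup.coe_inv, mul_smul, mul_smul, inv_smul_smul,
    smul_left_cancel_iff]

end Cfsg.Agent.H38.JFour
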