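import Cfsg.Agent.H38.JFour.Model
import Cfsg.Agent.H38.JFour.Checks

/-!
The records of four-point syndromes in a group of Janko-four type.
-/

set_option autoImplicit false
set_option linter.style.haveILetI false

namespace Cfsg.Agent.H38.JFour

open Cfsg Cfsg.Agent.Golay Subgroup H43.JFour H98.JFour GolayTables

universe u v

variable {G : Type u} [Group G] [Finite G] {A : Type v} [Group A]
variable {c : Ctx G A} {M W : Subgroup A} {h : Pkg c M W}

theorem spanStep_closed {l : List ℕ} {b : ℕ} (hl : ∀ x ∈ l, ∀ y ∈ l, x ^^^ y ∈ l) :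
    ∀ x ∈ spanStep l b, ∀ y ∈ spanStep l b, x ^^^ y ∈ spanStep l b := by
  intro x hx y hy
  simp only [spanStep, List.mem_flatMap, List.mem_cons, List.not_mem_nil, or_false] at hx hy ⊢
  obtain ⟨p, hp, hx⟩ := hx
  obtain ⟨q, hq, hy⟩ := hy
  refine ⟨p ^^^ q, hl p hp q hq, ?_⟩
  rcases hx with rfl | rfl <;> rcases hy with rfl | rfl
  · exact Or.inl rfl
  · exact Or.inr (Nat.xor_assoc _ _ _).symm
  · exact Or.inr (by rw [Nat.xor_assoc, Nat.xor_comm b, ← Nat.xor_assoc])
  · exact Or.inl (by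
      rw [Nat.xor_assoc, Nat.xor_comm b, Nat.xor_assoc q, Nat.xor_self, Nat.xor_zero])

theorem spanStep_nodup : ∀ {l : List ℕ} {b : ℕ}, l.Nodup → (∀ p ∈ l, ∀ q ∈ l, p ^^^ b ≠ q) →
    (spanStep l b).Nodup
  | [], _, _, _ => by simp [spanStep]
  | a :: l, b, hn, hb => by
    have hn' := List.nodup_cons.1 hn
    have ih := spanStep_nodup (l := l) (b := b) hn'.2 fun p hp q hq =>
      hb p (List.mem_cons_of_mem _ hp) q (List.mem_cons_of_mem _ hq)
    have e : spanStep (a :: l) b = a :: (a ^^^ b) :: spanStep l b := rfl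
    rw [e, List.nodup_cons, List.nodup_cons]
    refine ⟨?_, ?_, ih⟩
    · simp only [spanStep, List.mem_cons, List.mem_flatMap, List.not_mem_nil, or_false, not_or,
        not_exists, not_and]
      exact ⟨fun e' => hb a List.mem_cons_self a List.mem_cons_self e'.symm, fun p hp =>
        ⟨fun e' => hn'.1 (e' ▸ hp),
          fun e' => hb p (List.mem_cons_of_mem _ hp) a List.mem_cons_self e'.symm⟩⟩
    · simp only [spanStep, List.mem_flatMap, List.mem_cons, List.not_mem_nil, or_false,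
        not_exists, not_and, not_or]
      exact fun p hp => ⟨fun e' => hb a List.mem_cons_self p (List.mem_cons_of_mem _ hp) e',
        fun e' => hn'.1 (Nat.xor_left_injective e' ▸ hp)⟩

theorem span_spec : ∀ (bs l : List ℕ), l.Nodup → 0 ∈ l → (∀ x ∈ l, ∀ y ∈ l, x ^^^ y ∈ l) →
    indep bs l = true →
      (bs.foldl spanStep l).Nodup ∧ (bs.foldl spanStep l).length = 2 ^ bs.length * l.length
  | [], l, hn, _, _, _ => ⟨hn, by simp⟩
  | b :: bs, l, hn, h0, hl, hi => by
    rw [indep, forceL_eq, Bool.and_eq_true, Bool.not_eq_true', List.contains_eq_mem,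
      decide_eq_false_iff_not] at hi
    have hb : ∀ p ∈ l, ∀ q ∈ l, p ^^^ b ≠ q := fun p hp q hq e => hi.1 (by
      have := hl p hp q hq
      rwa [← e, ← Nat.xor_assoc, Nat.xor_self, Nat.zero_xor] at this)
    obtain ⟨h1, h2⟩ := span_spec bs (spanStep l b) (spanStep_nodup hn hb)
      (List.mem_flatMap.2 ⟨0, h0, List.mem_cons_self⟩) (spanStep_closed hl) hi.2
    refine ⟨h1, ?_⟩
    rw [List.foldl_cons, h2, List.length_cons, pow_succ, show (spanStep l b).length = l.length * 2 by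
      simp [spanStep, List.length_flatMap]]
    ring

theorem span_induction {P : ℕ → Prop} (hxor : ∀ x y, P x → P y → P (x ^^^ y)) :
    ∀ (bs l : List ℕ), (∀ b ∈ bs, P b) → (∀ x ∈ l, P x) → ∀ x ∈ bs.foldl spanStep l, P x
  | [], _, _, hl => hl
  | b :: bs, l, hb, hl => by
    refine span_induction hxor bs (spanStep l b) (fun x hx => hb x (List.mem_cons_of_mem _ hx)) ?_
    intro x hx
    simp only [spanStep, List.mem_flatMap, List.mem_cons, List.not_mem_nil, or_false] at hx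
    obtain ⟨p, hp, rfl | rfl⟩ := hx
    exacts [hl _ hp, hxor _ _ (hl _ hp) (hb b List.mem_cons_self)]

theorem recTest_spec {r : ℕ × List ℕ × ℕ} (hr : r ∈ sextTab) :
    isSext r.1 = true ∧ isSext (r.1 ^^^ tS) = false ∧ r.2.1.length = 7 ∧
      (∀ b ∈ r.2.1, isDuad b = true ∧ isDuad (b ^^^ r.1) = true) ∧ indep r.2.1 [0] = true ∧
      ∀ s, r.2.2.testBit s = true ↔ s ∈ r.2.1.foldl spanStep [0] := by
  have h := List.all_eq_true.1 recTest_all r hr
  simp only [recTest, Bool.and_eq_true, Bool.not_eq_true', decide_eq_true_eq, List.all_eq_true,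
    beq_iff_eq] at h
  obtain ⟨⟨⟨⟨⟨h1, h2⟩, h3⟩, h4⟩, h5⟩, h6⟩ := h
  refine ⟨h1, h2, h3, h4, h5, fun s => ?_⟩
  rw [← h6, testBit_foldl_set]
  simp

theorem exists_rec {s : ℕ} (h1 : isSext s = true) (h2 : isSext (s ^^^ tS) = false) :
    ∃ r ∈ sextTab, r.1 = s := by
  have hlt : s < 2 ^ 12 := by
    have := (isSext_ev h1).1
    simp only [ev, Bool.and_eq_true, decide_eq_true_eq] at this
    exact this.1
  have h := rec_complete
  simp only [forceN_eq, List.all_eq_true, List.mem_range, Bool.or_eq_true, Bool.not_eq_true',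
    recMask, testBit_foldl_set, List.mem_map] at h
  rcases h s hlt with (e | e) | e
  · rw [h1] at e; exact Bool.noConfusion e
  · rw [h2] at e; exact Bool.noConfusion e
  · rcases e with e | ⟨r, hr, e⟩
    · simp at e
    · exact ⟨r, hr, e⟩

namespace Setting

variable {K : Subgroup G} {t : h.V} (S : Setting h K t)
include S

theorem F_t : S.F tS = t := S.F_tS

theorem rec_core {r : ℕ × List ℕ × ℕ} (hr : r ∈ sextTab) :
    IsConj c.z (S.F r.1) ∧ (∀ x ∈ r.2.1.foldl spanStep [0], ev x = true) ∧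
      ∀ s, ev s = true →
        (S.F s ∈ Cfsg.twoCoreOfCentralizer (S.F r.1) ↔ s ∈ r.2.1.foldl spanStep [0]) := by
  obtain ⟨h1, -, hlen, hbs, hind, -⟩ := recTest_spec hr
  have ha := (isSext_ev h1).1
  have haz : IsConj c.z (S.F r.1) := (S.F_isConj ha).2 h1
  have hev : ∀ x ∈ r.2.1.foldl spanStep [0], ev x = true :=
    span_induction (fun _ _ => ev_xor) _ _ (fun b hb => (ev_of_isDuad (hbs b hb).1).1)
      (fun x hx => by rw [List.mem_singleton.1 hx]; exact ev_zero)
  refine ⟨haz, hev, fun s hs => ?_⟩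
  set L := r.2.1.foldl spanStep [0] with hL
  set X := h.V ⊓ Cfsg.twoCoreOfCentralizer (S.F r.1) with hX
  have hsub : ∀ x ∈ L, S.F x ∈ X := span_induction (P := fun x => S.F x ∈ X)
    (fun x y hx hy => by show S.F (x ^^^ y) ∈ X; rw [S.F_xor]; exact mul_mem hx hy) _ _
    (fun b hb => by
      obtain ⟨hb1, hb2⟩ := hbs b hb
      have hba : S.F b * S.F r.1 ∈ h.rest := by
        rw [← S.F_xor]; exact (S.F_rest (ev_xor (ev_of_isDuad hb1).1 ha)).2 hb2
      exact mem_inf.2 ⟨S.F_mem b,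
        S.pair_core (S.F_mem _) haz ((S.F_rest (ev_of_isDuad hb1).1).2 hb1) hba⟩)
    (fun x hx => by rw [List.mem_singleton.1 hx, S.F_zero]; exact one_mem _)
  obtain ⟨hnd, hlen'⟩ := span_spec r.2.1 [0] (List.nodup_singleton 0) List.mem_cons_self
    (fun x hx y hy => by rw [List.mem_singleton.1 hx, List.mem_singleton.1 hy]; simp) hind
  rw [hlen, List.length_singleton, mul_one, ← hL] at hlen'
  rw [← hL] at hnd
  refine ⟨fun hm => ?_, fun hm => (mem_inf.1 (hsub s hm)).2⟩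
  classical
  have hnd' : (L.map S.F).Nodup := hnd.map_on fun x hx y hy e => S.F_inj (hev x hx) (hev y hy) e
  have hset : ((L.map S.F).toFinset : Set G) = (X : Set G) := by
    refine Set.eq_of_subset_of_ncard_le ?_ ?_ (Set.toFinite _)
    · intro x hx
      rw [Finset.mem_coe, List.mem_toFinset, List.mem_map] at hx
      obtain ⟨y, hy, rfl⟩ := hx
      exact hsub y hy
    · rw [Set.ncard_coe_finset, List.toFinset_card_of_nodup hnd', List.length_map, hlen',
        ← Nat.card_coe_set_eq]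
      exact le_of_eq (S.card_core_V (S.F_mem _) haz)
  have hmem : S.F s ∈ ((L.map S.F).toFinset : Set G) := by
    rw [hset]; exact mem_inf.2 ⟨S.F_mem s, hm⟩
  rw [Finset.mem_coe, List.mem_toFinset, List.mem_map] at hmem
  obtain ⟨y, hy, e⟩ := hmem
  rwa [← S.F_inj (hev y hy) hs e]

theorem rec_mem {r : ℕ × List ℕ × ℕ} (hr : r ∈ sextTab) {s : ℕ} (hs : ev s = true) :
    S.F s ∈ Cfsg.twoCoreOfCentralizer (S.F r.1) ↔ r.2.2.testBit s = true := by
  rw [(S.rec_core hr).2.2 s hs, (recTest_spec hr).2.2.2.2.2 s]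

/-- Membership of an element of the complement in the core of a record. -/
theorem mem_core_iff {r : ℕ × List ℕ × ℕ} (hr : r ∈ sextTab) {k : G} (hk : k ∈ K) {gs : List ℕ}
    (hm : S.Maps k gs) : k ∈ Cfsg.twoCoreOfCentralizer (S.F r.1) ↔ inO gs r = true := by
  obtain ⟨hsx, -, -, hbs, -, -⟩ := recTest_spec hr
  obtain ⟨haz, hev, hcore⟩ := S.rec_core hr
  have ha := (isSext_ev hsx).1
  simp only [inO, Bool.and_eq_true, beq_iff_eq, List.all_eq_true, Bool.or_eq_true]
  constructor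
  · intro hkc
    have hka : k * S.F r.1 * (k)⁻¹ = S.F r.1 := by
      rw [mem_centralizer_singleton_iff.1 (twoCore_le_centralizer _ hkc), mul_inv_cancel_right]
    refine ⟨S.F_inj (hm.2 _ ha).1 ha ((hm.2 _ ha).2 ▸ hka), fun b hb => ?_⟩
    obtain ⟨hb1, hb2⟩ := hbs b hb
    have hbev := (ev_of_isDuad hb1).1
    have hbc : S.F b ∈ Cfsg.twoCoreOfCentralizer (S.F r.1) := by
      have hba : S.F b * S.F r.1 ∈ h.rest := by
        rw [← S.F_xor]; exact (S.F_rest (ev_xor hbev ha)).2 hb2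
      exact S.pair_core (S.F_mem _) haz ((S.F_rest hbev).2 hb1) hba
    rcases core_comm h.hc S.hE haz hkc hbc with e | e
    · exact Or.inl (S.F_inj (hm.2 b hbev).1 hbev ((hm.2 b hbev).2 ▸ mul_inv_eq_one.1 e))
    · refine Or.inr (S.F_inj (hm.2 b hbev).1 (ev_xor hbev ha) ?_)
      rw [← (hm.2 b hbev).2, mul_inv_eq_iff_eq_mul.1 e, S.F_xor, h.V_comm (S.F_mem _) (S.F_mem _)]
  · rintro ⟨hla, hlb⟩
    have hfa : k * S.F r.1 * k⁻¹ = S.F r.1 := by rw [(hm.2 _ ha).2, hla]
    refine S.mem_core_of_fix (S.F_mem _) haz hk (mul_inv_eq_iff_eq_mul.1 hfa) ?_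
    intro v hv
    obtain ⟨hvV, hvc⟩ := mem_inf.1 hv
    obtain ⟨s, hs, rfl⟩ := S.exists_F hvV
    have hmem := (hcore s hs).1 hvc
    suffices h2 : ev s = true ∧ (k * S.F s * k⁻¹ = S.F s ∨ k * S.F s * k⁻¹ = S.F r.1 * S.F s) from h2.2
    refine span_induction (P := fun x => ev x = true ∧
      (k * S.F x * k⁻¹ = S.F x ∨ k * S.F x * k⁻¹ = S.F r.1 * S.F x)) ?_ _ _ ?_ ?_ s hmem
    · rintro x y ⟨hx, ex⟩ ⟨hy, ey⟩
      refine ⟨ev_xor hx hy, ?_⟩
      rw [S.F_xor, show k * (S.F x * S.F y) * k⁻¹ = (k * S.F x * k⁻¹) * (k * S.F y * k⁻¹) by group]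
      rcases ex with ex | ex <;> rcases ey with ey | ey <;> rw [ex, ey]
      · exact Or.inl rfl
      · right; rw [← mul_assoc, h.V_comm (S.F_mem x) (S.F_mem r.1), mul_assoc]
      · right; rw [mul_assoc]
      · left
        rw [h.V_comm (S.F_mem r.1) (S.F_mem x), mul_assoc, ← mul_assoc (S.F r.1), S.F_sq, one_mul]
    · intro b hb
      have hbev := (ev_of_isDuad (hbs b hb).1).1
      refine ⟨hbev, ?_⟩
      rw [(hm.2 b hbev).2]
      rcases hlb b hb with e | e <;> rw [e]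
      · exact Or.inl rfl
      · rw [S.F_xor, h.V_comm (S.F_mem _) (S.F_mem _)]; exact Or.inr rfl
    · intro x hx
      rw [List.mem_singleton.1 hx, S.F_zero]
      exact ⟨ev_zero, Or.inl (by group)⟩

/-- The type of a record at `t`. -/
theorem rec_typeOne {r : ℕ × List ℕ × ℕ} (hr : r ∈ sextTab) : TypeOne c.z h.V (t : G) (S.F r.1) := by
  obtain ⟨h1, h2, -⟩ := recTest_spec hr
  refine ⟨S.F_mem _, (S.rec_core hr).1, fun e => ?_⟩
  rw [← S.F_t, ← S.F_xor, S.F_isConj (ev_xor (isSext_ev h1).1 pure_check.2.2.2.2.2.1), h2] at e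
  exact Bool.noConfusion e

theorem exists_rec_of_typeOne {a : G} (ha : TypeOne c.z h.V (t : G) a) :
    ∃ r ∈ sextTab, S.F r.1 = a := by
  obtain ⟨haV, haz, hat⟩ := ha
  obtain ⟨s, hs, rfl⟩ := S.exists_F haV
  rw [← S.F_t, ← S.F_xor, S.F_isConj (ev_xor hs pure_check.2.2.2.2.2.1), Bool.not_eq_true] at hat
  obtain ⟨r, hr, e⟩ := exists_rec ((S.F_isConj hs).1 haz) hat
  exact ⟨r, hr, by rw [e]⟩

end Setting

end Cfsg.Agent.H38.JFour
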