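import Cfsg.Agent.H38.JFour.TModelInst
import Cfsg.Agent.H98.JFour.Assembly

/-!
The second class of involutions of a group of Janko-four type.
-/

set_option autoImplicit false

namespace Cfsg.Agent.H38.JFour

open Subgroup H43.JFour H98.JFour

universe u

variable {G : Type u} [Group G] [Finite G]

/-- The two statements on the second class of involutions. -/
theorem second_class_all [IsSimpleGroup G] (hG : ¬ IsMulCommutative G) {z : G}
    (hJ : Cfsg.IsOfJankoFourTypeAt z) :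
    (∀ V : Subgroup G, Cfsg.IsElementaryAbelian 2 V → Nat.card ↥V = 2 ^ 11 →
      ∃ z' t : G, z' ∈ V ∧ t ∈ V ∧ t ≠ 1 ∧ IsConj z z' ∧ ¬ IsConj z t ∧
        Set.ncard {v : G | ∃ n ∈ normalizer (V : Set G), n * z' * n⁻¹ = v} = 1771 ∧
        Set.ncard {v : G | ∃ n ∈ normalizer (V : Set G), n * t * n⁻¹ = v} = 276 ∧
        centralizer ({t} : Set G) ≤ normalizer (V : Set G)) ∧
    (∀ t : G, orderOf t = 2 → ¬ IsConj z t →
      ∃ V K : Subgroup G, V ≤ centralizer ({t} : Set G) ∧ K ≤ centralizer ({t} : Set G) ∧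
        centralizer ({t} : Set G) ≤ normalizer (V : Set G) ∧ Cfsg.IsElementaryAbelian 2 V ∧
        Nat.card ↥V = 2 ^ 11 ∧ K ⊓ V = ⊥ ∧ K ⊔ V = centralizer ({t} : Set G) ∧
        Nonempty (↥K ≃* MulAut ↥Cfsg.Spor.M22)) := by
  obtain ⟨c, W, W', a, b, u, rfl, hE, hti, h, h', hS, hF⟩ := exists_full_setup hG hJ
  obtain ⟨K, hK, hKV, hsup, -⟩ := exists_mathieu_complement h h' hS hF
  have hcent := h.cent_le_of_model hF hE hti fun t htV ht1 htz =>
    exists_tmodel h hF hE hti ⟨hK, hKV, hsup⟩ htV ht1 htz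
  exact ⟨fun V hV hcard => h.two_eleven_orbits hF hcent hV hcard,
    fun t ht hnc => h.nonz_shape h' hS hF hti H98.JFour.outerInR_autM22 hG hcent ht hnc⟩

end Cfsg.Agent.H38.JFour
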