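import Cfsg.Agent.H38.JFour.SplitModel
import Cfsg.Agent.H38.JFour.SplitTables
import Cfsg.Agent.H85.JFour.AutM22.Hex

/-!
The two hexad subgroups and the normalising group of order 16 in the automorphism group of the Mathieu group on 22
points.
-/

set_option autoImplicit false

namespace Cfsg.Agent.H38.JFour

open Cfsg Cfsg.Agent.Golay Cfsg.Agent.H94.M24 Cfsg.Agent.H85.AutM22 Cfsg.Agent.H98.JFour SplitTables
open scoped Pointwise

attribute [local irreducible] tblMul mkTbl tblImg powT wList wGens twoGens tGens tList genWords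

/-- The product of the tables listed by a word. -/
def wordT (gens : List ℕ) : List ℕ → ℕ
  | [] => idTblVal
  | i :: l => tblMul (gens.getD i idTblVal) (wordT gens l)

lemma gen_check :
    (ok gT && isInner gT) = true ∧ twoGens.length = 4 ∧
    ((List.range 4).all fun i => carries gT (wGens.getD i 0) (twoGens.getD i 0)) = true ∧
    (twoGens.all ok) = true ∧
    (genWords.all fun p => ok p.1 && isInner p.1 && (wordT (wGens ++ twoGens) p.2 == p.1)) = true ∧
    genOK tGens tList tPar = true ∧ tList.length = 128 ∧ tList.Nodup ∧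
    ((tGens ++ [e11T, e7T, e5T]).all fun x => genWords.any fun p => p.1 == x) = true ∧
    powT 11 e11T = idTblVal ∧ powT 7 e7T = idTblVal ∧ powT 5 e5T = idTblVal ∧
    e11T ≠ idTblVal ∧ e7T ≠ idTblVal ∧ e5T ≠ idTblVal := by
  decide +kernel

/-- The table of `(a b)^i a^j u^k`. -/
def freeT (i j k : ℕ) : ℕ := tblMul (tblMul (powT i (tblMul aT bT)) (powT j aT)) (powT k uT)

lemma norm_check :
    ([aT, bT, uT].all fun x => ok x && normW x) = true ∧
    ([0, 1, 2].all fun i => ok (backT.getD i 0) && normW (backT.getD i 0) &&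
      (tblMul gT (backT.getD i 0) == tblMul ([aT, bT, uT].getD i 0) gT)) = true ∧
    (isInner aT && isInner bT && !isInner uT) = true ∧
    tblMul aT aT = idTblVal ∧ tblMul bT bT = idTblVal ∧ tblMul uT uT = idTblVal ∧
    powT 4 (tblMul aT bT) = idTblVal ∧ tblMul uT aT = tblMul aT uT ∧
    tblMul uT bT = tblMul bT uT ∧
    ((List.range 4).all fun i => (List.range 2).all fun j => (List.range 2).all fun k =>
      (i == 0 && j == 0 && k == 0) || !(wList.contains (freeT i j k))) = true := by
  decide +kernel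

lemma el_wordT {gens : List ℕ} (hg : ∀ t ∈ gens, Good t) :
    ∀ w, Good (wordT gens w) ∧
      ∀ K : Subgroup ↥pairGrp, (∀ t ∈ gens, el t ∈ K) → el (wordT gens w) ∈ K := by
  intro w
  induction w with
  | nil => exact ⟨good_id, fun K _ => by rw [wordT, el_id]; exact one_mem _⟩
  | cons i l ih =>
    have hi : gens.getD i idTblVal ∈ gens ∨ gens.getD i idTblVal = idTblVal := by
      rcases lt_or_ge i gens.length with h | h
      · left; rw [List.getD_eq_getElem _ _ h]; exact List.getElem_mem _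
      · right; rw [List.getD_eq_default _ _ h]
    have hG : Good (gens.getD i idTblVal) := hi.elim (hg _) fun e => by rw [e]; exact good_id
    refine ⟨hG.mul ih.1, fun K hK => ?_⟩
    rw [wordT, hG.el_mul ih.1]
    refine mul_mem ?_ (ih.2 K hK)
    rcases hi with h | h
    · exact hK _ h
    · rw [h, el_id]; exact one_mem _

/-- The second hexad subgroup. -/
noncomputable def hexW' : Subgroup ↥pairGrp := hexW.map (MulAut.conj (el gT)).toMonoidHom

lemma good_gT : Good gT ∧ el gT ∈ innerGrp := by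
  have h := gen_check.1
  rw [Bool.and_eq_true] at h
  exact ⟨good_ok h.1, (good_ok h.1).isInner_iff'.1 h.2⟩

lemma hexData_two : HexData ↥pairGrp innerGrp hexW' := by
  have h := hexData_map (MulAut.conj (el gT)) hexData_pairGrp
  rwa [map_conj_eq_self_iff.2 (mem_norm_iff.2 fun k hk => innerGrp_normal.conj_mem k hk (el gT))] at h

lemma gens_mem {t : ℕ} (ht : t ∈ wGens ++ twoGens) : Good t ∧ el t ∈ hexW ⊔ hexW' := by
  rcases List.mem_append.1 ht with h | h
  · exact ⟨good_wGens h, Subgroup.mem_sup_left (el_mem_genGrp h)⟩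
  · obtain ⟨-, hlen, hc, hok, -⟩ := gen_check
    obtain ⟨i, hi, rfl⟩ := List.getElem_of_mem h
    simp only [List.all_eq_true, List.mem_range] at hc hok
    have hG : Good twoGens[i] := good_ok (hok _ h)
    refine ⟨hG, Subgroup.mem_sup_right ?_⟩
    have hwl : wGens.length = 4 := by decide +kernel
    have hw : wGens.getD i 0 ∈ wGens := by
      rw [List.getD_eq_getElem _ _ (by omega)]; exact List.getElem_mem _
    have e := hc i (hlen ▸ hi)
    rw [List.getD_eq_getElem twoGens 0 hi] at e
    rw [← (good_gT.1.carries_iff (good_wGens hw) hG).1 e]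
    exact ⟨_, el_mem_genGrp hw, rfl⟩

lemma inner_le_two : innerGrp ≤ hexW ⊔ hexW' := by
  set K := hexW ⊔ hexW' with hK
  have hKi : K ≤ innerGrp := sup_le hexData_pairGrp.le hexData_two.le
  obtain ⟨-, -, -, -, hw, hok, hlen, hnd, hwit, p11, p7, p5, n11, n7, n5⟩ := gen_check
  simp only [List.all_eq_true, Bool.and_eq_true, beq_iff_eq] at hw
  simp only [List.all_eq_true, List.any_eq_true, beq_iff_eq] at hwit
  have hmem : ∀ x ∈ tGens ++ [e11T, e7T, e5T], Good x ∧ el x ∈ K := by
    intro x hx
    obtain ⟨p, hp, rfl⟩ := hwit x hx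
    obtain ⟨⟨hpo, -⟩, e⟩ := hw p hp
    refine ⟨good_ok hpo, ?_⟩
    rw [← e]
    exact (el_wordT (fun t ht => (gens_mem ht).1) p.2).2 K fun t ht => (gens_mem ht).2
  have hT : genGrp tGens ≤ K := genGrp_le fun t ht => (hmem t (List.mem_append_left _ ht)).2
  have h128 : 128 ∣ Nat.card K := by
    have := Subgroup.card_dvd_of_le hT
    rwa [card_genGrp hok hnd, hlen] at this
  have hp : ∀ (p x : ℕ), p.Prime → x ∈ tGens ++ [e11T, e7T, e5T] → powT p x = idTblVal →
      x ≠ idTblVal → p ∣ Nat.card K := by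
    intro p x hp hx e hne
    haveI : Fact p.Prime := ⟨hp⟩
    obtain ⟨hG, hxK⟩ := hmem x hx
    have ho : orderOf (el x) = p :=
      orderOf_eq_prime (by rw [← (hG.pow p).2, e, el_id]) fun h => hne (hG.el_eq_one.1 h)
    exact ho ▸ Subgroup.orderOf_dvd_natCard _ hxK
  have h385 : 49280 ∣ Nat.card K := by
    have a11 := hp 11 e11T (by norm_num) (by simp) p11 n11
    have a7 := hp 7 e7T (by norm_num) (by simp) p7 n7
    have a5 := hp 5 e5T (by norm_num) (by simp) p5 n5
    exact Nat.Coprime.mul_dvd_of_dvd_of_dvd (show Nat.Coprime (128 * 5 * 7) 11 by norm_num)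
      (Nat.Coprime.mul_dvd_of_dvd_of_dvd (by norm_num)
        (Nat.Coprime.mul_dvd_of_dvd_of_dvd (by norm_num) h128 a5) a7) a11
  set L := K.subgroupOf innerGrp with hL
  have hLc : Nat.card L = Nat.card K := Nat.card_congr (Subgroup.subgroupOfEquivOfLe hKi).toEquiv
  have hidx : L.index ∣ 9 := by
    obtain ⟨d, hd⟩ := h385
    have h1 := L.card_mul_index
    rw [card_innerGrp, hLc, hd] at h1
    exact Dvd.intro_left d (Nat.eq_of_mul_eq_mul_left (show 0 < 49280 by norm_num)
      (by rw [← mul_assoc]; exact h1))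
  have htop : L = ⊤ := by
    haveI := simple_innerGrp
    rw [← Subgroup.index_eq_one]
    have hle : L.index ≤ 9 := Nat.le_of_dvd (by norm_num) hidx
    by_contra hne
    rcases Subgroup.Normal.eq_bot_or_eq_top (H := L.normalCore) inferInstance with hb | ht
    · have hd : Nat.card ↥innerGrp ∣ Nat.card (Equiv.Perm (↥innerGrp ⧸ L)) := by
        refine Subgroup.card_dvd_of_injective (MulAction.toPermHom ↥innerGrp (↥innerGrp ⧸ L)) ?_
        rw [← MonoidHom.ker_eq_bot_iff, ← Subgroup.normalCore_eq_ker]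
        exact hb
      rw [Nat.card_perm, ← Subgroup.index, card_innerGrp] at hd
      have := (Nat.Prime.dvd_factorial (by norm_num : Nat.Prime 11)).1 ((by norm_num : 11 ∣ 443520).trans hd)
      omega
    · exact hne (Subgroup.index_eq_one.2 (top_le_iff.1 (ht ▸ L.normalCore_le)))
  exact Subgroup.subgroupOf_eq_top.1 htop

lemma mem_normH_two {x y : ℕ} (hx : Good x) (hy : Good y) (hn : normW y = true)
    (e : tblMul gT y = tblMul x gT) : el x ∈ Subgroup.normalizer (hexW' : Set ↥pairGrp) := by
  rw [hexW', norm_map_conj_mem]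
  have h : el gT * el y = el x * el gT := by rw [← good_gT.1.el_mul hy, ← hx.el_mul good_gT.1, e]
  rw [show (el gT)⁻¹ * el x * el gT = el y by rw [mul_assoc, ← h]; group]
  exact mem_normH_of hy hn

theorem splitModel_pairGrp : SplitModel ↥pairGrp innerGrp hexW hexW' (el aT) (el bT) (el uT) := by
  obtain ⟨hn, hb, hin, a2, b2, u2, ab4, ua, ub, hfree⟩ := norm_check
  simp only [List.all_eq_true, Bool.and_eq_true, beq_iff_eq] at hn hb
  simp only [Bool.and_eq_true, Bool.not_eq_true'] at hin
  have gA : Good aT := good_ok (hn aT (by simp)).1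
  have gB : Good bT := good_ok (hn bT (by simp)).1
  have gU : Good uT := good_ok (hn uT (by simp)).1
  refine ⟨hexData_two, inner_le_two, gA.isInner_iff'.1 hin.1.1, gB.isInner_iff'.1 hin.1.2,
    fun h => ?_, by rw [← gA.el_mul gA, a2, el_id], by rw [← gB.el_mul gB, b2, el_id],
    by rw [← gU.el_mul gU, u2, el_id], by rw [← gA.el_mul gB, ← ((gA.mul gB).pow 4).2, ab4, el_id],
    (gU.comm_iff gA).1 ua, (gU.comm_iff gB).1 ub, (Subgroup.closure_le _).2 ?_, ?_⟩
  · rw [gU.isInner_iff'.2 h] at hin; exact Bool.noConfusion hin.2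
  · intro x hx
    rcases hx with rfl | rfl | rfl
    · obtain ⟨⟨ho, hnw⟩, e⟩ := hb 0 (by simp)
      exact ⟨mem_normH_of gA (hn aT (by simp)).2, mem_normH_two gA (good_ok ho) hnw e⟩
    · obtain ⟨⟨ho, hnw⟩, e⟩ := hb 1 (by simp)
      exact ⟨mem_normH_of gB (hn bT (by simp)).2, mem_normH_two gB (good_ok ho) hnw e⟩
    · obtain ⟨⟨ho, hnw⟩, e⟩ := hb 2 (by simp)
      exact ⟨mem_normH_of gU (hn uT (by simp)).2, mem_normH_two gU (good_ok ho) hnw e⟩
  · intro i hi j hj k hk hw
    have hG : Good (freeT i j k) := (((gA.mul gB).pow i).1.mul (gA.pow j).1).mul (gU.pow k).1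
    have he : el (freeT i j k) = word (el aT) (el bT) (el uT) i j k := by
      rw [freeT, (((gA.mul gB).pow i).1.mul (gA.pow j).1).el_mul (gU.pow k).1,
        ((gA.mul gB).pow i).1.el_mul (gA.pow j).1, ((gA.mul gB).pow i).2, (gA.pow j).2,
        (gU.pow k).2, gA.el_mul gB]
      rfl
    simp only [List.all_eq_true, List.mem_range, Bool.or_eq_true, Bool.and_eq_true, beq_iff_eq,
      Bool.not_eq_true', List.contains_eq_mem, decide_eq_false_iff_not] at hfree
    obtain ⟨t, ht, e⟩ := mem_hexW.1 (he.symm ▸ hw : el (freeT i j k) ∈ hexW)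
    rcases hfree i hi j hj k hk with ⟨⟨h1, h2⟩, h3⟩ | h
    · exact ⟨h1, h2, h3⟩
    · exact absurd ((good_wList ht).inj hG e ▸ ht) h

theorem splitModel_map {A B : Type*} [Group A] [Group B] (e : A ≃* B) {M W W' : Subgroup A}
    {a b u : A} (d : SplitModel A M W W' a b u) :
    SplitModel B (M.map e.toMonoidHom) (W.map e.toMonoidHom) (W'.map e.toMonoidHom) (e a) (e b)
      (e u) where
  hex := hexData_map e d.hex
  gen := by rw [← Subgroup.map_sup]; exact Subgroup.map_mono d.gen
  aM := (mem_map_e e).2 d.aM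
  bM := (mem_map_e e).2 d.bM
  uM h := d.uM ((mem_map_e e).1 h)
  a2 := by rw [← map_mul, d.a2, map_one]
  b2 := by rw [← map_mul, d.b2, map_one]
  u2 := by rw [← map_mul, d.u2, map_one]
  ab4 := by rw [← map_mul, ← map_pow, d.ab4, map_one]
  ua := by rw [← map_mul, d.ua, map_mul]
  ub := by rw [← map_mul, d.ub, map_mul]
  norm := by
    rw [norm_map_e, norm_map_e, ← Subgroup.map_inf _ _ _ e.injective, Subgroup.closure_le]
    intro x hx
    rcases hx with rfl | rfl | rfl <;>
      exact (mem_map_e e).2 (d.norm (Subgroup.subset_closure (by simp)))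
  free i hi j hj k hk h := d.free i hi j hj k hk ((mem_map_e e).1 (by
    simpa [word] using h))

/-- The data for the automorphism group of the Mathieu group on 22 points. -/
theorem splitModel : ∃ (W W' : Subgroup (MulAut ↥Cfsg.Spor.M22)) (a b u : MulAut ↥Cfsg.Spor.M22),
    HexData (MulAut ↥Cfsg.Spor.M22) (MulAut.conj : ↥Cfsg.Spor.M22 →* MulAut ↥Cfsg.Spor.M22).range W ∧
    SplitModel (MulAut ↥Cfsg.Spor.M22) (MulAut.conj : ↥Cfsg.Spor.M22 →* MulAut ↥Cfsg.Spor.M22).range
      W W' a b u :=
  ⟨_, _, _, _, _, map_innerGrp ▸ hexData_map autEquiv hexData_pairGrp,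
    map_innerGrp ▸ splitModel_map autEquiv splitModel_pairGrp⟩

end Cfsg.Agent.H38.JFour
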