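import Cfsg.Agent.H38.JFour.SplitInst
import Cfsg.Agent.H38.JFour.SplitCert
import Cfsg.Agent.H43.J4.Bridge
import Cfsg.Agent.H43.J4.Fus
import Cfsg.Agent.H85.JFour.AutM22.Main

/-!
A group of Janko-four type satisfies the standing hypotheses, with two hexad subgroups.
-/

set_option autoImplicit false

namespace Cfsg.Agent.H38.JFour

open Subgroup H43.JFour H98.JFour

universe u

variable {G : Type u} [Group G] [Finite G]

/-- The inner automorphisms. -/
abbrev innM22 : Subgroup (MulAut ↥Cfsg.Spor.M22) :=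
  (MulAut.conj : ↥Cfsg.Spor.M22 →* MulAut ↥Cfsg.Spor.M22).range

/-- The standing hypotheses, at `z`. -/
theorem exists_setup [IsSimpleGroup G] (hG : ¬ IsMulCommutative G) {z : G}
    (hJ : Cfsg.IsOfJankoFourTypeAt z) :
    ∃ (c : Ctx G (MulAut ↥Cfsg.Spor.M22)) (W W' : Subgroup (MulAut ↥Cfsg.Spor.M22))
      (a b u : MulAut ↥Cfsg.Spor.M22), c.z = z ∧ c.E = Cfsg.twoCoreOfCentralizer z ∧
      Pkg c innM22 W ∧ Pkg c innM22 W' ∧ SplitModel _ innM22 W W' a b u ∧ HasFus c innM22 := by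
  obtain ⟨P, hP⟩ := hJ
  obtain ⟨c, hz, -, hE, hc⟩ := exists_ctx hP
  obtain ⟨W, W', a, b, u, hW, hS⟩ := splitModel
  have hd := H85.AutM22.autData
  exact ⟨c, W, W', a, b, u, hz, hE, Pkg.of_data hc hd hW, Pkg.of_data hc hd hS.hex, hS,
    hc.exists_fus hd hG⟩

/-- Every elementary abelian subgroup of order `2 ^ 11` is self-centralising, and its normaliser splits over
it with quotient the Mathieu group on 24 points. -/
theorem exists_complement_eleven [IsSimpleGroup G] (hG : ¬ IsMulCommutative G)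
    (hJ : Cfsg.IsOfJankoFourType G) (V : Subgroup G) (hV : Cfsg.IsElementaryAbelian 2 V)
    (hcard : Nat.card ↥V = 2 ^ 11) :
    centralizer (V : Set G) ≤ V ∧ ∃ K : Subgroup G, K ≤ normalizer (V : Set G) ∧ K ⊓ V = ⊥ ∧
      K ⊔ V = normalizer (V : Set G) ∧ Cfsg.Spor.IsoM24 ↥K := by
  obtain ⟨z, hz⟩ := hJ
  obtain ⟨c, W, W', a, b, u, -, -, h, h', hS, hF⟩ := exists_setup hG hz
  obtain ⟨g, hg⟩ := h.exists_conj_V hV hcard
  set e : G ≃* G := MulAut.conj g⁻¹
  have hVe : V = h.V.map e.toMonoidHom := by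
    rw [← hg, map_map]
    ext x
    simp [e, mul_assoc]
  obtain ⟨K, hK, hKV, hsup, ⟨ψ⟩⟩ := exists_mathieu_complement h h' hS hF
  rw [hVe]
  refine ⟨?_, K.map e.toMonoidHom, ?_, ?_, ?_, ?_⟩
  · rw [H85.AutM22.cent_map_e, h.cent_V]
  · rw [H85.AutM22.norm_map_e]; exact map_mono hK
  · rw [← map_inf _ _ _ e.injective, hKV, Subgroup.map_bot]
  · rw [← Subgroup.map_sup, sup_comm, hsup, H85.AutM22.norm_map_e]
  · exact ⟨(K.equivMapOfInjective e.toMonoidHom e.injective).symm.trans ψ⟩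

end Cfsg.Agent.H38.JFour
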