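import Cfsg.Agent.H98.JFour.HexData

/-!
Two hexad subgroups generating the inner part, and a group of order 16 normalising both, as used to split the
normaliser of `V` in a group of Janko-four type.
-/

set_option autoImplicit false

namespace Cfsg.Agent.H38.JFour

/-- `(a b)^i a^j u^k`. -/
def word {K : Type*} [Group K] (a b u : K) (i j k : ℕ) : K := (a * b) ^ i * a ^ j * u ^ k

/-- A second hexad subgroup `W'` and a copy of `D8 × 2` normalising both and meeting `W` trivially. -/
structure SplitModel (A : Type*) [Group A] (M W W' : Subgroup A) (a b u : A) : Prop where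
  hex : H98.JFour.HexData A M W'
  gen : M ≤ W ⊔ W'
  aM : a ∈ M
  bM : b ∈ M
  uM : u ∉ M
  a2 : a * a = 1
  b2 : b * b = 1
  u2 : u * u = 1
  ab4 : (a * b) ^ 4 = 1
  ua : u * a = a * u
  ub : u * b = b * u
  norm : Subgroup.closure ({a, b, u} : Set A) ≤
    Subgroup.normalizer (W : Set A) ⊓ Subgroup.normalizer (W' : Set A)
  free : ∀ i < 4, ∀ j < 2, ∀ k < 2, word a b u i j k ∈ W → i = 0 ∧ j = 0 ∧ k = 0

end Cfsg.Agent.H38.JFour
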