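import Cfsg.Agent.H43.J4.Forms
import Cfsg.Agent.H38.JFour.SplitModel
import Cfsg.Agent.S0051
import Cfsg.Prelude.Def_Transfer

/-!
The normaliser of the elementary abelian subgroup of order `2 ^ 11` of a group of Janko-four type
splits over it.
-/

set_option autoImplicit false

namespace Cfsg.Agent.H38.JFour

open Cfsg Subgroup Cfsg.Agent.H43.JFour
open scoped Pointwise

universe u v

variable {G : Type u} [Group G] [Finite G] {A : Type v} [Group A] {M : Subgroup A} {c : Ctx G A}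

/-- What the splitting uses. -/
structure SplitData (hc : c.Ok) (M : Subgroup A) (L V A₁ A₂ E₁ : Subgroup G) (a b u : A) : Prop where
  V_elem : IsElementaryAbelian 2 V
  A2_elem : IsElementaryAbelian 2 A₂
  L_norm : L ≤ normalizer (V : Set G)
  V_L : V ≤ L
  E_L : c.E ≤ L
  card_V : Nat.card V = 2 ^ 11
  card_A1 : Nat.card A₁ = 2 ^ 7
  card_A2 : Nat.card A₂ = 2 ^ 7
  card_E1 : Nat.card E₁ = 32
  A1_eq : c.E ⊓ V = A₁
  A2_E : A₂ ≤ c.E
  A2_P : c.P ≤ normalizer (A₂ : Set G)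
  z_A2 : c.z ∈ A₂
  z_E1 : c.z ∈ E₁
  E1_V : E₁ ≤ V
  E1_C : E₁ ≤ c.C
  inter : A₁ ⊓ A₂ ≤ zpowers c.z
  fixed : ∀ e ∈ E₁, e ∉ zpowers c.z → Nat.card (hc.fixMod e) = 2 ^ 9
  fus : ∀ e ∈ E₁, e ∉ zpowers c.z → ¬ IsConj e (e * c.z)
  aM : a ∈ M
  bM : b ∈ M
  uM : u ∉ M
  a2 : a * a = 1
  b2 : b * b = 1
  u2 : u * u = 1
  ab4 : (a * b) ^ 4 = 1
  ua : u * a = a * u
  ub : u * b = b * u
  free : ∀ i < 4, ∀ j < 2, ∀ k < 2, word a b u i j k ∈ c.pr '' (E₁ : Set G) →
    i = 0 ∧ j = 0 ∧ k = 0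
  lift : ∀ n ∈ c.Nh, c.pr n ∈ Subgroup.closure ({a, b, u} : Set A) →
    n ∈ L ∧ n ∈ normalizer (A₂ : Set G) ∧ n ∈ normalizer (E₁ : Set G)
  two_classes : ∀ f ∈ L, ∀ g ∈ L, f ∉ V → g ∉ V → f * f ∈ V → g * g ∈ V →
    Nat.card ↥(V ⊓ centralizer ({f} : Set G)) ≠ Nat.card ↥(V ⊓ centralizer ({g} : Set G)) →
    ∀ x ∈ L, x ∉ V → x * x ∈ V →
      ∃ k ∈ L, k * x * k⁻¹ * f⁻¹ ∈ V ∨ k * x * k⁻¹ * g⁻¹ ∈ V
  odd : ¬ 2 ^ 22 ∣ Nat.card L

section

variable {hc : c.Ok} {L V A₁ A₂ E₁ : Subgroup G} {a b u : A}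

theorem sq_of_elem {X : Subgroup G} (h : IsElementaryAbelian 2 X) {x : G} (hx : x ∈ X) :
    x * x = 1 := by rw [← sq]; exact h.2 x hx

theorem comm_of_elem {X : Subgroup G} (h : IsElementaryAbelian 2 X) {x y : G} (hx : x ∈ X)
    (hy : y ∈ X) : x * y = y * x := congrArg Subtype.val (h.1.is_comm.comm ⟨x, hx⟩ ⟨y, hy⟩)

/-- The size of a product of two subgroups. -/
theorem card_mul_set (H K : Subgroup G) :
    Nat.card ↥((H : Set G) * (K : Set G)) * Nat.card ↥(H ⊓ K) = Nat.card H * Nat.card K := by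
  classical
  have hx : ∀ x : ↥((H : Set G) * (K : Set G)), ∃ h : G, h ∈ H ∧ h⁻¹ * (x : G) ∈ K := by
    rintro ⟨x, h, hh, k, hk, rfl⟩
    exact ⟨h, hh, by show h⁻¹ * (h * k) ∈ K; rw [inv_mul_cancel_left]; exact hk⟩
  choose s hs hs' using hx
  let e : ↥((H : Set G) * (K : Set G)) × ↥(H ⊓ K) ≃ H × K :=
    { toFun := fun p => (⟨s p.1 * p.2, mul_mem (hs p.1) (Subgroup.mem_inf.1 p.2.2).1⟩,
        ⟨(p.2 : G)⁻¹ * ((s p.1)⁻¹ * (p.1 : G)), mul_mem (inv_mem (Subgroup.mem_inf.1 p.2.2).2) (hs' p.1)⟩)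
      invFun := fun q => (⟨(q.1 : G) * q.2, Set.mul_mem_mul q.1.2 q.2.2⟩,
        ⟨(s ⟨(q.1 : G) * q.2, Set.mul_mem_mul q.1.2 q.2.2⟩)⁻¹ * q.1,
          Subgroup.mem_inf.2 ⟨mul_mem (inv_mem (hs _)) q.1.2, by
            have h := mul_mem (hs' ⟨(q.1 : G) * q.2, Set.mul_mem_mul q.1.2 q.2.2⟩) (inv_mem q.2.2)
            simpa [mul_assoc] using h⟩⟩)
      left_inv := by
        rintro ⟨x, d⟩
        have e1 : s x * (d : G) * ((d : G)⁻¹ * ((s x)⁻¹ * (x : G))) = (x : G) := by group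
        refine Prod.ext (Subtype.ext e1) (Subtype.ext ?_)
        show (s ⟨s x * (d : G) * ((d : G)⁻¹ * ((s x)⁻¹ * (x : G))), _⟩)⁻¹ * (s x * (d : G)) = d
        rw [show s ⟨s x * (d : G) * ((d : G)⁻¹ * ((s x)⁻¹ * (x : G))), _⟩ = s x from
          congrArg s (Subtype.ext e1)]
        group
      right_inv := by
        rintro ⟨h, k⟩
        refine Prod.ext (Subtype.ext ?_) (Subtype.ext ?_)
        · simp
        · simp [mul_assoc] }
  rw [← Nat.card_prod, ← Nat.card_prod]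
  exact Nat.card_congr e

/-- The commutator map `v ↦ v⁻¹ p v p⁻¹` on an abelian subgroup normalised by `p`. -/
def F0 (p : G) (X : Subgroup G) (hp : p ∈ normalizer (X : Set G))
    (h : IsElementaryAbelian 2 X) : Subgroup G where
  carrier := {x | ∃ v ∈ X, x = v⁻¹ * (p * v * p⁻¹)}
  one_mem' := ⟨1, one_mem _, by group⟩
  mul_mem' := by
    rintro x y ⟨v, hv, rfl⟩ ⟨w, hw, rfl⟩
    refine ⟨v * w, mul_mem hv hw, ?_⟩
    have hv' := (mem_normalizer_iff.1 hp v).1 hv
    have e := comm_of_elem h hv' (inv_mem hw)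
    calc v⁻¹ * (p * v * p⁻¹) * (w⁻¹ * (p * w * p⁻¹))
        = v⁻¹ * ((p * v * p⁻¹) * w⁻¹) * (p * w * p⁻¹) := by group
      _ = v⁻¹ * (w⁻¹ * (p * v * p⁻¹)) * (p * w * p⁻¹) := by rw [e]
      _ = (v⁻¹ * w⁻¹) * (p * (v * w) * p⁻¹) := by group
      _ = (v * w)⁻¹ * (p * (v * w) * p⁻¹) := by
        rw [comm_of_elem h (inv_mem hv) (inv_mem hw), mul_inv_rev]
  inv_mem' := by
    rintro x ⟨v, hv, rfl⟩
    refine ⟨v⁻¹, inv_mem hv, ?_⟩
    have hv' := (mem_normalizer_iff.1 hp v).1 hv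
    rw [show (v⁻¹ * (p * v * p⁻¹))⁻¹ = (p * v * p⁻¹)⁻¹ * v by group,
      comm_of_elem h (inv_mem hv') hv]
    group

theorem word_closed {K : Type*} [Group K] {p q r : K} (hp : p * p = 1) (hq : q * q = 1)
    (hr : r * r = 1) (h4 : (p * q) ^ 4 = 1) (hrp : r * p = p * r) (hrq : r * q = q * r) {x : K}
    (hx : x ∈ Subgroup.closure ({p, q, r} : Set K)) :
    ∃ i < 4, ∃ j < 2, ∃ k < 2, x = word p q r i j k := by
  have hmod : ∀ i j k : ℕ, ∃ i' < 4, ∃ j' < 2, ∃ k' < 2, word p q r i j k = word p q r i' j' k' :=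
    fun i j k => ⟨i % 4, Nat.mod_lt _ (by norm_num), j % 2, Nat.mod_lt _ (by norm_num), k % 2,
      Nat.mod_lt _ (by norm_num), by
        unfold word
        rw [← pow_eq_pow_mod i h4, ← pow_eq_pow_mod j (show p ^ 2 = 1 by rw [sq]; exact hp),
          ← pow_eq_pow_mod k (show r ^ 2 = 1 by rw [sq]; exact hr)]⟩
  have hqp : p * (p * q) = q := by rw [← mul_assoc, hp, one_mul]
  have hflip : ∀ i : ℕ, p * (p * q) ^ i = (p * q) ^ (3 * i) * p := by
    intro i
    have h1 : p * (p * q) * p = (p * q) ^ 3 := by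
      have h2 : (p * q) ^ 3 = (p * q)⁻¹ := eq_inv_of_mul_eq_one_left (by rw [← pow_succ, h4])
      rw [h2, hqp, mul_inv_rev, inv_eq_of_mul_eq_one_right hq, inv_eq_of_mul_eq_one_right hp]
    induction i with
    | zero => simp
    | succ n ih =>
      rw [pow_succ, ← mul_assoc, ih, Nat.mul_succ, pow_add, ← h1]
      simp only [mul_assoc, hp, mul_one]
  have hstep : ∀ y ∈ ({p, q, r} : Set K), ∀ i j k : ℕ, ∃ i' j' k' : ℕ,
      y * word p q r i j k = word p q r i' j' k' := by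
    intro y hy i j k
    rcases hy with rfl | rfl | rfl
    · exact ⟨3 * i, j + 1, k, by unfold word; rw [← mul_assoc, ← mul_assoc, hflip, pow_succ']; simp [mul_assoc]⟩
    · refine ⟨3 * (i + 1), j + 1, k, ?_⟩
      unfold word
      have e : y * (p * y) ^ i = (p * y) ^ (3 * (i + 1)) * p := by
        rw [← hflip, pow_succ', ← mul_assoc, hqp]
      rw [← mul_assoc, ← mul_assoc, e, pow_succ']; simp [mul_assoc]
    · refine ⟨i, j, k + 1, ?_⟩
      unfold word
      have c1 : Commute y ((p * q) ^ i * p ^ j) :=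
        ((Commute.mul_right hrp hrq).pow_right i).mul_right (Commute.pow_right hrp j)
      rw [← mul_assoc, c1.eq, mul_assoc _ y, ← pow_succ']
  have key : ∃ i j k : ℕ, x = word p q r i j k := by
    induction hx using Subgroup.closure_induction_left with
    | one => exact ⟨0, 0, 0, by simp [word]⟩
    | mul_left y hy z _ ih =>
      obtain ⟨i, j, k, rfl⟩ := ih
      exact hstep y hy i j k
    | inv_mul_cancel y hy z _ ih =>
      obtain ⟨i, j, k, rfl⟩ := ih
      have hy2 : y⁻¹ = y := by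
        rcases hy with rfl | rfl | rfl
        exacts [inv_eq_of_mul_eq_one_right hp, inv_eq_of_mul_eq_one_right hq,
          inv_eq_of_mul_eq_one_right hr]
      rw [hy2]
      exact hstep y hy i j k
  obtain ⟨i, j, k, rfl⟩ := key
  exact hmod i j k

variable (S : SplitData hc M L V A₁ A₂ E₁ a b u)
include S

theorem SplitData.A1_E : A₁ ≤ c.E := S.A1_eq ▸ inf_le_left

theorem SplitData.A1_V : A₁ ≤ V := S.A1_eq ▸ inf_le_right

theorem SplitData.z_A1 : c.z ∈ A₁ := S.A1_eq ▸ ⟨hc.z_mem, S.E1_V S.z_E1⟩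

theorem SplitData.E1_inf : ∀ e ∈ E₁, e ∈ c.E → e ∈ zpowers c.z := fun e he heE =>
  hc.E_inf_C ▸ (mem_inf.2 ⟨heE, S.E1_C he⟩ : e ∈ c.E ⊓ c.C)

theorem SplitData.V_mul {v : G} (hv : v ∈ V) : ∃ x ∈ A₁, ∃ e ∈ E₁, v = x * e := by
  have hn : E₁ ≤ normalizer (A₁ : Set G) := fun e he => mem_normalizer_iff.2 fun x => by
    have key : ∀ y ∈ A₁, e * y * e⁻¹ = y := fun y hy => by
      rw [comm_of_elem S.V_elem (S.E1_V he) (S.A1_V hy), mul_inv_cancel_right]
    exact ⟨fun hx => by rwa [key x hx], fun hx => by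
      have h2 : x = e * x * e⁻¹ := by
        have h3 := comm_of_elem S.V_elem (S.E1_V he) (S.A1_V hx)
        calc x = e⁻¹ * (e * x * e⁻¹) * e := by group
          _ = e⁻¹ * (e * (e * x * e⁻¹)) := by rw [mul_assoc e⁻¹, ← h3]
          _ = e * x * e⁻¹ := by group
      rwa [h2]⟩
  have hle : A₁ ⊔ E₁ ≤ V := sup_le S.A1_V S.E1_V
  have hz : A₁ ⊓ E₁ = zpowers c.z := le_antisymm
    (fun x hx => S.E1_inf x hx.2 (S.A1_E hx.1))
    (zpowers_le.2 ⟨S.z_A1, S.z_E1⟩)
  have hcoe := coe_mul_of_right_le_normalizer_left A₁ E₁ hn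
  have hcard := card_mul_set A₁ E₁
  rw [hz, Nat.card_zpowers, hc.ord, S.card_A1, S.card_E1] at hcard
  have hsup : A₁ ⊔ E₁ = V := by
    refine eq_of_le_of_card_ge hle ?_
    rw [S.card_V, ← SetLike.coe_sort_coe (A₁ ⊔ E₁), hcoe]
    omega
  exact exists_mul_of_mem_sup hn (hsup.symm ▸ hv)

theorem SplitData.pr_E1 {e : G} (he : e ∈ E₁) : e ∈ zpowers c.z ∨ c.pr e ≠ 1 := by
  by_cases h : c.pr e = 1
  · exact Or.inl (S.E1_inf e he (hc.mem_E_of_pow (k := 1)
      ((hc.pr_ker e (S.E1_C he).1).1 h) (by rw [pow_one, sq]; exact sq_of_elem S.V_elem (S.E1_V he))))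
  · exact Or.inr h

theorem SplitData.exists_e : ∃ e ∈ E₁, e ∉ zpowers c.z := by
  by_contra h
  have hle : E₁ ≤ zpowers c.z := fun e he => by_contra fun hne => h ⟨e, he, hne⟩
  have := Subgroup.card_le_of_le hle
  rw [Nat.card_zpowers, hc.ord, S.card_E1] at this
  omega

/-- An involution of `M` has an involution above it in `C`. -/
theorem SplitData.inner_lift (hd : AutData A M) {α : A} (hα : α ∈ M) (h2 : α * α = 1)
    (h1 : α ≠ 1) : ∃ n ∈ c.C, c.pr n = α ∧ n * n = 1 := by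
  obtain ⟨e, he, hez⟩ := S.exists_e
  have hne := (S.pr_E1 he).resolve_left hez
  have heC := S.E1_C he
  have hee : e * e = 1 := sq_of_elem S.V_elem (S.E1_V he)
  have hpr2 : c.pr e * c.pr e = 1 := by rw [← hc.pr_mul _ heC.1 _ heC.1, hee, hc.pr_one]
  obtain ⟨g, hg, hge⟩ := hd.invol _ ((hc.mem_C_iff hd (c.C_le_Nh heC)).1 heC) α hα
    (orderOf_eq_prime (by rw [sq]; exact hpr2) hne) (orderOf_eq_prime (by rw [sq]; exact h2) h1)
  obtain ⟨n, hn, rfl⟩ := hc.C_surj hd hg
  refine ⟨n * e * n⁻¹, mul_mem (mul_mem hn heC) (inv_mem hn), ?_, ?_⟩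
  · rw [hc.pr_conj hn.1 heC.1, hge]
  · rw [show n * e * n⁻¹ * (n * e * n⁻¹) = n * (e * e) * n⁻¹ by group, hee, mul_one, mul_inv_cancel]

/-- **The splitting.** -/
theorem SplitData.exists_complement (hd : AutData A M) :
    ∃ K : Subgroup G, K ≤ L ∧ K ⊓ V = ⊥ ∧ V ⊔ K = L := by
  classical
  obtain ⟨p, hp, hp1⟩ : ∃ p ∈ c.P, p ≠ 1 := by
    by_contra h
    have : c.P ≤ ⊥ := fun x hx => mem_bot.2 (by_contra fun hne => h ⟨x, hx, hne⟩)
    have := Subgroup.card_le_of_le this
    rw [hc.cardP, Subgroup.card_bot] at this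
    omega
  have hpA := S.A2_P hp
  set F := F0 p A₂ hpA S.A2_elem with hF
  have hFA : F ≤ A₂ := by
    rintro _ ⟨v, hv, rfl⟩
    exact mul_mem (inv_mem hv) ((mem_normalizer_iff.1 hpA v).1 hv)
  have hFsq : ∀ {x}, x ∈ F → x * x = 1 := fun hx => sq_of_elem S.A2_elem (hFA hx)
  have hzF : c.z ∉ F := by
    rintro ⟨v, hv, e⟩
    have h1 : p * v * p⁻¹ = v * c.z := by rw [e]; group
    have hz := c.mem_H.1 (hc.P_le hp)
    have h3 : p * p * p = 1 := hc.P_pow hp
    have h2 : p * (p * v * p⁻¹) * p⁻¹ = v := by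
      rw [h1, show p * (v * c.z) * p⁻¹ = p * v * (c.z * p⁻¹) by group]
      rw [c.mem_H.1 (inv_mem (hc.P_le hp)), ← mul_assoc, h1, mul_assoc, hc.z_sq, mul_one]
    apply hc.z_ne
    have h4 : p * (p * (p * v * p⁻¹) * p⁻¹) * p⁻¹ = v := by
      rw [show p * (p * (p * v * p⁻¹) * p⁻¹) * p⁻¹ = (p * p * p) * v * (p * p * p)⁻¹ by group, h3]
      group
    rw [h2, h1] at h4
    exact mul_eq_left.1 h4
  have hFE : F ≤ c.E := hFA.trans S.A2_E
  have hFV : F ⊓ V = ⊥ := by
    rw [eq_bot_iff]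
    rintro x ⟨hxF, hxV⟩
    have hx1 : x ∈ A₁ := S.A1_eq ▸ ⟨hFE hxF, hxV⟩
    rcases hc.mem_zp.1 (S.inter ⟨hx1, hFA hxF⟩) with h | h
    exacts [mem_bot.2 h, absurd (h ▸ hxF) hzF]
  have hFcard : Nat.card F = 2 ^ 6 := by
    let f : ↥A₂ → ↥F := fun v => ⟨(v : G)⁻¹ * (p * v * p⁻¹), v, v.2, rfl⟩
    have hs : Function.Surjective f := by
      rintro ⟨x, v, hv, e⟩
      exact ⟨⟨v, hv⟩, Subtype.ext e.symm⟩
    let g : ↥A₂ →* ↥F :=
      { toFun := f
        map_one' := Subtype.ext (by show (1 : G)⁻¹ * (p * 1 * p⁻¹) = 1; group)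
        map_mul' := fun v w => Subtype.ext (by
          show ((v : G) * w)⁻¹ * (p * ((v : G) * w) * p⁻¹) =
            (v : G)⁻¹ * (p * v * p⁻¹) * ((w : G)⁻¹ * (p * w * p⁻¹))
          have hv' := (mem_normalizer_iff.1 hpA v).1 v.2
          have e := comm_of_elem S.A2_elem hv' (inv_mem w.2)
          have e' := comm_of_elem S.A2_elem (inv_mem w.2) (inv_mem v.2)
          calc ((v : G) * w)⁻¹ * (p * ((v : G) * w) * p⁻¹)
              = ((w : G)⁻¹ * (v : G)⁻¹) * (p * v * p⁻¹) * (p * w * p⁻¹) := by group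
            _ = (v : G)⁻¹ * ((w : G)⁻¹ * (p * v * p⁻¹)) * (p * w * p⁻¹) := by rw [e']; group
            _ = _ := by rw [← e]; group) }
    have hk : g.ker = (zpowers c.z).subgroupOf A₂ := by
      ext v
      rw [MonoidHom.mem_ker, mem_subgroupOf]
      constructor
      · intro h
        have h1 : (v : G)⁻¹ * (p * v * p⁻¹) = 1 := congrArg Subtype.val h
        have hcm : Commute p (v : G) := by
          calc p * v = v * ((v : G)⁻¹ * (p * v * p⁻¹)) * p := by group
            _ = v * p := by rw [h1, mul_one]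
        refine hc.fixP _ (S.A2_E v.2) fun q hq => ?_
        haveI : Fact (Nat.Prime 3) := ⟨Nat.prime_three⟩
        rw [← PGroups.zpowers_eq_of_card_eq hc.cardP hp hp1, mem_zpowers_iff] at hq
        obtain ⟨k, rfl⟩ := hq
        exact (hcm.zpow_left k).eq
      · intro h
        refine Subtype.ext ?_
        show (v : G)⁻¹ * (p * v * p⁻¹) = 1
        rcases hc.mem_zp.1 h with e | e <;> rw [e]
        · group
        · rw [show p * c.z = c.z * p from (c.mem_H.1 (hc.P_le hp)).symm]; group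
    have h := Subgroup.card_eq_card_quotient_mul_card_subgroup g.ker
    rw [Nat.card_congr (QuotientGroup.quotientKerEquivOfSurjective g hs).toEquiv, hk,
      Nat.card_congr (subgroupOfEquivOfLe (zpowers_le.2 S.z_A2)).toEquiv, Nat.card_zpowers,
      hc.ord, S.card_A2] at h
    omega
  have hA1elem : ∀ {x y}, x ∈ A₁ → y ∈ A₁ → x * y = y * x := fun hx hy =>
    comm_of_elem S.V_elem (S.A1_V hx) (S.A1_V hy)
  have hA1cent : c.E ⊓ centralizer (A₁ : Set G) = A₁ := by
    refine (eq_of_le_of_card_ge (le_inf S.A1_E fun x hx => mem_centralizer_iff.2 fun y hy =>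
      hA1elem hy hx) ?_).symm
    have h := hc.card_cent A₁ S.A1_E S.z_A1
    rw [S.card_A1] at h
    rw [S.card_A1]
    omega
  -- sizes of centralisers in `V`
  have hbase : ∀ f ∈ F, f ≠ 1 → Nat.card ↥(A₁ ⊓ centralizer ({f} : Set G)) = 2 ^ 6 := by
    intro f hf hf1
    have hfE := hFE hf
    obtain ⟨y, hy, hyf⟩ : ∃ y ∈ A₁, y * f ≠ f * y := by
      by_contra h
      push Not at h
      have : f ∈ F ⊓ V := ⟨hf, S.A1_V (hA1cent ▸ ⟨hfE, mem_centralizer_iff.2 h⟩)⟩
      rw [hFV] at this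
      exact hf1 (mem_bot.1 this)
    have hidx : (centralizer ({f} : Set G)).relIndex A₁ = 2 := by
      rw [Subgroup.relIndex, Subgroup.index_eq_two_iff]
      refine ⟨⟨y, hy⟩, fun x => ?_⟩
      simp only [mem_subgroupOf, mem_centralizer_singleton_iff, Subgroup.coe_mul]
      rcases hc.swap (S.A1_E x.2) hfE with h | h
      · refine Or.inr ⟨h, fun h' => hyf ?_⟩
        exact mul_left_cancel (a := (x : G)) (by rw [← mul_assoc, h', ← mul_assoc, ← h, mul_assoc])
      · refine Or.inl ⟨?_, fun h' => hc.z_ne ?_⟩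
        · rcases hc.swap (S.A1_E hy) hfE with h2 | h2
          · exact absurd h2 hyf
          · calc (x : G) * y * f = x * (y * f) := mul_assoc _ _ _
              _ = x * c.z * f * y := by rw [h2]; group
              _ = c.z * (x * f) * y := by rw [← hc.z_comm (S.A1_E x.2), mul_assoc c.z]
              _ = f * (x * y) := by rw [h, ← mul_assoc c.z c.z, hc.z_sq]; group
        · rw [h'] at h
          exact mul_eq_right.1 h.symm
    have h := Subgroup.card_mul_index ((centralizer ({f} : Set G)).subgroupOf A₁)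
    rw [show ((centralizer ({f} : Set G)).subgroupOf A₁).index = 2 from hidx, S.card_A1,
      ← Subgroup.inf_subgroupOf_left, Nat.card_congr (subgroupOfEquivOfLe inf_le_left).toEquiv] at h
    omega
  let Hit : G → Prop := fun f => ∃ e ∈ E₁, e ∉ zpowers c.z ∧ f ∈ hc.fixMod e
  have hbig : ∀ f ∈ F, f ≠ 1 → Hit f → Nat.card ↥(V ⊓ centralizer ({f} : Set G)) ≠ 2 ^ 6 := by
    rintro f hf hf1 ⟨e, he, hez, -, heq⟩ h64
    have hle : A₁ ⊓ centralizer ({f} : Set G) ≤ V ⊓ centralizer ({f} : Set G) :=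
      inf_le_inf S.A1_V le_rfl
    have heqs := eq_of_le_of_card_ge hle (by rw [h64, hbase f hf hf1])
    obtain ⟨y, hy, hye⟩ : ∃ y ∈ A₁, (y * e) * f = f * (y * e) := by
      rcases heq with h | h
      · exact ⟨1, one_mem _, by
          rw [one_mul]; calc e * f = e * f * e⁻¹ * e := by group
            _ = f * e := by rw [h]⟩
      · obtain ⟨y, hy, hyf⟩ : ∃ y ∈ A₁, y * f ≠ f * y := by
          by_contra hall
          push Not at hall
          have : f ∈ F ⊓ V := ⟨hf, S.A1_V (hA1cent ▸ ⟨hFE hf, mem_centralizer_iff.2 hall⟩)⟩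
          rw [hFV] at this
          exact hf1 (mem_bot.1 this)
        refine ⟨y, hy, ?_⟩
        have hef : e * f = c.z * f * e := by
          calc e * f = e * f * e⁻¹ * e := by group
            _ = c.z * f * e := by rw [h]
        rcases hc.swap (S.A1_E hy) (hFE hf) with h2 | h2
        · exact absurd h2 hyf
        · calc y * e * f = y * (e * f) := mul_assoc _ _ _
            _ = (y * c.z) * f * e := by rw [hef]; group
            _ = c.z * (y * f) * e := by rw [← hc.z_comm (S.A1_E hy), mul_assoc c.z]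
            _ = f * (y * e) := by rw [h2, ← mul_assoc c.z c.z, hc.z_sq]; group
    have hmem : y * e ∈ A₁ ⊓ centralizer ({f} : Set G) := heqs.symm ▸
      ⟨mul_mem (S.A1_V hy) (S.E1_V he), mem_centralizer_singleton_iff.2 hye⟩
    exact hez (S.E1_inf e he (S.A1_E (by simpa using mul_mem (inv_mem hy) hmem.1)))
  have hsmall : ∀ f ∈ F, f ≠ 1 → ¬ Hit f → Nat.card ↥(V ⊓ centralizer ({f} : Set G)) = 2 ^ 6 := by
    intro f hf hf1 hno
    rw [← hbase f hf hf1]
    have e1 : V ⊓ centralizer ({f} : Set G) = A₁ ⊓ centralizer ({f} : Set G) := by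
      refine le_antisymm ?_ (inf_le_inf S.A1_V le_rfl)
      rintro v ⟨hvV, hvf⟩
      refine ⟨?_, hvf⟩
      obtain ⟨y, hy, e, he, rfl⟩ := S.V_mul hvV
      by_cases hez : e ∈ zpowers c.z
      · exact mul_mem hy (zpowers_le.2 S.z_A1 hez)
      refine absurd ⟨e, he, hez, hFE hf, ?_⟩ hno
      have h1 := mem_centralizer_singleton_iff.1 hvf
      rcases hc.swap (S.A1_E hy) (hFE hf) with h | h
      · refine Or.inl ?_
        calc e * f * e⁻¹ = y⁻¹ * (y * e * f) * e⁻¹ := by group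
          _ = y⁻¹ * (y * f) := by rw [h1, h]; group
          _ = f := by group
      · refine Or.inr ?_
        have h' : f * y = c.z * (y * f) := by rw [h, ← mul_assoc, hc.z_sq, one_mul]
        calc e * f * e⁻¹ = y⁻¹ * (y * e * f) * e⁻¹ := by group
          _ = y⁻¹ * (f * y) := by rw [h1]; group
          _ = y⁻¹ * c.z * y * f := by rw [h']; group
          _ = c.z * f := by rw [mul_assoc y⁻¹ c.z y, hc.z_comm (S.A1_E hy)]; group
    rw [e1]
  -- one of each
  let iG := Fintype.ofFinite G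
  have hY : ∀ e ∈ E₁, e ∉ zpowers c.z → {x | x ∈ F ∧ x ≠ 1 ∧ x ∈ hc.fixMod e}.ncard = 3 := by
    intro e he hez
    set Y := hc.fixMod e with hYdef
    have hYE : Y ≤ c.E := hc.fixMod_le e
    have hA1Y : A₁ ≤ Y := fun x hx => ⟨S.A1_E hx, Or.inl (by
      rw [comm_of_elem S.V_elem (S.E1_V he) (S.A1_V hx), mul_inv_cancel_right])⟩
    have hzY : c.z ∈ Y := hA1Y S.z_A1
    have hi : Nat.card ↥(A₁ ⊓ A₂) = 2 := by
      rw [show A₁ ⊓ A₂ = zpowers c.z from le_antisymm S.inter
        (zpowers_le.2 ⟨S.z_A1, S.z_A2⟩), Nat.card_zpowers, hc.ord]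
    have h12 := card_mul_set A₁ A₂
    rw [S.card_A1, S.card_A2, hi] at h12
    have hsubE : ((Y : Set G) * (A₂ : Set G)) ⊆ (c.E : Set G) := by
      rintro _ ⟨x, hx, y, hy, rfl⟩
      exact mul_mem (hYE hx) (S.A2_E hy)
    have hall : ((Y : Set G) * (A₂ : Set G)) = (c.E : Set G) := by
      refine Set.eq_of_subset_of_ncard_le hsubE ?_ (Set.toFinite _)
      refine le_trans ?_ (Set.ncard_le_ncard (Set.mul_subset_mul_right (t := (A₂ : Set G))
        (show (A₁ : Set G) ⊆ Y from hA1Y)) (Set.toFinite _))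
      rw [← Nat.card_coe_set_eq, ← Nat.card_coe_set_eq, SetLike.coe_sort_coe, hc.cardE]
      omega
    have hYA := card_mul_set Y A₂
    rw [hall, SetLike.coe_sort_coe, hc.cardE, S.fixed e he hez, S.card_A2] at hYA
    have hY8 : Nat.card ↥(Y ⊓ A₂) = 8 := by omega
    -- the part in `F`
    have hsplit : ∀ x ∈ A₂, x ∈ F ∨ c.z * x ∈ F := by
      have hsub : ((F : Set G) ∪ (fun x => c.z * x) '' (F : Set G)) ⊆ (A₂ : Set G) := by
        rintro x (hx | ⟨y, hy, rfl⟩)
        exacts [hFA hx, mul_mem S.z_A2 (hFA hy)]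
      have hdis : Disjoint (F : Set G) ((fun x => c.z * x) '' (F : Set G)) := by
        rw [Set.disjoint_left]
        rintro x hx ⟨y, hy, rfl⟩
        exact hzF (by simpa using mul_mem hx (inv_mem hy))
      have heq := Set.eq_of_subset_of_ncard_le hsub (by
        rw [Set.ncard_union_eq hdis (Set.toFinite _) (Set.toFinite _),
          Set.ncard_image_of_injective _ (mul_right_injective c.z), ← Nat.card_coe_set_eq,
          ← Nat.card_coe_set_eq, SetLike.coe_sort_coe, SetLike.coe_sort_coe, hFcard, S.card_A2]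
        norm_num) (Set.toFinite _)
      intro x hx
      rcases heq.symm ▸ (show x ∈ (A₂ : Set G) from hx) with h | ⟨y, hy, rfl⟩
      · exact Or.inl h
      · exact Or.inr (by rw [← mul_assoc, hc.z_sq, one_mul]; exact hy)
    have hidx : F.relIndex (Y ⊓ A₂) = 2 := by
      rw [Subgroup.relIndex, Subgroup.index_eq_two_iff]
      refine ⟨⟨c.z, hzY, S.z_A2⟩, fun x => ?_⟩
      simp only [mem_subgroupOf, Subgroup.coe_mul]
      have hzx : (x : G) * c.z = c.z * x := (hc.z_comm (S.A2_E x.2.2)).symm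
      rw [hzx]
      rcases hsplit x x.2.2 with h | h
      · exact Or.inr ⟨h, fun h' => hzF (by simpa using mul_mem h' (inv_mem h))⟩
      · exact Or.inl ⟨h, fun h' => hzF (by simpa using mul_mem h (inv_mem h'))⟩
    have h := Subgroup.card_mul_index (F.subgroupOf (Y ⊓ A₂))
    rw [show (F.subgroupOf (Y ⊓ A₂)).index = 2 from hidx, hY8,
      ← Subgroup.inf_subgroupOf_left, Nat.card_congr (subgroupOfEquivOfLe inf_le_left).toEquiv] at h
    have e : {x | x ∈ F ∧ x ≠ 1 ∧ x ∈ Y} = ((Y ⊓ A₂ ⊓ F : Subgroup G) : Set G) \ {1} := by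
      ext x
      simp only [Set.mem_ofPred_eq, Set.mem_sdiff, SetLike.mem_coe, mem_inf,
        Set.mem_singleton_iff]
      exact ⟨fun h => ⟨⟨⟨h.2.2, hFA h.1⟩, h.1⟩, h.2.1⟩, fun h => ⟨h.1.2, h.2, h.1.1.1⟩⟩
    rw [e, Set.ncard_sdiff (by simp), Set.ncard_singleton, ← Nat.card_coe_set_eq,
      SetLike.coe_sort_coe]
    omega
  obtain ⟨e₀, he₀, he₀z⟩ := S.exists_e
  obtain ⟨f, hfF, hf1, hfY⟩ := Set.nonempty_of_ncard_ne_zero
    (show {x | x ∈ F ∧ x ≠ 1 ∧ x ∈ hc.fixMod e₀}.ncard ≠ 0 by rw [hY e₀ he₀ he₀z]; norm_num)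
  obtain ⟨g, hgF, hg1, hgno⟩ : ∃ g ∈ F, g ≠ 1 ∧ ¬ Hit g := by
    by_contra hall
    push Not at hall
    set U : Finset G := ((F : Set G) \ {1}).toFinset with hU
    set T : Finset G := ((E₁ : Set G) \ (zpowers c.z : Set G)).toFinset with hT
    have hUc : U.card = 63 := by
      rw [hU, ← Set.ncard_eq_toFinset_card', Set.ncard_sdiff (by simp), Set.ncard_singleton,
        ← Nat.card_coe_set_eq, SetLike.coe_sort_coe, hFcard]
      norm_num
    have hTc : T.card = 30 := by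
      rw [hT, ← Set.ncard_eq_toFinset_card', Set.ncard_sdiff
        (SetLike.coe_subset_coe.2 (zpowers_le.2 S.z_E1)), ← Nat.card_coe_set_eq,
        ← Nat.card_coe_set_eq, SetLike.coe_sort_coe, SetLike.coe_sort_coe, S.card_E1,
        Nat.card_zpowers, hc.ord]
    have hdc := Finset.sum_card_bipartiteAbove_eq_sum_card_bipartiteBelow
      (fun x e => x ∈ hc.fixMod e) (s := U) (t := T)
    have hb : ∀ e ∈ T, (U.bipartiteBelow (fun x e => x ∈ hc.fixMod e) e).card = 3 := by
      intro e he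
      rw [hT, Set.mem_toFinset] at he
      rw [← hY e he.1 he.2, Set.ncard_eq_toFinset_card']
      congr 1
      ext x
      simp [Finset.bipartiteBelow, hU, and_assoc]
    have htwo : ∀ x ∈ U, 2 ≤ (T.bipartiteAbove (fun x e => x ∈ hc.fixMod e) x).card := by
      intro x hx
      simp only [hU, Set.mem_toFinset, Set.mem_sdiff, SetLike.mem_coe, Set.mem_singleton_iff] at hx
      obtain ⟨e, he, hez, hxe⟩ := hall x hx.1 hx.2
      refine le_trans (le_of_eq (Finset.card_pair (a := e) (b := c.z * e) ?_).symm)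
        (Finset.card_le_card ?_)
      · exact fun h => hc.z_ne (mul_eq_right.1 h.symm)
      intro y hy
      simp only [Finset.mem_insert, Finset.mem_singleton] at hy
      simp only [Finset.bipartiteAbove, Finset.mem_filter, hT, Set.mem_toFinset, Set.mem_sdiff,
        SetLike.mem_coe]
      rcases hy with rfl | rfl
      · exact ⟨⟨he, hez⟩, hxe⟩
      · refine ⟨⟨mul_mem S.z_E1 he, fun h => hez ?_⟩, hxe.1, ?_⟩
        · simpa using mul_mem (inv_mem (mem_zpowers c.z)) h
        · have hzc := c.mem_H.1 (hc.le_H (hc.eqz_mem hxe.1 hxe.2))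
          rw [show c.z * e * x * (c.z * e)⁻¹ = c.z * (e * x * e⁻¹) * c.z⁻¹ by group, hzc,
            mul_inv_cancel_right]
          exact hxe.2
    have h1 : U.card * 2 ≤ ∑ x ∈ U, (T.bipartiteAbove (fun x e => x ∈ hc.fixMod e) x).card := by
      rw [← smul_eq_mul, ← Finset.sum_const]; exact Finset.sum_le_sum htwo
    rw [hdc, Finset.sum_congr rfl hb, Finset.sum_const, hTc, hUc, smul_eq_mul] at h1
    omega
  have hnotV : ∀ {x}, x ∈ F → x ≠ 1 → x ∉ V := fun hx h1 hV =>
    h1 (mem_bot.1 (hFV ▸ (⟨hx, hV⟩ : _ ∈ F ⊓ V)))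
  -- lifts
  have hlift : ∀ n ∈ c.Nh, n ∉ c.C → c.pr n * c.pr n = 1 →
      c.pr n ∈ Subgroup.closure ({a, b, u} : Set A) → n * n = 1 := by
    intro n hn hnC hn2 hncl
    obtain ⟨hnL, -, hnE1⟩ := S.lift n hn hncl
    obtain ⟨q, hq, hq'⟩ := hc.Nh_ker (mul_mem hn hn) (by rw [hc.pr_mul _ hn.1 _ hn.1, hn2])
    have hq1 : q = 1 := by
      have hz := c.mem_H.1 hn.1
      have hcm : n * q * n⁻¹ = q := by
        rcases hq' with h | h
        · rw [← h]; group
        · have h' : q = c.z * (n * n) := by rw [h, ← mul_assoc, hc.z_sq, one_mul]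
          rw [h', show n * (c.z * (n * n)) * n⁻¹ = (n * c.z) * n from by group, ← hz, mul_assoc]
      rw [hc.inverts hn hnC hq] at hcm
      have h3 := hc.P_pow hq
      have h2 : q * q = 1 := by
        calc q * q = q * q⁻¹ := by rw [hcm]
          _ = 1 := mul_inv_cancel q
      rwa [h2, one_mul] at h3
    rw [hq1, mul_one] at hq'
    rcases hq' with h | h
    · exact h
    exfalso
    have hnV : n ∉ V := fun hV => hc.z_ne (h ▸ sq_of_elem S.V_elem hV)
    have hfL : f ∈ L := S.E_L (hFE hfF)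
    have hgL : g ∈ L := S.E_L (hFE hgF)
    obtain ⟨k, hk, hk'⟩ := S.two_classes f hfL g hgL (hnotV hfF hf1) (hnotV hgF hg1)
      (by rw [hFsq hfF]; exact one_mem _) (by rw [hFsq hgF]; exact one_mem _)
      (fun e => hbig f hfF hf1 ⟨e₀, he₀, he₀z, hfY⟩ (e.trans (hsmall g hgF hg1 hgno)))
      n hnL hnV (by rw [h]; exact S.E1_V S.z_E1)
    obtain ⟨j, hj, hjV⟩ : ∃ j ∈ F, k * n * k⁻¹ * j⁻¹ ∈ V := by
      rcases hk' with h' | h'
      exacts [⟨f, hfF, h'⟩, ⟨g, hgF, h'⟩]
    -- an involution in the coset of `n`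
    set w := n⁻¹ * (k⁻¹ * j * k) with hw
    have hwV : w ∈ V := by
      have h1 := (mem_normalizer_iff.1 (S.L_norm (inv_mem hk)) _).1 (inv_mem hjV)
      have h2 := (mem_normalizer_iff.1 (S.L_norm (inv_mem hnL)) _).1 h1
      convert h2 using 1
      rw [hw]; group
    have hinv : (n * w) * (n * w) = 1 := by
      rw [hw, show n * (n⁻¹ * (k⁻¹ * j * k)) * (n * (n⁻¹ * (k⁻¹ * j * k))) = k⁻¹ * (j * j) * k by
        group, hFsq hj]
      group
    have hkey : n⁻¹ * w * n * w = c.z := by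
      calc n⁻¹ * w * n * w = (n * n)⁻¹ * ((n * w) * (n * w)) := by group
        _ = c.z := by rw [hinv, h, mul_one, hc.z_inv]
    obtain ⟨y, hy, e, he, hye⟩ := S.V_mul hwV
    have hnA1 : ∀ {x}, x ∈ A₁ → n⁻¹ * x * n ∈ A₁ := fun {x} hx => by
      rw [← S.A1_eq]
      refine ⟨?_, ?_⟩
      · have := hc.conjE (inv_mem hn.1) (S.A1_E hx)
        rwa [inv_inv] at this
      · have := (mem_normalizer_iff.1 (S.L_norm (inv_mem hnL)) x).1 (S.A1_V hx)
        rwa [inv_inv] at this
    have heE : n⁻¹ * e * n ∈ E₁ := by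
      have := (mem_normalizer_iff.1 (inv_mem hnE1) e).1 he
      rwa [inv_inv] at this
    have hcV : ∀ {p q}, p ∈ V → q ∈ V → p * q = q * p := comm_of_elem S.V_elem
    have hprod : (n⁻¹ * y * n * y) * (n⁻¹ * e * n * e) = c.z := by
      rw [← hkey, hye]
      have hc1 := hcV (S.A1_V hy) (S.E1_V heE)
      calc n⁻¹ * y * n * y * (n⁻¹ * e * n * e)
          = n⁻¹ * y * n * (y * (n⁻¹ * e * n)) * e := by group
        _ = n⁻¹ * y * n * ((n⁻¹ * e * n) * y) * e := by rw [hc1]
        _ = n⁻¹ * (y * e) * n * (y * e) := by group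
    have he1 : n⁻¹ * e * n * e ∈ zpowers c.z := by
      refine S.E1_inf _ (mul_mem heE he) ?_
      have : n⁻¹ * e * n * e = (n⁻¹ * y * n * y)⁻¹ * c.z := by rw [← hprod]; group
      rw [this]
      exact mul_mem (inv_mem (S.A1_E (mul_mem (hnA1 hy) hy))) hc.z_mem
    rcases hc.mem_zp.1 he1 with he2 | he2
    · rw [he2, mul_one] at hprod
      -- the `A₁` part cannot give `z`
      have hyE := S.A1_E hy
      have hymul : y * y = 1 := sq_of_elem S.V_elem (S.A1_V hy)
      have hyY : n⁻¹ * y * n = c.z * y := by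
        calc n⁻¹ * y * n = n⁻¹ * y * n * (y * y) := by rw [hymul, mul_one]
          _ = c.z * y := by rw [← mul_assoc, hprod]
      have hd' : ∀ r ∈ c.P, n⁻¹ * (r * y * r⁻¹) * n = c.z * (r⁻¹ * y * r) := by
        intro r hr
        have hr' := hc.inverts hn hnC (inv_mem hr)
        rw [inv_inv] at hr'
        have h1 : n⁻¹ * r * n = r⁻¹ := by
          calc n⁻¹ * r * n = n⁻¹ * (n * r⁻¹ * n⁻¹) * n := by rw [hr']
            _ = r⁻¹ := by group
        have hz := c.mem_H.1 (hc.P_le hr)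
        calc n⁻¹ * (r * y * r⁻¹) * n = (n⁻¹ * r * n) * (n⁻¹ * y * n) * (n⁻¹ * r * n)⁻¹ := by group
          _ = r⁻¹ * (c.z * y) * r := by rw [h1, hyY, inv_inv]
          _ = c.z * (r⁻¹ * y * r) := by
            rw [← mul_assoc r⁻¹, ← c.mem_H.1 (inv_mem (hc.P_le hr))]; group
      -- the product over the orbit of `P` is fixed by `P`
      have ho := hc.orbit_prod hp hp1 hyE
      have h3 := hd' p hp
      have h4 := hd' p⁻¹ (inv_mem hp)
      rw [inv_inv] at h4
      have hp2 : p * p = p⁻¹ := eq_inv_of_mul_eq_one_left (hc.P_pow hp)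
      rw [show p * (p * y * p⁻¹) * p⁻¹ = (p * p) * y * (p * p)⁻¹ by group, hp2, inv_inv] at ho
      set p1 := p * y * p⁻¹ with hp1def
      set p2 := p⁻¹ * y * p with hp2def
      have hp1E : p1 ∈ c.E := hc.conjE (hc.P_le hp) hyE
      have hp2E : p2 ∈ c.E := by
        have := hc.conjE (inv_mem (hc.P_le hp)) hyE
        rwa [inv_inv] at this
      have hmove : n⁻¹ * (y * p1 * p2) * n = c.z * (y * p2 * p1) := by
        calc n⁻¹ * (y * p1 * p2) * n = (n⁻¹ * y * n) * (n⁻¹ * p1 * n) * (n⁻¹ * p2 * n) := by group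
          _ = (c.z * y) * (c.z * p2) * (c.z * p1) := by rw [hyY, h3, h4]
          _ = c.z * (c.z * c.z) * (y * p2 * p1) := by
            rw [mul_assoc c.z y, ← mul_assoc y c.z p2, ← hc.z_comm hyE]
            have hq : c.z * (y * p2) * c.z = c.z * c.z * (y * p2) := by
              rw [mul_assoc c.z (y * p2), ← hc.z_comm (mul_mem hyE hp2E), mul_assoc]
            calc c.z * (c.z * y * p2) * (c.z * p1)
                = c.z * (c.z * (y * p2) * c.z) * p1 := by group
              _ = c.z * (c.z * c.z * (y * p2)) * p1 := by rw [hq]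
              _ = c.z * (c.z * c.z) * (y * p2 * p1) := by group
          _ = c.z * (y * p2 * p1) := by rw [hc.z_sq, mul_one]
      have hA1c : p1 * p2 = p2 * p1 := by
        have h12 : ∀ {r}, r ∈ c.P → r * y * r⁻¹ ∈ A₁ := by
          intro r hr
          rw [← S.A1_eq]
          refine ⟨hc.conjE (hc.P_le hr) hyE, ?_⟩
          obtain ⟨hrL, -, -⟩ := S.lift r (c.C_le_Nh (hc.P_le_C hr))
            (by rw [hc.pr_P hr]; exact one_mem _)
          exact (mem_normalizer_iff.1 (S.L_norm hrL) y).1 (S.A1_V hy)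
        have h2 := h12 (inv_mem hp)
        rw [inv_inv] at h2
        exact hA1elem (h12 hp) h2
      have e21 : y * p2 * p1 = y * p1 * p2 := by rw [mul_assoc, ← hA1c, ← mul_assoc]
      rw [e21] at hmove
      have hzp : y * p1 * p2 ∈ zpowers c.z := hc.eqz_one_iff.1 ho
      rcases hc.mem_zp.1 hzp with e' | e' <;> rw [e'] at hmove
      · rw [mul_one, inv_mul_cancel, mul_one] at hmove
        exact hc.z_ne hmove.symm
      · rw [hc.z_sq] at hmove
        exact hc.z_ne (by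
          calc c.z = n * (n⁻¹ * c.z * n) * n⁻¹ := by group
            _ = 1 := by rw [hmove]; group)
    · have hne : e ∉ zpowers c.z := by
        intro hez
        rcases hc.mem_zp.1 hez with e' | e' <;> subst e'
        · exact hc.z_ne (by rw [← he2]; group)
        · rw [show n⁻¹ * c.z * n * c.z = n⁻¹ * (c.z * n) * c.z by group, c.mem_H.1 hn.1] at he2
          exact hc.z_ne (by rw [← he2]; simp [hc.z_sq])
      refine S.fus e he hne (isConj_iff.2 ⟨n⁻¹, ?_⟩)
      have hee : e * e = 1 := sq_of_elem S.V_elem (S.E1_V he)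
      calc n⁻¹ * e * n⁻¹⁻¹ = n⁻¹ * e * n * (e * e) := by rw [hee, inv_inv, mul_one]
        _ = c.z * e := by rw [← mul_assoc, he2]
        _ = e * c.z := c.mem_H.1 (S.E1_C he).1
  -- the lifts
  have ha1 : a ≠ 1 := fun h => by
    have := S.free 0 (by norm_num) 1 (by norm_num) 0 (by norm_num)
      ⟨1, one_mem _, by simp [word, h, hc.pr_one]⟩
    exact absurd this.2.1 one_ne_zero
  have hb1 : b ≠ 1 := fun h => by
    have := S.free 1 (by norm_num) 1 (by norm_num) 0 (by norm_num)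
      ⟨1, one_mem _, by simp [word, h, hc.pr_one, S.a2]⟩
    exact absurd this.1 one_ne_zero
  obtain ⟨a', haC, hpa, ha2⟩ := S.inner_lift hd S.aM S.a2 ha1
  obtain ⟨b', hbC, hpb, hb2⟩ := S.inner_lift hd S.bM S.b2 hb1
  obtain ⟨u', huN, hpu⟩ := hc.Nh_surj u
  have huC : u' ∉ c.C := fun h => S.uM (hpu ▸ (hc.mem_C_iff hd huN).1 h)
  have hclu : u ∈ Subgroup.closure ({a, b, u} : Set A) := Subgroup.subset_closure (by simp)
  have hcla : a ∈ Subgroup.closure ({a, b, u} : Set A) := Subgroup.subset_closure (by simp)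
  have hclb : b ∈ Subgroup.closure ({a, b, u} : Set A) := Subgroup.subset_closure (by simp)
  have hu2 : u' * u' = 1 := hlift u' huN huC (by rw [hpu]; exact S.u2) (by rw [hpu]; exact hclu)
  have hcomm : ∀ n ∈ c.C, ∀ α, c.pr n = α → n * n = 1 → α * α = 1 → u * α = α * u →
      α ∈ Subgroup.closure ({a, b, u} : Set A) → u' * n = n * u' := by
    intro n hn α hpn hn2 hα2 hcom hαcl
    have hunC : u' * n ∉ c.C := fun h => huC (by simpa using mul_mem h (inv_mem hn))
    have hun : u' * n ∈ c.Nh := mul_mem huN (c.C_le_Nh hn)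
    have hpr : c.pr (u' * n) = u * α := by rw [hc.pr_mul _ huN.1 _ hn.1, hpu, hpn]
    have h2 := hlift (u' * n) hun hunC (by
      rw [hpr, mul_assoc, ← mul_assoc α u α, ← hcom, mul_assoc u α α, hα2, mul_one, S.u2])
      (by rw [hpr]; exact mul_mem hclu hαcl)
    calc u' * n = (u' * n)⁻¹ := eq_inv_of_mul_eq_one_left h2
      _ = n * u' := by
        rw [mul_inv_rev, inv_eq_of_mul_eq_one_right hn2, inv_eq_of_mul_eq_one_right hu2]
  have hua := hcomm a' haC a hpa ha2 S.a2 S.ua hcla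
  have hub := hcomm b' hbC b hpb hb2 S.b2 S.ub hclb
  have hprab : c.pr (a' * b') = a * b := by rw [hc.pr_mul _ haC.1 _ hbC.1, hpa, hpb]
  have hab4 : (a' * b') ^ 4 = 1 := by
    have hsq : c.pr ((a' * b') * (a' * b')) = (a * b) ^ 2 := by
      rw [hc.pr_mul _ (mul_mem haC.1 hbC.1) _ (mul_mem haC.1 hbC.1), hprab, sq]
    have hab2 : (a * b) ^ 2 ≠ 1 := fun h => by
      have := S.free 2 (by norm_num) 0 (by norm_num) 0 (by norm_num)
        ⟨1, one_mem _, by simp [word, h, hc.pr_one]⟩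
      exact absurd this.1 (by norm_num)
    obtain ⟨m, hm, hpm, hm2⟩ := S.inner_lift hd (M.pow_mem (M.mul_mem S.aM S.bM) 2)
      (by rw [← pow_add]; exact S.ab4) hab2
    set w := (a' * b') * (a' * b') with hwdef
    have hwC : w ∈ c.C := mul_mem (mul_mem haC hbC) (mul_mem haC hbC)
    obtain ⟨q, hq, hq'⟩ := hc.Nh_ker (c.C_le_Nh (mul_mem (inv_mem hm) hwC))
      (by rw [hc.pr_mul _ (inv_mem hm.1) _ hwC.1, hc.pr_inv hm.1, hpm, hsq, inv_mul_cancel])
    have hqm : q * m = m * q := mem_centralizer_iff.1 hm.2 q hq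
    have hzm : c.z * m = m * c.z := c.mem_H.1 hm.1
    have hzq : c.z * q = q * c.z := c.mem_H.1 (hc.P_le hq)
    have hww : w * w = q * q := by
      have hw' : w = m * q ∨ w = m * (c.z * q) := by
        rcases hq' with h | h <;> [left; right] <;> rw [← h] <;> group
      rcases hw' with h | h <;> rw [h]
      · calc m * q * (m * q) = m * (q * m) * q := by group
          _ = (m * m) * (q * q) := by rw [hqm]; group
          _ = q * q := by rw [hm2, one_mul]
      · calc m * (c.z * q) * (m * (c.z * q)) = m * c.z * (q * m) * (c.z * q) := by group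
          _ = m * (c.z * m) * (q * c.z) * q := by rw [hqm]; group
          _ = (m * m) * (c.z * c.z) * (q * q) := by rw [hzm, ← hzq]; group
          _ = q * q := by rw [hm2, hc.z_sq, one_mul, one_mul]
    have hcent : a' * (q * q) * a'⁻¹ = q * q := by
      have : a' * q = q * a' := (mem_centralizer_iff.1 haC.2 q hq).symm
      calc a' * (q * q) * a'⁻¹ = (a' * q) * q * a'⁻¹ := by group
        _ = (q * a') * q * a'⁻¹ := by rw [this]
        _ = q * (a' * q) * a'⁻¹ := by group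
        _ = q * (q * a') * a'⁻¹ := by rw [this]
        _ = q * q := by group
    have hinv : a' * (w * w) * a'⁻¹ = (w * w)⁻¹ := by
      have ea := inv_eq_of_mul_eq_one_right ha2
      have eb := inv_eq_of_mul_eq_one_right hb2
      rw [hwdef]; simp only [mul_inv_rev, ea, eb]
      calc a' * (a' * b' * (a' * b') * (a' * b' * (a' * b'))) * a'
          = (a' * a') * (b' * (a' * b') * (a' * b' * (a' * b')) * a') := by group
        _ = b' * a' * (b' * a') * (b' * a' * (b' * a')) := by rw [ha2]; group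
    rw [hww] at hinv
    rw [hcent] at hinv
    have h4 : q * q = 1 := by
      have h3 := hc.P_pow hq
      have hsq' : (q * q) * (q * q) = 1 := mul_eq_one_iff_eq_inv.2 hinv
      have : q = 1 := by
        calc q = (q * q) * (q * q) * (q * q * q)⁻¹ := by group
          _ = 1 := by rw [hsq', h3]; group
      rw [this, one_mul]
    calc (a' * b') ^ 4 = w * w := by rw [hwdef, show (4 : ℕ) = 2 + 2 from rfl, pow_add, sq]
      _ = 1 := hww.trans h4
  set D : Subgroup G := Subgroup.closure ({a', b', u'} : Set G) with hD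
  have hDN : D ≤ c.Nh := (Subgroup.closure_le _).2 (by
    rintro x (rfl | rfl | rfl); exacts [c.C_le_Nh haC, c.C_le_Nh hbC, huN])
  have hprw : ∀ i j k, c.pr (word a' b' u' i j k) = word a b u i j k := by
    intro i j k
    have hh : ∀ (n : G) (hn : n ∈ c.H) (m : ℕ), c.pr (n ^ m) = (c.pr n) ^ m := by
      intro n hn m
      induction m with
      | zero => simp [hc.pr_one]
      | succ m ih => rw [pow_succ, pow_succ, hc.pr_mul _ (pow_mem hn m) _ hn, ih]
    unfold word
    rw [hc.pr_mul _ (mul_mem (pow_mem (mul_mem haC.1 hbC.1) i) (pow_mem haC.1 j)) _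
      (pow_mem huN.1 k), hc.pr_mul _ (pow_mem (mul_mem haC.1 hbC.1) i) _ (pow_mem haC.1 j),
      hh _ (mul_mem haC.1 hbC.1), hh _ haC.1, hh _ huN.1, hprab, hpa, hpu]
  have hform : ∀ x ∈ D, ∃ i < 4, ∃ j < 2, ∃ k < 2, x = word a' b' u' i j k :=
    fun x hx => word_closed ha2 hb2 hu2 hab4 hua hub hx
  have hDcl : ∀ x ∈ D, c.pr x ∈ Subgroup.closure ({a, b, u} : Set A) := by
    intro x hx
    obtain ⟨i, -, j, -, k, -, rfl⟩ := hform x hx
    rw [hprw]
    exact mul_mem (mul_mem (pow_mem (mul_mem hcla hclb) i) (pow_mem hcla j)) (pow_mem hclu k)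
  have hDL : D ≤ L := fun x hx => (S.lift x (hDN hx) (hDcl x hx)).1
  have hDF : D ≤ normalizer (F : Set G) := by
    have key : ∀ n ∈ D, ∀ x ∈ F, n * x * n⁻¹ ∈ F := by
      intro n hn x hx
      obtain ⟨v, hv, rfl⟩ := hx
      have hnN := hDN hn
      have hA2 := (S.lift n hnN (hDcl n hn)).2.1
      set v' := n * v * n⁻¹ with hv'
      have hv'm : v' ∈ A₂ := (mem_normalizer_iff.1 hA2 v).1 hv
      have he : n * (v⁻¹ * (p * v * p⁻¹)) * n⁻¹ =
          v'⁻¹ * ((n * p * n⁻¹) * v' * (n * p * n⁻¹)⁻¹) := by rw [hv']; group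
      rw [he]
      by_cases hnC : n ∈ c.C
      · rw [show n * p * n⁻¹ = p by
          rw [← mem_centralizer_iff.1 hnC.2 p hp, mul_inv_cancel_right]]
        exact ⟨v', hv'm, rfl⟩
      · rw [hc.inverts hnN hnC hp, inv_inv]
        have hpv : p⁻¹ * v' * p ∈ A₂ := by
          have := (mem_normalizer_iff.1 (inv_mem hpA) v').1 hv'm
          rwa [inv_inv] at this
        have hv2 : (v'⁻¹ * (p⁻¹ * v' * p)) = ((p⁻¹ * v' * p)⁻¹ * (p * (p⁻¹ * v' * p) * p⁻¹))⁻¹ := by
          group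
        rw [hv2]
        exact inv_mem ⟨_, hpv, rfl⟩
    intro n hn
    refine mem_normalizer_iff.2 fun x => ⟨key n hn x, fun hx => ?_⟩
    have := key n⁻¹ (inv_mem hn) _ hx
    rwa [show n⁻¹ * (n * x * n⁻¹) * n⁻¹⁻¹ = x by group] at this
  have hprF : ∀ {x}, x ∈ F → c.pr x = 1 := fun hx => hc.pr_E (hFE hx)
  have hDfree : ∀ x ∈ D, c.pr x ∈ c.pr '' (E₁ : Set G) → x = 1 := by
    intro x hx hpx
    obtain ⟨i, hi, j, hj, k, hk, rfl⟩ := hform x hx
    rw [hprw] at hpx
    obtain ⟨rfl, rfl, rfl⟩ := S.free i hi j hj k hk hpx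
    simp [word]
  set K : Subgroup G := F ⊔ D with hK
  have hKmem : ∀ x ∈ K, ∃ y ∈ F, ∃ d ∈ D, x = y * d := fun x hx => exists_mul_of_mem_sup hDF hx
  have hKV : K ⊓ V = ⊥ := by
    rw [eq_bot_iff]
    rintro x ⟨hxK, hxV⟩
    obtain ⟨y, hy, d, hdD, rfl⟩ := hKmem x hxK
    obtain ⟨v, hv, e, he, hve⟩ := S.V_mul hxV
    have hd1 : d = 1 := by
      refine hDfree d hdD ⟨e, he, ?_⟩
      have h1 : c.pr (y * d) = c.pr d := by
        rw [hc.pr_mul _ (hc.le_H (hFE hy)) _ (hDN hdD).1, hprF hy, one_mul]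
      have h2 : c.pr (v * e) = c.pr e := by
        rw [hc.pr_mul _ (hc.le_H (S.A1_E hv)) _ (S.E1_C he).1, hc.pr_E (S.A1_E hv), one_mul]
      rw [← h1, ← h2, hve]
    subst hd1
    rw [mul_one] at hxV ⊢
    exact hFV ▸ (⟨hy, hxV⟩ : y ∈ F ⊓ V)
  have hFL : F ≤ L := hFE.trans S.E_L
  have hKL : K ≤ L := sup_le hFL hDL
  have hFD : F ⊓ D = ⊥ := by
    rw [eq_bot_iff]
    rintro x ⟨hxF, hxD⟩
    refine mem_bot.2 (hDfree x hxD ⟨1, one_mem _, ?_⟩)
    rw [hc.pr_one, hprF hxF]
  have hDcard : 16 ≤ Nat.card D := by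
    let φ : Fin 4 × Fin 2 × Fin 2 → ↥D := fun t => ⟨word a' b' u' t.1 t.2.1 t.2.2,
      mul_mem (mul_mem (pow_mem (mul_mem (Subgroup.subset_closure (by simp))
        (Subgroup.subset_closure (by simp))) _) (pow_mem (Subgroup.subset_closure (by simp)) _))
        (pow_mem (Subgroup.subset_closure (by simp)) _)⟩
    have hinj : Function.Injective φ := by
      rintro ⟨i, j, k⟩ ⟨i', j', k'⟩ h
      have h1 : word a' b' u' i j k = word a' b' u' i' j' k' := congrArg Subtype.val h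
      have hd' : (word a' b' u' i' j' k')⁻¹ * word a' b' u' i j k = 1 := by rw [h1, inv_mul_cancel]
      have cu : ∀ n m : ℕ, Commute (u' ^ n) ((a' * b') ^ m) := fun n m =>
        ((Commute.mul_right hua hub).pow_pow n m)
      have cua : ∀ n m : ℕ, Commute (u' ^ n) (a' ^ m) := fun n m =>
        Commute.pow_pow (show Commute u' a' from hua) n m
      -- move `u'` out
      have hsplit : ∀ (i i' : Fin 4) (j j' k k' : Fin 2),
          word a' b' u' i j k = word a' b' u' i' j' k' →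
          ((a' * b') ^ ((4 - (i' : ℕ)) + i) * a' ^ ((j : ℕ) + j') * u' ^ ((k : ℕ) + k') = 1 ∨
           (a' * b') ^ ((4 - (i : ℕ)) + i') * a' ^ ((j : ℕ) + j') * u' ^ ((k : ℕ) + k') = 1) →
          i = i' ∧ j = j' ∧ k = k' := by
        intro i i' j j' k k' _ hor
        have key : ∀ (s : ℕ) (m n : ℕ), (a' * b') ^ s * a' ^ m * u' ^ n = 1 →
            s % 4 = 0 ∧ m % 2 = 0 ∧ n % 2 = 0 := by
          intro s m n he
          have e2 : word a b u (s % 4) (m % 2) (n % 2) = 1 := by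
            unfold word
            rw [← pow_eq_pow_mod s S.ab4, ← pow_eq_pow_mod m (show a ^ 2 = 1 by rw [sq]; exact S.a2),
              ← pow_eq_pow_mod n (show u ^ 2 = 1 by rw [sq]; exact S.u2)]
            have := hprw s m n
            rw [word, he, hc.pr_one, word] at this
            exact this.symm
          exact S.free _ (Nat.mod_lt _ (by norm_num)) _ (Nat.mod_lt _ (by norm_num)) _
            (Nat.mod_lt _ (by norm_num)) ⟨1, one_mem _, by rw [hc.pr_one, e2]⟩
        have := i.2; have := i'.2; have := j.2; have := j'.2; have := k.2; have := k'.2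
        rcases hor with h | h <;> obtain ⟨e1, e2, e3⟩ := key _ _ _ h <;>
          exact ⟨Fin.ext (by omega), Fin.ext (by omega), Fin.ext (by omega)⟩
      obtain ⟨e1, e2, e3⟩ := hsplit i i' j j' k k' h1 (Or.inl (by
        have hq : (a' * b') ^ (4 - (i' : ℕ)) * ((a' * b') ^ (i' : ℕ)) = 1 := by
          rw [← pow_add, show 4 - (i' : ℕ) + i' = 4 by omega, hab4]
        have ej : a' ^ ((j' : ℕ) + j') = 1 := by
          rw [← two_mul, pow_mul, sq, ha2, one_pow]
        have ek : u' ^ ((k' : ℕ) + k') = 1 := by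
          rw [← two_mul, pow_mul, sq, hu2, one_pow]
        calc (a' * b') ^ (4 - (i' : ℕ) + i) * a' ^ ((j : ℕ) + j') * u' ^ ((k : ℕ) + k')
            = (a' * b') ^ (4 - (i' : ℕ)) * (((a' * b') ^ (i : ℕ) * a' ^ (j : ℕ)) *
              (a' ^ (j' : ℕ) * u' ^ (k : ℕ))) * u' ^ (k' : ℕ) := by
              simp only [pow_add, mul_assoc]
          _ = (a' * b') ^ (4 - (i' : ℕ)) * (word a' b' u' i j k) * (a' ^ (j' : ℕ) * u' ^ (k' : ℕ)) := by
              rw [(cua k j').symm.eq]; simp only [word, mul_assoc]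
          _ = (a' * b') ^ (4 - (i' : ℕ)) * (word a' b' u' i' j' k') * (a' ^ (j' : ℕ) * u' ^ (k' : ℕ)) := by
              rw [h1]
          _ = ((a' * b') ^ (4 - (i' : ℕ)) * (a' * b') ^ (i' : ℕ)) *
              (a' ^ (j' : ℕ) * (u' ^ (k' : ℕ) * a' ^ (j' : ℕ)) * u' ^ (k' : ℕ)) := by
              simp only [word, mul_assoc]
          _ = a' ^ ((j' : ℕ) + j') * u' ^ ((k' : ℕ) + k') := by
              rw [hq, (cua k' j').eq, one_mul]; simp only [pow_add, mul_assoc]
          _ = 1 := by rw [ej, ek, one_mul]))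
      exact Prod.ext e1 (Prod.ext e2 e3)
    have := Nat.card_le_card_of_injective φ hinj
    simpa using this
  have hKcard : 2 ^ 10 ≤ Nat.card K := by
    have h := card_mul_set F D
    rw [← coe_mul_of_right_le_normalizer_left F D hDF, SetLike.coe_sort_coe, ← hK, hFD,
      Subgroup.card_bot, mul_one, hFcard] at h
    rw [h]; omega
  set U : Subgroup G := V ⊔ K with hU
  have hUL : U ≤ L := sup_le S.V_L hKL
  have hKnV : K ≤ normalizer (V : Set G) := hKL.trans S.L_norm
  have hUcard : 2 ^ 21 ≤ Nat.card U := by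
    have h := card_mul_set V K
    rw [← coe_mul_of_right_le_normalizer_left V K hKnV, SetLike.coe_sort_coe, ← hU,
      inf_comm, hKV, Subgroup.card_bot, mul_one, S.card_V] at h
    rw [h]; nlinarith
  have : (V.subgroupOf L).Normal := Subgroup.normal_subgroupOf_iff_le_normalizer S.V_L |>.2 S.L_norm
  have : IsMulCommutative (V.subgroupOf L) := ⟨⟨fun x y =>
    Subtype.ext (Subtype.ext (comm_of_elem S.V_elem x.2 y.2))⟩⟩
  have hcop : (Nat.card (V.subgroupOf L)).Coprime (U.subgroupOf L).index := by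
    rw [Nat.card_congr (subgroupOfEquivOfLe S.V_L).toEquiv, S.card_V]
    refine Nat.Coprime.pow_left _ ((Nat.prime_two.coprime_iff_not_dvd).2 fun h2 => S.odd ?_)
    have h := Subgroup.card_mul_index (U.subgroupOf L)
    rw [Nat.card_congr (subgroupOfEquivOfLe hUL).toEquiv] at h
    obtain ⟨t, ht⟩ := h2
    -- `U` is a `2`-group of order `2 ^ 21`
    have hU21 : 2 ^ 21 ∣ Nat.card U := by
      have hKd : 2 ^ 10 = Nat.card K := by
        have h := card_mul_set F D
        rw [← coe_mul_of_right_le_normalizer_left F D hDF, SetLike.coe_sort_coe, ← hK, hFD,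
          Subgroup.card_bot, mul_one, hFcard] at h
        have hle : Nat.card D ≤ 16 := by
          choose fi hfi fj hfj fk hfk hfw using hform
          let ψ : ↥D → Fin 4 × Fin 2 × Fin 2 := fun x =>
            (⟨fi x x.2, hfi x x.2⟩, ⟨fj x x.2, hfj x x.2⟩, ⟨fk x x.2, hfk x x.2⟩)
          have hψ : Function.Injective ψ := fun x y e => by
            simp only [ψ, Prod.mk.injEq, Fin.mk.injEq] at e
            exact Subtype.ext ((hfw x x.2).trans (by rw [e.1, e.2.1, e.2.2]; exact (hfw y y.2).symm))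
          have := Nat.card_le_card_of_injective ψ hψ
          simpa using this
        rw [h, le_antisymm hle hDcard]; norm_num
      have h := card_mul_set V K
      rw [← coe_mul_of_right_le_normalizer_left V K hKnV, SetLike.coe_sort_coe, ← hU,
        inf_comm, hKV, Subgroup.card_bot, mul_one, S.card_V, ← hKd] at h
      rw [h]; norm_num
    rw [← h, ht]
    obtain ⟨s, hs⟩ := hU21
    exact ⟨s * t, by rw [hs]; ring⟩
  obtain ⟨K', hK'⟩ := Cfsg.Agent.S0051.result (V.subgroupOf L) (U.subgroupOf L)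
    (Subgroup.comap_mono le_sup_left) hcop (K.subgroupOf L) (Subgroup.comap_mono le_sup_right)
    (by
      rw [eq_bot_iff]
      rintro x ⟨h1, h2⟩
      exact mem_bot.2 (Subtype.ext (mem_bot.1 (hKV ▸ (⟨h1, h2⟩ : (x : G) ∈ K ⊓ V)))))
    (Subgroup.subgroupOf_sup S.V_L hKL).symm
  refine ⟨K'.map L.subtype, Subgroup.map_subtype_le K', ?_, ?_⟩
  · rw [eq_bot_iff]
    rintro _ ⟨⟨x, hx, rfl⟩, hxV⟩
    exact mem_bot.2 (congrArg Subtype.val
      (mem_bot.1 (hK'.disjoint.le_bot ⟨(hxV : x ∈ V.subgroupOf L), hx⟩)))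
  · have h1 : (V.subgroupOf L).map L.subtype = V := by
      rw [Subgroup.map_subgroupOf_eq_of_le S.V_L]
    have h2 := congrArg (Subgroup.map L.subtype) hK'.sup_eq_top
    rwa [Subgroup.map_sup, h1, ← MonoidHom.range_eq_map, Subgroup.range_subtype] at h2

end

end Cfsg.Agent.H38.JFour
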