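import Cfsg.Agent.H98.JFour.BlocksInst
import Cfsg.Agent.H98.JFour.PkgBridge
import Cfsg.Agent.H38.JFour.Split
import Cfsg.Agent.H38.JFour.Recog
import Cfsg.Agent.S5394

/-!
The splitting data for the normaliser of `V`, and the isomorphism of the quotient with the Mathieu group on 24 points.
-/

set_option autoImplicit false
set_option linter.style.haveILetI false

namespace Cfsg.Agent.H38.JFour

open Subgroup H43.JFour H98.JFour
open scoped commutatorElement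

universe u v

variable {G : Type u} [Group G] [Finite G] {A : Type v} [Group A]
variable {c : Ctx G A} {M W W' : Subgroup A} {a b u : A}

/-- Elements conjugate modulo `V` have centralisers in `V` of the same size. -/
theorem card_cent_mod {V : Subgroup G} (hc : ∀ x ∈ V, ∀ y ∈ V, x * y = y * x) {f g n : G}
    (hn : n ∈ normalizer (V : Set G)) (he : n * f * n⁻¹ * g⁻¹ ∈ V) :
    Nat.card ↥(V ⊓ centralizer ({f} : Set G)) = Nat.card ↥(V ⊓ centralizer ({g} : Set G)) := by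
  have key : (V ⊓ centralizer ({f} : Set G)).map (MulAut.conj n).toMonoidHom =
      V ⊓ centralizer ({g} : Set G) := by
    ext y
    rw [Subgroup.mem_map_equiv, mem_inf, mem_inf, mem_centralizer_singleton_iff,
      mem_centralizer_singleton_iff, MulAut.conj_symm_apply]
    have hV : n⁻¹ * y * n ∈ V ↔ y ∈ V := by
      rw [mem_normalizer_iff.1 hn (n⁻¹ * y * n)]
      simp [mul_assoc]
    rw [hV]
    refine and_congr_right fun hy => ?_
    set v := n * f * n⁻¹ * g⁻¹ with hv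
    have hvy : v * y = y * v := hc v he y hy
    constructor
    · intro h
      calc y * g = y * (v⁻¹ * (n * f * n⁻¹)) := by rw [hv]; group
        _ = v⁻¹ * (y * (n * f * n⁻¹)) := by
          rw [← mul_assoc, ← (Commute.inv_left (show Commute v y from hvy)).eq, mul_assoc]
        _ = v⁻¹ * (n * ((n⁻¹ * y * n) * f) * n⁻¹) := by group
        _ = g * y := by rw [h, hv]; group
    · intro h
      calc n⁻¹ * y * n * f = n⁻¹ * (y * (v * g)) * n := by rw [hv]; group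
        _ = n⁻¹ * ((y * v) * g) * n := by group
        _ = n⁻¹ * ((v * y) * g) * n := by rw [hvy]
        _ = n⁻¹ * (v * (y * g)) * n := by group
        _ = f * (n⁻¹ * y * n) := by rw [h, hv]; group
  rw [← key, Subgroup.card_map_of_injective (MulAut.conj n).injective]

/-- The quotient by `V` is the Mathieu group. -/
theorem exists_mathieu_hom (h : Pkg c M W) (hF : HasFus c M) :
    ∃ Φ : ↥(normalizer (h.V : Set G)) →* ↥Cfsg.M24,
      Function.Surjective Φ ∧ ∀ x, Φ x = 1 ↔ (x : G) ∈ h.V := by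
  letI := h.commV
  obtain ⟨D, -, -⟩ := h.blocks hF
  obtain ⟨Ψ, -⟩ := recognise D.toPairs
  refine ⟨Ψ.toMonoidHom.comp h.conjV.rangeRestrict,
    Ψ.surjective.comp h.conjV.rangeRestrict_surjective, fun x => ?_⟩
  rw [MonoidHom.comp_apply, MulEquiv.coe_toMonoidHom, MulEquiv.map_eq_one_iff,
    ← MonoidHom.mem_ker, MonoidHom.ker_rangeRestrict]
  have hk : h.conjV.ker = h.V.subgroupOf (normalizer (h.V : Set G)) := by
    show h.V.normalizerMonoidHom.ker = _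
    rw [normalizerMonoidHom_ker, h.cent_V]
  rw [hk, mem_subgroupOf]

/-- The two classes of involutions modulo `V`. -/
theorem two_classes (h : Pkg c M W) (hF : HasFus c M) :
    ∀ f ∈ normalizer (h.V : Set G), ∀ g ∈ normalizer (h.V : Set G), f ∉ h.V → g ∉ h.V →
      f * f ∈ h.V → g * g ∈ h.V →
      Nat.card ↥(h.V ⊓ centralizer ({f} : Set G)) ≠ Nat.card ↥(h.V ⊓ centralizer ({g} : Set G)) →
      ∀ x ∈ normalizer (h.V : Set G), x ∉ h.V → x * x ∈ h.V →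
        ∃ k ∈ normalizer (h.V : Set G), k * x * k⁻¹ * f⁻¹ ∈ h.V ∨ k * x * k⁻¹ * g⁻¹ ∈ h.V := by
  intro f hf g hg hfV hgV hf2 hg2 hne x hx hxV hx2
  obtain ⟨Φ, hs, hker⟩ := exists_mathieu_hom h hF
  have hinv : ∀ y (hy : y ∈ normalizer (h.V : Set G)), y ∉ h.V → y * y ∈ h.V →
      orderOf ((Φ ⟨y, hy⟩ : ↥Cfsg.M24) : Equiv.Perm Cfsg.GolayPt) = 2 := by
    intro y hy hyV hy2
    refine orderOf_eq_prime ?_ fun e => hyV ((hker ⟨y, hy⟩).1 (Subtype.ext e))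
    have e : Φ (⟨y, hy⟩ * ⟨y, hy⟩) = 1 := (hker _).2 hy2
    rw [pow_two, ← Subgroup.coe_mul, ← map_mul, e]
    rfl
  obtain ⟨-, -, -, hclass⟩ := S5394.result
  have hconj : ∀ y z (hy : y ∈ normalizer (h.V : Set G)) (hz : z ∈ normalizer (h.V : Set G)),
      y ∉ h.V → y * y ∈ h.V → z ∉ h.V → z * z ∈ h.V →
      ((∀ p, ((Φ ⟨y, hy⟩ : ↥Cfsg.M24) : Equiv.Perm Cfsg.GolayPt) p ≠ p) ↔
        ∀ p, ((Φ ⟨z, hz⟩ : ↥Cfsg.M24) : Equiv.Perm Cfsg.GolayPt) p ≠ p) →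
      ∃ k ∈ normalizer (h.V : Set G), k * y * k⁻¹ * z⁻¹ ∈ h.V := by
    intro y z hy hz hyV hy2 hzV hz2 hiff
    obtain ⟨k, hk, e⟩ := hclass _ (Φ ⟨y, hy⟩).2 _ (Φ ⟨z, hz⟩).2 (hinv y hy hyV hy2)
      (hinv z hz hzV hz2) hiff
    obtain ⟨n, hn⟩ := hs ⟨k, hk⟩
    refine ⟨n, n.2, ?_⟩
    refine (hker (n * ⟨y, hy⟩ * n⁻¹ * ⟨z, hz⟩⁻¹)).1 ?_
    rw [map_mul, map_mul, map_mul, map_inv, map_inv, hn, mul_inv_eq_one]
    exact Subtype.ext e
  by_cases h1 : (∀ p, ((Φ ⟨x, hx⟩ : ↥Cfsg.M24) : Equiv.Perm Cfsg.GolayPt) p ≠ p) ↔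
      ∀ p, ((Φ ⟨f, hf⟩ : ↥Cfsg.M24) : Equiv.Perm Cfsg.GolayPt) p ≠ p
  · obtain ⟨k, hk, e⟩ := hconj x f hx hf hxV hx2 hfV hf2 h1
    exact ⟨k, hk, Or.inl e⟩
  by_cases h2 : (∀ p, ((Φ ⟨x, hx⟩ : ↥Cfsg.M24) : Equiv.Perm Cfsg.GolayPt) p ≠ p) ↔
      ∀ p, ((Φ ⟨g, hg⟩ : ↥Cfsg.M24) : Equiv.Perm Cfsg.GolayPt) p ≠ p
  · obtain ⟨k, hk, e⟩ := hconj x g hx hg hxV hx2 hgV hg2 h2
    exact ⟨k, hk, Or.inr e⟩
  obtain ⟨k, hk, e⟩ := hconj f g hf hg hfV hf2 hgV hg2 (by tauto)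
  exact absurd (card_cent_mod (fun p hp q hq => h.V_comm hp hq) hk e) hne

/-- Two hexad subgroups generating the inner part give subgroups `A₇` meeting in `⟨z⟩`. -/
theorem A7_inter (h : Pkg c M W) (h' : Pkg c M W') (hgen : M ≤ W ⊔ W') :
    h.A7 ⊓ h'.A7 ≤ zpowers c.z := by
  intro v hv
  obtain ⟨hv1, hv2⟩ := mem_inf.1 hv
  have hvE : v ∈ c.E := (mem_inf.1 hv1).1
  let K : Subgroup c.C := (centralizer ({v} : Set G)).subgroupOf c.C
  let ψ : c.C →* A := h.hc.prHom.comp (inclusion (inf_le_left : c.C ≤ c.H))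
  have hKW : ∀ {W₀ : Subgroup A} (h₀ : Pkg c M W₀), v ∈ h₀.A7 → W₀ ≤ K.map ψ := by
    intro W₀ h₀ hv₀ α hα
    obtain ⟨w, hw, rfl⟩ := h₀.E5_surj hα
    exact ⟨⟨w, hw.1⟩, mem_centralizer_singleton_iff.2 (h₀.E5_A7 hw hv₀), rfl⟩
  have hall : ∀ n : c.C, ∃ k ∈ K, ∀ m : c.C, n * k⁻¹ * m = m * (n * k⁻¹) := by
    intro n
    have hn : c.pr n ∈ K.map ψ :=
      sup_le (hKW h hv1) (hKW h' hv2) (hgen ((h.hc.mem_C_iff h.hd (c.C_le_Nh n.2)).1 n.2))
    obtain ⟨k, hk, e⟩ := hn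
    have e' : c.pr (k : G) = c.pr (n : G) := e
    refine ⟨k, hk, fun m => Subtype.ext (h.ker_central (n * k⁻¹).2 ?_ m.2)⟩
    rw [Subgroup.coe_mul, Subgroup.coe_inv, h.pr_mul_C n.2 (inv_mem k.2), h.pr_inv_C k.2, e',
      mul_inv_cancel]
  have hcomm : ⁅c.C, c.C⁆ ≤ centralizer ({v} : Set G) := by
    rw [commutator_le]
    intro x hx y hy
    obtain ⟨k, hk, hkc⟩ := hall ⟨x, hx⟩
    obtain ⟨l, hl, hlc⟩ := hall ⟨y, hy⟩
    have hx' : ∀ m ∈ c.C, x * (k : G)⁻¹ * m = m * (x * (k : G)⁻¹) := fun m hm =>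
      congrArg Subtype.val (hkc ⟨m, hm⟩)
    have hy' : ∀ m ∈ c.C, y * (l : G)⁻¹ * m = m * (y * (l : G)⁻¹) := fun m hm =>
      congrArg Subtype.val (hlc ⟨m, hm⟩)
    set z₁ := x * (k : G)⁻¹ with hz₁
    set z₂ := y * (l : G)⁻¹ with hz₂
    have ex : x = z₁ * k := by rw [hz₁]; group
    have ey : y = z₂ * l := by rw [hz₂]; group
    have hz₂C : z₂ ∈ c.C := mul_mem hy (inv_mem l.2)
    have e : ⁅x, y⁆ = ⁅(k : G), (l : G)⁆ := by
      rw [commutatorElement_def, commutatorElement_def, ex, ey]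
      calc z₁ * k * (z₂ * l) * (z₁ * k)⁻¹ * (z₂ * l)⁻¹
          = z₁ * (k * z₂) * (l * (k : G)⁻¹) * z₁⁻¹ * (l : G)⁻¹ * z₂⁻¹ := by group
        _ = z₁ * z₂ * (k * l * (k : G)⁻¹) * z₁⁻¹ * (l : G)⁻¹ * z₂⁻¹ := by
            rw [← hy' k k.2]; group
        _ = z₂ * (z₁ * (k * l * (k : G)⁻¹)) * z₁⁻¹ * (l : G)⁻¹ * z₂⁻¹ := by
            rw [hx' z₂ hz₂C]; group
        _ = z₂ * ((k : G) * l * (k : G)⁻¹ * (l : G)⁻¹) * z₂⁻¹ := by
            rw [hx' _ (mul_mem (mul_mem k.2 l.2) (inv_mem k.2))]; group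
        _ = (k : G) * l * (k : G)⁻¹ * (l : G)⁻¹ := by
            rw [hy' _ (mul_mem (mul_mem (mul_mem k.2 l.2) (inv_mem k.2)) (inv_mem l.2))]; group
    rw [e, commutatorElement_def]
    exact mul_mem (mul_mem (mul_mem (show (k : G) ∈ centralizer ({v} : Set G) from hk) hl)
      (inv_mem (show (k : G) ∈ centralizer ({v} : Set G) from hk))) (inv_mem hl)
  exact h.hc.fixP v hvE fun p hp =>
    mem_centralizer_singleton_iff.1 (hcomm (h.hc.P_comm hp))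

/-- The splitting data. -/
theorem splitData (h : Pkg c M W) (h' : Pkg c M W') (hS : SplitModel A M W W' a b u)
    (hF : HasFus c M) :
    SplitData h.hc M (normalizer (h.V : Set G)) h.V h.A7 h'.A7 h.E5 a b u where
  V_elem := h.elem_V
  A2_elem := by
    refine ⟨⟨⟨fun x y => Subtype.ext (h'.A7_comm x.2 y.2)⟩⟩, fun x hx => ?_⟩
    rw [pow_two]; exact h'.A7_sq hx
  L_norm := le_rfl
  V_L := le_normalizer
  E_L := fun e he => (mem_inf.1 (h.NH_eq ▸ h.E_le_NH he)).2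
  card_V := h.card_V
  card_A1 := h.card_A7
  card_A2 := h'.card_A7
  card_E1 := h.card_E5
  A1_eq := by rw [inf_comm, h.V_inf_E]
  A2_E := fun x hx => (mem_inf.1 hx).1
  A2_P := fun p hp => mem_normalizer_iff.2 fun x => by
    have hW : c.pr p ∈ normalizer (W' : Set A) := by rw [h.hc.pr_P hp]; exact one_mem _
    have hpC : p ∈ c.Nh := c.C_le_Nh (h.hc.P_le_C hp)
    refine ⟨fun hx => h'.A7_conj hpC hW hx, fun hx => ?_⟩
    have := h'.A7_conj (inv_mem hpC) (by rw [h.hc.pr_inv hpC.1]; exact inv_mem hW) hx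
    simpa [mul_assoc] using this
  z_A2 := h'.z_mem_A7
  z_E1 := h.z_mem_E5
  E1_V := h.E5_le_V
  E1_C := h.E5_le
  inter := A7_inter h h' hS.gen
  fixed := fun e he hne => by
    have h1 : c.pr e ≠ 1 := fun e1 => hne (h.hc.mem_zp.2 (h.E5_ker he e1))
    exact (h.hc.card_fix_inner h.hd (mem_inf.1 he.1).1 (h.hW.le he.2.1) h1
      (Or.inl (h.E5_sq he))).1
  fus := fun e he hne => h.E5_fus hF he fun e1 => hne (h.hc.mem_zp.2 (h.E5_ker he e1))
  aM := hS.aM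
  bM := hS.bM
  uM := hS.uM
  a2 := hS.a2
  b2 := hS.b2
  u2 := hS.u2
  ab4 := hS.ab4
  ua := hS.ua
  ub := hS.ub
  free := by
    rintro i hi j hj k hk ⟨w, hw, e⟩
    exact hS.free i hi j hj k hk (e ▸ hw.2.1)
  lift := by
    intro n hn hcl
    obtain ⟨hW, hW'⟩ := mem_inf.1 (hS.norm hcl)
    have hNH : n ∈ h.NH := ⟨hn.1, hW⟩
    have hn' : n⁻¹ ∈ c.Nh := inv_mem hn
    refine ⟨(mem_inf.1 (h.NH_eq ▸ hNH)).2, mem_normalizer_iff.2 fun x => ?_,
      mem_normalizer_iff.2 fun x => ?_⟩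
    · refine ⟨fun hx => h'.A7_conj hn hW' hx, fun hx => ?_⟩
      have := h'.A7_conj hn' (by rw [h.hc.pr_inv hn.1]; exact inv_mem hW') hx
      simpa [mul_assoc] using this
    · refine ⟨fun hx => h.E5_conj hn hW hx, fun hx => ?_⟩
      have := h.E5_conj hn' (by rw [h.hc.pr_inv hn.1]; exact inv_mem hW) hx
      simpa [mul_assoc] using this
  two_classes := two_classes h hF
  odd := by rw [h.card_normalizer hF]; norm_num

/-- The normaliser of `V` is a split extension of `V` by the Mathieu group. -/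
theorem exists_mathieu_complement (h : Pkg c M W) (h' : Pkg c M W')
    (hS : SplitModel A M W W' a b u) (hF : HasFus c M) :
    ∃ K : Subgroup G, K ≤ normalizer (h.V : Set G) ∧ K ⊓ h.V = ⊥ ∧
      h.V ⊔ K = normalizer (h.V : Set G) ∧ Cfsg.Spor.IsoM24 ↥K := by
  obtain ⟨K, hKL, hKV, hsup⟩ := (splitData h h' hS hF).exists_complement h.hd
  obtain ⟨Φ, hs, hker⟩ := exists_mathieu_hom h hF
  refine ⟨K, hKL, hKV, hsup, ⟨(MulEquiv.ofBijective (Φ.comp (inclusion hKL)) ⟨?_, ?_⟩)⟩⟩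
  · rw [injective_iff_map_eq_one]
    intro k hk
    have : (k : G) ∈ K ⊓ h.V := mem_inf.2 ⟨k.2, (hker _).1 hk⟩
    rw [hKV, mem_bot] at this
    exact Subtype.ext this
  · intro m
    obtain ⟨⟨x, hx⟩, rfl⟩ := hs m
    have hx' : x ∈ (↑(h.V ⊔ K) : Set G) := by rw [hsup]; exact hx
    rw [coe_mul_of_right_le_normalizer_left h.V K hKL, Set.mem_mul] at hx'
    obtain ⟨v, hv, k, hk, rfl⟩ := hx'
    refine ⟨⟨k, hk⟩, ?_⟩
    have e : (⟨v * k, hx⟩ : ↥(normalizer (h.V : Set G))) =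
        ⟨v, le_normalizer hv⟩ * ⟨k, hKL hk⟩ := rfl
    rw [e, map_mul, (hker ⟨v, le_normalizer hv⟩).2 hv, one_mul]
    rfl

end Cfsg.Agent.H38.JFour
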