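import Cfsg.Agent.H38.JFour.ZType
import Cfsg.Agent.H85.JFour.AutM22.SylowTwo

/-!
The facts `TModel` for an element of `V` outside the class of `z`.
-/

set_option autoImplicit false
set_option linter.style.haveILetI false

namespace Cfsg.Agent.H38.JFour

open Cfsg Cfsg.Agent.Golay Cfsg.Agent.H94.M24 Cfsg.Agent.H85.AutM22 Subgroup H43.JFour H98.JFour
  GolayTables
open scoped Pointwise

universe u v

variable {G : Type u} [Group G] [Finite G] {A : Type v} [Group A]
variable {c : Ctx G A} {M W : Subgroup A} {h : Pkg c M W}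

lemma pairS_check : ((List.range 24).all fun i => (List.range 24).all fun j => i == j ||
    (ev (pairS i j) && (!(pairS i j == pairS 23 0) || (i == 23 && j == 0) || (i == 0 && j == 23)))) = true ∧
    (repList.all fun T => app T 23 == 0 || (app T 23 == 23 && T == kT)) = true ∧
    (pureList.all fun u => ev u) = true := by
  decide +kernel

theorem fixed_mem_graph {gs : List ℕ} {s : ℕ} (hs : s ∈ fixedList gs) : (s, s) ∈ graphL gs := by
  obtain ⟨⟨a, b⟩, hq, rfl⟩ := List.mem_map.1 hs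
  obtain ⟨hq1, hq2⟩ := List.mem_filter.1 hq
  simp only [beq_iff_eq] at hq2
  exact hq2 ▸ hq1

theorem mem_imMask {gs : List ℕ} {s : ℕ} (hs : (imMask gs).testBit s = true) :
    ∃ q ∈ graphL gs, q.1 ^^^ q.2 = s := by
  rw [imMask, testBit_foldl_set, List.mem_map] at hs
  exact hs.resolve_left (by simp)

theorem filter_unique {α : Type*} {l : List α} {p : α → Bool} (hl : (l.filter p).length ≤ 1)
    {x y : α} (hx : x ∈ l) (hy : y ∈ l) (px : p x = true) (py : p y = true) : x = y := by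
  have h1 := List.mem_filter.2 ⟨hx, px⟩
  have h2 := List.mem_filter.2 ⟨hy, py⟩
  match hm : l.filter p, h1, h2, hl with
  | [a], h1, h2, _ =>
    simp only [List.mem_singleton] at h1 h2
    rw [h1, h2]
  | [], h1, _, _ => simp at h1
  | _ :: _ :: _, _, _, hl => simp at hl

/-- The facts on one outside involution. -/
structure OutFacts (z : G) (V : Subgroup G) (t : G) (Fix Swap : G → Prop) (x : G) : Prop where
  cover : ∃ a, TypeOne z V t a ∧ x ∈ Cfsg.twoCoreOfCentralizer a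
  two : ∃ b, TypeTwo z V t b ∧ x * b = b * x
  fix : Fix x → Pure z t x →
    (∀ a a', TypeOne z V t a → TypeOne z V t a' → x ∈ Cfsg.twoCoreOfCentralizer a →
      x ∈ Cfsg.twoCoreOfCentralizer a' → a = a') ∧
    ∀ a, TypeOne z V t a → x ∈ Cfsg.twoCoreOfCentralizer a →
      ∃ b ∈ V, IsConj z b ∧ IsConj z (a * b) ∧ b ≠ a ∧ x * b = b * x
  swap : Swap x → ∀ u, u ∈ V → u ≠ 1 → u ≠ t → Pure z t u → x * u ≠ u * x

namespace Setting

variable {K : Subgroup G} {t : h.V} (S : Setting h K t)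
include S

/-- The permutation fixes the first point of the pair. -/
def Fix (x : G) : Prop :=
  ∃ hx : x ∈ normalizer (h.V : Set G), ((S.Φ ⟨x, hx⟩ : ↥Cfsg.M24) : Equiv.Perm GolayPt) none = none

/-- The permutation moves the first point of the pair to the second. -/
def Swap (x : G) : Prop :=
  ∃ hx : x ∈ normalizer (h.V : Set G), ((S.Φ ⟨x, hx⟩ : ↥Cfsg.M24) : Equiv.Perm GolayPt) none = some 0

theorem comm_t_iff (n : ↥(normalizer (h.V : Set G))) :
    (n : G) * (t : G) = (t : G) * n ↔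
      ((S.Φ n : ↥Cfsg.M24) : Equiv.Perm GolayPt) ∈ pairGrp := by
  classical
  letI := h.commV
  set σ := ((S.Φ n : ↥Cfsg.M24) : Equiv.Perm GolayPt) with hσ
  have he := congrArg Subtype.val (S.D.equiv (h.conjV.rangeRestrict n) none (some 0))
  rw [S.D.t_eq, MonoidHom.coe_rangeRestrict, h.conjV_apply] at he
  constructor
  · intro hc
    rw [hc, mul_inv_cancel_right] at he
    have he' : S.D.g (σ none) * S.D.g (σ (some 0)) = t := Subtype.ext he.symm
    have hne : idx (σ none) ≠ idx (σ (some 0)) := fun e =>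
      Option.some_ne_none _ (σ.injective (idx_injective e)).symm
    have hchk := pairS_check.1
    simp only [List.all_eq_true, List.mem_range, Bool.or_eq_true, Bool.and_eq_true, beq_iff_eq,
      Bool.not_eq_true', beq_eq_false_iff_ne] at hchk
    obtain ⟨hev, hcase⟩ := (hchk _ (idx_lt (σ none)) _ (idx_lt (σ (some 0)))).resolve_left hne
    have hs : pairS (idx (σ none)) (idx (σ (some 0))) = pairS 23 0 :=
      S.D.φ_inj hev pure_check.2.2.2.2.2.1 (by
        rw [S.D.φ_pair (idx_lt _) (idx_lt _), pt_idx, pt_idx, S.D.φ_t]; exact he')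
    have hcase' : (σ none = none ∧ σ (some 0) = some 0) ∨ (σ none = some 0 ∧ σ (some 0) = none) := by
      have e23 : pt 23 = none := pt_values.1
      have e0 : pt 0 = some 0 := pt_values.2
      rcases (hcase.imp_left fun h' => h'.resolve_left fun e => e hs) with ⟨e1, e2⟩ | ⟨e1, e2⟩
      · exact Or.inl ⟨by rw [← pt_idx (σ none), e1, e23], by rw [← pt_idx (σ (some 0)), e2, e0]⟩
      · exact Or.inr ⟨by rw [← pt_idx (σ none), e1, e0], by rw [← pt_idx (σ (some 0)), e2, e23]⟩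
    rw [pairGrp_eq]
    refine mem_inf.2 ⟨(S.Φ n).2, MulAction.mem_stabilizer_iff.2 ?_⟩
    rw [Finset.smul_finset_insert, Finset.smul_finset_singleton, Equiv.Perm.smul_def,
      Equiv.Perm.smul_def]
    rcases hcase' with ⟨e1, e2⟩ | ⟨e1, e2⟩ <;> rw [e1, e2]
    exact Finset.pair_comm _ _
  · intro hp
    have hs : σ • ({none, some 0} : Finset GolayPt) = {none, some 0} := (pairGrp_eq.le hp).2
    have e : S.D.g (σ none) * S.D.g (σ (some 0)) = t := by
      have h1 : σ none ∈ ({none, some 0} : Finset GolayPt) := hs ▸ Finset.smul_mem_smul_finset (by simp)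
      have h2 : σ (some 0) ∈ ({none, some 0} : Finset GolayPt) :=
        hs ▸ Finset.smul_mem_smul_finset (by simp)
      simp only [Finset.mem_insert, Finset.mem_singleton] at h1 h2
      rcases h1 with e1 | e1 <;> rcases h2 with e2 | e2
      · exact absurd (σ.injective (e2.trans e1.symm)) (Option.some_ne_none _)
      · rw [e1, e2]; exact S.D.t_eq
      · rw [e1, e2, mul_comm]; exact S.D.t_eq
      · exact absurd (σ.injective (e2.trans e1.symm)) (Option.some_ne_none _)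
    exact mul_inv_eq_iff_eq_mul.1 (he.trans (congrArg Subtype.val e))

theorem fix_iff_inner {x : ↥(normalizer (h.V : Set G))}
    (hp : ((S.Φ x : ↥Cfsg.M24) : Equiv.Perm GolayPt) ∈ pairGrp) :
    S.Fix x ↔ (⟨_, hp⟩ : ↥pairGrp) ∈ innerGrp := by
  rw [mem_innerGrp]
  exact ⟨fun ⟨_, e⟩ => e, fun e => ⟨x.2, e⟩⟩

theorem fix_or_swap {x : G} (hx : x ∈ normalizer (h.V : Set G)) (hxt : x * t = t * x) :
    S.Fix x ∨ S.Swap x := by
  have hp := (S.comm_t_iff ⟨x, hx⟩).1 hxt
  have hs : _ • ({none, some 0} : Finset GolayPt) = {none, some 0} := (pairGrp_eq.le hp).2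
  have h1 : ((S.Φ ⟨x, hx⟩ : ↥Cfsg.M24) : Equiv.Perm GolayPt) none ∈
      ({none, some 0} : Finset GolayPt) := hs ▸ Finset.smul_mem_smul_finset (by simp)
  simp only [Finset.mem_insert, Finset.mem_singleton] at h1
  exact h1.imp (fun e => ⟨hx, e⟩) fun e => ⟨hx, e⟩

theorem not_both {x : G} (h1 : S.Fix x) (h2 : S.Swap x) : False := by
  obtain ⟨_, e1⟩ := h1
  obtain ⟨_, e2⟩ := h2
  exact Option.some_ne_none _ (e2.symm.trans e1)

theorem not_conj_z_duad {s : ℕ} (hs : ev s = true) (h0 : s ≠ 0) (hz : ¬ IsConj c.z (S.F s)) :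
    isDuad s = true := by
  rw [S.F_isConj hs] at hz
  simpa [isSext, hs, h0] using hz

theorem exists_pure {u : G} (hu : u ∈ h.V) (hu1 : u ≠ 1) (hut : u ≠ (t : G))
    (hp : Pure c.z (t : G) u) : ∃ s ∈ pureList, ev s = true ∧ S.F s = u := by
  obtain ⟨s, hs, rfl⟩ := S.exists_F hu
  have htS := pure_check.2.2.2.2.2.1
  have h1 := S.not_conj_z_duad hs (fun e => hu1 (by rw [e, S.F_zero])) hp.1
  have h2 := S.not_conj_z_duad (ev_xor hs htS)
    (fun e => hut (by rw [Nat.xor_eq_zero_iff.1 e, S.F_t])) (by rw [S.F_xor, S.F_t]; exact hp.2)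
  have hmem : s ∈ duadList := by
    obtain ⟨i, j, hij, hj, e⟩ := isDuad_iff.1 h1
    exact List.mem_flatMap.2 ⟨j, List.mem_range.2 hj, List.mem_map.2 ⟨i, List.mem_range.2 hij, e⟩⟩
  have h3 := List.all_eq_true.1 pure_check.1 s hmem
  simp only [h2, Bool.not_true, Bool.or_false, Bool.or_eq_true, beq_iff_eq,
    List.contains_iff_mem] at h3
  refine ⟨s, h3.resolve_left fun e => hut (by rw [e, S.F_t]), hs, rfl⟩

/-- The facts for an involution lying over one of the representatives. -/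
theorem rep_facts (hti : HexTI W) {T : ℕ} (hT : T ∈ repList) {x : G} (ho : Outside h.V (t : G) x)
    (hΦ : ((S.Φ ⟨x, ho.1⟩ : ↥Cfsg.M24) : Equiv.Perm GolayPt) = mkPerm T) :
    OutFacts c.z h.V (t : G) S.Fix S.Swap x := by
  obtain ⟨hxN, hxt, hxx, hxV⟩ := id ho
  have htest := List.all_eq_true.1 invTest_all T hT
  simp only [invTest, forceL_eq, forceN_eq, Bool.and_eq_true] at htest
  obtain ⟨hok, hev, htest⟩ := htest
  obtain ⟨v, hv, k, hk, rfl⟩ := S.hK.decomp hxN
  obtain ⟨s, hs, rfl⟩ := S.exists_F hv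
  have hkΦ : ((S.Φ ⟨k, S.hK.le hk⟩ : ↥Cfsg.M24) : Equiv.Perm GolayPt) = mkPerm T := by
    rw [← hΦ, show (⟨S.F s * k, hxN⟩ : ↥(normalizer (h.V : Set G))) =
      ⟨S.F s, le_normalizer hv⟩ * ⟨k, S.hK.le hk⟩ from rfl, map_mul,
      (S.Φ_ker ⟨S.F s, le_normalizer hv⟩).2 hv, one_mul]
  obtain ⟨hm, hgraph⟩ := S.maps_of_table (n := ⟨k, S.hK.le hk⟩) (ok_valid hok) hkΦ.symm hev
  set gs := linGens T with hgs
  -- the complement part is an involution fixing the syndrome
  have hkfix : k * S.F s * k⁻¹ = S.F s ∧ k * k = 1 := by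
    have hkv : k * S.F s * k⁻¹ ∈ h.V := (mem_normalizer_iff.1 (S.hK.le hk) _).1 hv
    obtain ⟨e1, e2⟩ := S.hK.unique (mul_mem hv hkv) (one_mem _) (mul_mem hk hk) (one_mem K)
      (by rw [one_mul, ← hxx]; group)
    refine ⟨?_, e2⟩
    calc k * S.F s * k⁻¹ = S.F s * S.F s * (k * S.F s * k⁻¹) := by rw [S.F_sq, one_mul]
      _ = S.F s := by rw [mul_assoc, e1, mul_one]
  have hkc : k * S.F s = S.F s * k := mul_inv_eq_iff_eq_mul.1 hkfix.1
  have hsfx : s ∈ fixedList gs := mem_fixedList hm.1 hs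
    (S.F_inj (hm.2 s hs).1 hs ((hm.2 s hs).2.symm.trans hkfix.1))
  have hfixb : ∀ b ∈ fixedList gs, ev b = true ∧ S.F s * k * S.F b = S.F b * (S.F s * k) := by
    intro b hb
    obtain ⟨hb1, hb2⟩ := hgraph _ (fixed_mem_graph hb)
    refine ⟨hb1, ?_⟩
    have hb3 : k * S.F b = S.F b * k := mul_inv_eq_iff_eq_mul.1 hb2
    rw [mul_assoc, hb3, ← mul_assoc, h.V_comm hv (S.F_mem b), mul_assoc]
  have hrec : ∀ r ∈ oset gs, (r.2.2).testBit s = true →
      S.F s * k ∈ Cfsg.twoCoreOfCentralizer (S.F r.1) := by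
    intro r hr hbit
    obtain ⟨hr1, hr2⟩ := List.mem_filter.1 hr
    exact mul_mem ((S.rec_mem hr1 hs).2 hbit)
      ((S.mem_core_iff (gs := gs) hr1 hk hm).2 hr2)
  have hrec' : ∀ a, TypeOne c.z h.V (t : G) a → S.F s * k ∈ Cfsg.twoCoreOfCentralizer a →
      ∃ r ∈ oset gs, r.2.2.testBit s = true ∧ S.F r.1 = a := by
    intro a ha hac
    obtain ⟨r, hr, rfl⟩ := S.exists_rec_of_typeOne ha
    obtain ⟨h1, h2⟩ := (S.core_split ha.1 ha.2.1 hv hk).1 hac
    exact ⟨r, List.mem_filter.2 ⟨hr, (S.mem_core_iff hr hk hm).1 h2⟩, (S.rec_mem hr hs).1 h1, rfl⟩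
  have hsplit : (fixedList gs).all (fun s => ((oset gs).map fun r => r.2.2).any fun m => m.testBit s) = true ∧
      (fixedList gs).any (fun b => isSext b && isSext (b ^^^ tS)) = true ∧
      (if app T 23 == 23 then
        ((fixedList gs).all fun s => (imMask gs).testBit s || (imMask gs).testBit (s ^^^ tS) ||
          decide ((((oset gs).map fun r => r.2.2).filter fun m => m.testBit s).length ≤ 1)) = true ∧
        (((oset gs).map fun r => r.1).all fun a =>
          (fixedList gs).any fun b => isSext b && isSext (a ^^^ b) && !(b == a)) = true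
      else (pureList.all fun u => !(lin gs u == u)) = true) := by
    by_cases hcase : (app T 23 == 23) = true <;>
      simp only [invTestAt, hcase, if_true, if_false, Bool.false_eq_true, Bool.and_eq_true] at htest ⊢
    · exact ⟨htest.1.1, htest.1.2, htest.2.1, htest.2.2⟩
    · exact ⟨htest.1.1, htest.1.2, htest.2⟩
  obtain ⟨hcov, htwo, hcase⟩ := hsplit
  have htype := List.all_eq_true.1 pairS_check.2.1 T hT
  simp only [Bool.or_eq_true, Bool.and_eq_true, beq_iff_eq] at htype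
  have hnone : ∀ i, app T 23 = i →
      ((S.Φ ⟨S.F s * k, hxN⟩ : ↥Cfsg.M24) : Equiv.Perm GolayPt) none = pt i := by
    intro i hi
    rw [hΦ, mkPerm_apply (ok_valid hok)]
    show pt (app T 23) = pt i
    rw [hi]
  refine ⟨?_, ?_, fun hF hP => ?_, fun hS => ?_⟩
  · have h1 := List.all_eq_true.1 hcov s hsfx
    rw [List.any_map, List.any_eq_true] at h1
    obtain ⟨r, hr, hbit⟩ := h1
    exact ⟨_, S.rec_typeOne (List.mem_filter.1 hr).1, hrec r hr hbit⟩
  · rw [List.any_eq_true] at htwo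
    obtain ⟨b, hb, hb2⟩ := htwo
    rw [Bool.and_eq_true] at hb2
    obtain ⟨hbe, hbc⟩ := hfixb b hb
    refine ⟨S.F b, ⟨S.F_mem b, (S.F_isConj hbe).2 hb2.1, ?_⟩, hbc⟩
    rw [← S.F_t, ← S.F_xor]
    exact (S.F_isConj (ev_xor hbe pure_check.2.2.2.2.2.1)).2 hb2.2
  · obtain ⟨h23, hTk⟩ : app T 23 = 23 ∧ T = kT := by
      refine htype.resolve_left fun e => ?_
      obtain ⟨_, eF⟩ := hF
      exact Option.some_ne_none _ ((pt_values.2.symm.trans (hnone 0 e).symm).trans eF)
    rw [if_pos (by simpa using h23)] at hcase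
    obtain ⟨hu1, hu2⟩ := hcase
    have hkz : IsConj c.z k := S.kT_isConj hti (k := ⟨k, S.hK.le hk⟩) hk (hTk ▸ hkΦ)
    have hnim : ∀ s', ev s' = true → (imMask gs).testBit s' = true → IsConj c.z (S.F s' * k) := by
      intro s' _ hbit
      obtain ⟨q, hq, rfl⟩ := mem_imMask hbit
      obtain ⟨hq1, hq2⟩ := hgraph q hq
      refine hkz.trans (isConj_iff.2 ⟨S.F q.1, ?_⟩)
      rw [S.F_xor, ← hq2, show (S.F q.1)⁻¹ = S.F q.1 from inv_eq_of_mul_eq_one_right (S.F_sq _)]
      group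
    have h1 := List.all_eq_true.1 hu1 s hsfx
    simp only [Bool.or_eq_true, decide_eq_true_eq] at h1
    have hle : ((((oset gs).map fun r => r.2.2).filter fun m => m.testBit s)).length ≤ 1 := by
      rcases h1 with (e | e) | e
      · exact absurd (hnim s hs e) hP.1
      · refine absurd (hnim _ (ev_xor hs pure_check.2.2.2.2.2.1) e) ?_
        rw [S.F_xor, S.F_t]
        have : k * (t : G) = (t : G) * k := by
          apply mul_left_cancel (a := S.F s)
          rw [← mul_assoc, hxt, ← mul_assoc, h.V_comm t.2 hv, mul_assoc]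
        rw [mul_assoc, ← this, ← mul_assoc]
        exact hP.2
      · exact e
    refine ⟨fun a a' ha ha' hca hca' => ?_, fun a ha hca => ?_⟩
    · obtain ⟨r, hr, hb, rfl⟩ := hrec' a ha hca
      obtain ⟨r', hr', hb', rfl⟩ := hrec' a' ha' hca'
      rw [List.filter_map, List.length_map] at hle
      rw [filter_unique hle hr hr' hb hb']
    · obtain ⟨r, hr, -, rfl⟩ := hrec' a ha hca
      have h2 := List.all_eq_true.1 hu2 r.1 (List.mem_map.2 ⟨r, hr, rfl⟩)
      rw [List.any_eq_true] at h2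
      obtain ⟨b, hb, hb2⟩ := h2
      simp only [Bool.and_eq_true, Bool.not_eq_true', beq_eq_false_iff_ne] at hb2
      obtain ⟨hbe, hbc⟩ := hfixb b hb
      have hre := (isSext_ev (recTest_spec (List.mem_filter.1 hr).1).1).1
      refine ⟨S.F b, S.F_mem b, (S.F_isConj hbe).2 hb2.1.1, ?_, fun e => hb2.2 (S.F_inj hbe hre e),
        hbc⟩
      rw [← S.F_xor]
      exact (S.F_isConj (ev_xor hre hbe)).2 hb2.1.2
  · intro u hu hu1 hut hup hxu
    have h0 : app T 23 = 0 := htype.resolve_right fun e => by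
      obtain ⟨_, eS⟩ := hS
      exact Option.some_ne_none _ ((eS.symm.trans (hnone 23 e.1)).trans pt_values.1)
    rw [if_neg (by simp [h0])] at hcase
    obtain ⟨w, hw, hwe, rfl⟩ := S.exists_pure hu hu1 hut hup
    have h1 := List.all_eq_true.1 hcase w hw
    simp only [Bool.not_eq_true', beq_eq_false_iff_ne] at h1
    refine h1 (S.F_inj (hm.2 w hwe).1 hwe ((hm.2 w hwe).2.symm.trans ?_))
    show k * S.F w * k⁻¹ = S.F w
    refine mul_inv_eq_iff_eq_mul.2 (mul_left_cancel (a := S.F s) ?_)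
    rw [← mul_assoc, hxu, ← mul_assoc, h.V_comm (S.F_mem w) hv, mul_assoc]

/-- An involution outside `V` lies over a representative, up to conjugation fixing `t`. -/
theorem exists_rep {x : G} (ho : Outside h.V (t : G) x) :
    ∃ n : ↥(normalizer (h.V : Set G)), (n : G) * t = t * n ∧ ∃ T ∈ repList,
      ((S.Φ (n⁻¹ * ⟨x, ho.1⟩ * n) : ↥Cfsg.M24) : Equiv.Perm GolayPt) = mkPerm T := by
  obtain ⟨hxN, hxt, hxx, hxV⟩ := id ho
  set X : ↥(normalizer (h.V : Set G)) := ⟨x, hxN⟩ with hX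
  set g : ↥pairGrp := ⟨_, (S.comm_t_iff X).1 hxt⟩ with hg
  have hg2 : g * g = 1 := Subtype.ext (by
    show ((S.Φ X : ↥Cfsg.M24) : Equiv.Perm GolayPt) * (S.Φ X : ↥Cfsg.M24) = 1
    rw [← Subgroup.coe_mul, ← map_mul, show X * X = 1 from Subtype.ext hxx, map_one]; rfl)
  have hg1 : g ≠ 1 := fun e => hxV ((S.Φ_ker X).1 (Subtype.ext (show ((S.Φ X : ↥Cfsg.M24) : Equiv.Perm GolayPt) = 1 from
    congrArg Subtype.val e)))
  have hgo : orderOf g = 2 := orderOf_eq_prime (by rw [pow_two]; exact hg2) hg1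
  obtain ⟨y, hy⟩ := exists_conj_le (B := zpowers g)
    (IsPGroup.of_card (n := 1) (by rw [Nat.card_zpowers, hgo, pow_one]))
  obtain ⟨u, hu, hue⟩ := mem_sylS.1 (hy ⟨g, mem_zpowers g, rfl⟩)
  have hgu := good_sList hu
  have hue' : el u = y * g * y⁻¹ := hue
  have hu2 : tblMul u u = idTblVal := (hgu.mul hgu).inj good_id (by
    rw [hgu.el_mul hgu, el_id, hue', show y * g * y⁻¹ * (y * g * y⁻¹) = y * (g * g) * y⁻¹ by group,
      hg2, mul_one, mul_inv_cancel])
  have hui : u ∈ invList := by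
    refine (invList_facts.2 u hu hu2).resolve_left fun e => hg1 ?_
    rw [e, el_id] at hue'
    calc g = y⁻¹ * (y * g * y⁻¹) * y := by group
      _ = 1 := by rw [← hue']; group
  obtain ⟨i, hi, hiu⟩ := List.getElem_of_mem hui
  have hrc := List.all_eq_true.1 repConj_all i (List.mem_range.2 hi)
  simp only [Bool.and_eq_true, List.contains_iff_mem] at hrc
  rw [List.getD_eq_getElem invList _ hi, hiu] at hrc
  obtain ⟨⟨hR, hC⟩, hcar⟩ := hrc
  generalize (repConj.getD i (0, 0)).1 = R at *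
  generalize (repConj.getD i (0, 0)).2 = C at *
  have htestR := List.all_eq_true.1 invTest_all R hR
  simp only [invTest, forceL_eq, Bool.and_eq_true] at htestR
  have hRg := good_ok htestR.1
  have hce := ((good_ok hC).carries_iff hRg hgu).1 hcar
  set w : ↥pairGrp := y⁻¹ * el C with hw
  obtain ⟨n, -, hn⟩ := S.exists_lift ⟨(w : Equiv.Perm GolayPt), stabGrp_le_M24 _ _ w.2⟩
  have hnv : ((S.Φ n : ↥Cfsg.M24) : Equiv.Perm GolayPt) = w := congrArg Subtype.val hn
  refine ⟨n, (S.comm_t_iff n).2 (hnv ▸ w.2), R, hR, ?_⟩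
  have e : w⁻¹ * g * w = el R := by
    rw [hw, mul_inv_rev, inv_inv, show (el C)⁻¹ * y * g * (y⁻¹ * el C) =
      (el C)⁻¹ * (y * g * y⁻¹) * el C by group, ← hue', ← hce]
    group
  rw [map_mul, map_mul, map_inv, Subgroup.coe_mul, Subgroup.coe_mul, Subgroup.coe_inv, hnv]
  exact (congrArg Subtype.val e).trans hRg.coe

/-- The facts for every involution of the centraliser outside `V`. -/
theorem out_facts (hti : HexTI W) {x : G} (ho : Outside h.V (t : G) x) :
    OutFacts c.z h.V (t : G) S.Fix S.Swap x := by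
  obtain ⟨n, hnt, T, hT, hΦ⟩ := S.exists_rep ho
  set X : ↥(normalizer (h.V : Set G)) := ⟨x, ho.1⟩ with hX
  have ho' : Outside h.V (t : G) ((n : G)⁻¹ * x * n) := by
    obtain ⟨hxN, hxt, hxx, hxV⟩ := ho
    refine ⟨mul_mem (mul_mem (inv_mem n.2) hxN) n.2, ?_, ?_, fun e => hxV ?_⟩
    · have e1 : (n : G)⁻¹ * t = t * (n : G)⁻¹ := Commute.inv_left (show Commute (n : G) t from hnt)
      rw [mul_assoc _ (n : G) (t : G), hnt, ← mul_assoc, mul_assoc _ x (t : G), hxt, ← mul_assoc, e1]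
      group
    · rw [show (n : G)⁻¹ * x * n * ((n : G)⁻¹ * x * n) = (n : G)⁻¹ * (x * x) * n by group, hxx]; group
    · have := (mem_normalizer_iff.1 n.2 _).1 e
      rwa [show (n : G) * ((n : G)⁻¹ * x * n) * (n : G)⁻¹ = x by group] at this
  have hf := S.rep_facts hti hT ho' hΦ
  have hxN := ho.1
  set y : G := (n : G)⁻¹ * x * n with hy
  have hxy : x = (n : G) * y * (n : G)⁻¹ := by rw [hy]; group
  have hnV : ∀ a ∈ h.V, (n : G) * a * (n : G)⁻¹ ∈ h.V := fun a ha =>
    (mem_normalizer_iff.1 n.2 a).1 ha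
  have hinvV : ∀ a ∈ h.V, (n : G)⁻¹ * a * n ∈ h.V := fun a ha => by
    have := (mem_normalizer_iff.1 (inv_mem n.2) a).1 ha
    rwa [inv_inv] at this
  have hcj : ∀ p : G, IsConj c.z ((n : G) * p * (n : G)⁻¹) ↔ IsConj c.z p := fun p => isConj_conj _
  have htn : (n : G) * t * (n : G)⁻¹ = t := mul_inv_eq_iff_eq_mul.2 hnt
  have hone : ∀ a, TypeOne c.z h.V (t : G) a → TypeOne c.z h.V (t : G) ((n : G)⁻¹ * a * n) := by
    rintro a ⟨h1, h2, h3⟩
    refine ⟨hinvV a h1, (hcj _).1 (by rwa [show (n : G) * ((n : G)⁻¹ * a * n) * (n : G)⁻¹ = a by group]),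
      fun e => h3 ?_⟩
    have := (hcj _).2 e
    rwa [show (n : G) * ((n : G)⁻¹ * a * n * t) * (n : G)⁻¹ = a * ((n : G) * t * (n : G)⁻¹) by group,
      htn] at this
  have hcore : ∀ a, (x ∈ Cfsg.twoCoreOfCentralizer a ↔
      y ∈ Cfsg.twoCoreOfCentralizer ((n : G)⁻¹ * a * n)) := fun a => by
    conv_lhs => rw [hxy, show a = (n : G) * ((n : G)⁻¹ * a * n) * (n : G)⁻¹ by group]
    rw [H98.JFour.twoCore_conj]
    exact Subgroup.mem_map_iff_mem (MulAut.conj (n : G)).injective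
  have hfix : S.Fix x ↔ S.Fix y := by
    have hpx := (S.comm_t_iff X).1 ho.2.1
    have hpy := (S.comm_t_iff (n⁻¹ * X * n)).1 ho'.2.1
    have hpn := (S.comm_t_iff n).1 hnt
    have e1 : S.Fix x ↔ _ := S.fix_iff_inner (x := X) hpx
    have e2 : S.Fix y ↔ _ := S.fix_iff_inner (x := n⁻¹ * X * n) hpy
    rw [e1, e2]
    have e : (⟨_, hpy⟩ : ↥pairGrp) = (⟨_, hpn⟩ : ↥pairGrp)⁻¹ * ⟨_, hpx⟩ * ⟨_, hpn⟩ :=
      Subtype.ext (congrArg (Subtype.val : ↥Cfsg.M24 → Equiv.Perm GolayPt)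
        (by rw [map_mul, map_mul, map_inv] : S.Φ (n⁻¹ * X * n) = (S.Φ n)⁻¹ * S.Φ X * S.Φ n) :)
    haveI hn' : (innerGrp).Normal := inferInstance
    rw [e]
    generalize (⟨_, hpx⟩ : ↥pairGrp) = p
    generalize (⟨_, hpn⟩ : ↥pairGrp) = q
    constructor
    · intro hm
      have := hn'.conj_mem _ hm q⁻¹
      rwa [inv_inv] at this
    · intro hm
      have := hn'.conj_mem _ hm q
      rwa [show q * (q⁻¹ * p * q) * q⁻¹ = p by group] at this
  constructor
  · obtain ⟨a, ⟨h1, h2, h3⟩, hc⟩ := hf.cover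
    refine ⟨(n : G) * a * (n : G)⁻¹, ⟨hnV a h1, (hcj a).2 h2, fun e => h3 ((hcj _).1 ?_)⟩,
      (hcore _).2 ?_⟩
    · rw [show (n : G) * (a * t) * (n : G)⁻¹ = (n : G) * a * (n : G)⁻¹ * ((n : G) * t * (n : G)⁻¹) by group,
        htn]
      exact e
    · rwa [show (n : G)⁻¹ * ((n : G) * a * (n : G)⁻¹) * n = a by group]
  · obtain ⟨b, ⟨h1, h2, h3⟩, hc⟩ := hf.two
    refine ⟨(n : G) * b * (n : G)⁻¹, ⟨hnV b h1, (hcj b).2 h2, ?_⟩, ?_⟩
    · have := (hcj _).2 h3
      rwa [show (n : G) * (b * t) * (n : G)⁻¹ = (n : G) * b * (n : G)⁻¹ * ((n : G) * t * (n : G)⁻¹) by group,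
        htn] at this
    · rw [hxy]
      calc (n : G) * y * (n : G)⁻¹ * ((n : G) * b * (n : G)⁻¹) = (n : G) * (y * b) * (n : G)⁻¹ := by group
        _ = _ := by rw [hc]; group
  · intro hF hP
    have hP' : Pure c.z (t : G) y := by
      refine ⟨fun e => hP.1 (hxy ▸ (hcj y).2 e), fun e => hP.2 ?_⟩
      have := (hcj _).2 e
      rwa [show (n : G) * (y * t) * (n : G)⁻¹ = (n : G) * y * (n : G)⁻¹ * ((n : G) * t * (n : G)⁻¹) by group,
        htn, ← hxy] at this
    obtain ⟨hu, hs⟩ := hf.fix (hfix.1 hF) hP'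
    refine ⟨fun a a' ha ha' hc hc' => ?_, fun a ha hc => ?_⟩
    · have := hu _ _ (hone a ha) (hone a' ha') ((hcore a).1 hc) ((hcore a').1 hc')
      exact mul_left_cancel (mul_right_cancel this)
    · obtain ⟨b, h1, h2, h3, h4, h5⟩ := hs _ (hone a ha) ((hcore a).1 hc)
      refine ⟨(n : G) * b * (n : G)⁻¹, hnV b h1, (hcj b).2 h2, ?_, fun e => h4 ?_, ?_⟩
      · have := (hcj _).2 h3
        rwa [show (n : G) * ((n : G)⁻¹ * a * n * b) * (n : G)⁻¹ = a * ((n : G) * b * (n : G)⁻¹) by group]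
          at this
      · rw [← e]; group
      · rw [hxy]
        calc (n : G) * y * (n : G)⁻¹ * ((n : G) * b * (n : G)⁻¹) = (n : G) * (y * b) * (n : G)⁻¹ := by group
          _ = _ := by rw [h5]; group
  · intro hS u hu hu1 hut hP hxu
    have hSy : S.Swap y := (S.fix_or_swap ho'.1 ho'.2.1).resolve_left fun e =>
      S.not_both (hfix.2 e) hS
    have hu' : (n : G) * ((n : G)⁻¹ * u * n) * (n : G)⁻¹ = u := by group
    refine hf.swap hSy ((n : G)⁻¹ * u * n) (hinvV u hu) (fun e => hu1 ?_) (fun e => hut ?_)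
      ⟨fun e => hP.1 (hu' ▸ (hcj _).2 e), fun e => hP.2 ?_⟩ ?_
    · rw [← hu', e]; group
    · rw [← hu', e, htn]
    · have := (hcj _).2 e
      rwa [show (n : G) * ((n : G)⁻¹ * u * n * t) * (n : G)⁻¹ = u * ((n : G) * t * (n : G)⁻¹) by group,
        htn] at this
    · rw [hy]
      calc (n : G)⁻¹ * x * n * ((n : G)⁻¹ * u * n) = (n : G)⁻¹ * (x * u) * n := by group
        _ = _ := by rw [hxu]; group

/-- The facts read off from the model. -/
theorem tmodel (hti : HexTI W) : TModel c.z h.V (t : G) S.Fix S.Swap := by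
  obtain ⟨-, hpd, hp8, hp1, hp2, htS, hne, hany⟩ := pure_check
  constructor
  · exact fun x ho => (S.out_facts hti ho).cover
  · exact fun x ho => (S.out_facts hti ho).two
  · obtain ⟨r, l, e⟩ := List.exists_cons_of_ne_nil hne
    exact ⟨_, S.rec_typeOne (r := r) (by rw [e]; exact List.mem_cons_self)⟩
  · rw [List.any_eq_true] at hany
    obtain ⟨b, -, hb⟩ := hany
    rw [Bool.and_eq_true] at hb
    have hbe := (isSext_ev hb.1).1
    refine ⟨S.F b, S.F_mem b, (S.F_isConj hbe).2 hb.1, ?_⟩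
    rw [← S.F_t, ← S.F_xor]
    exact (S.F_isConj (ev_xor hbe htS)).2 hb.2
  · exact fun x ho _ => S.fix_or_swap ho.1 ho.2.1
  · rintro x y ⟨hxN, -, hxx, -⟩ ⟨hyN, hyt, -, -⟩ - - ⟨_, ex⟩ ⟨_, ey⟩ ⟨hxy, exy⟩
    have e : S.Φ ⟨x * y, hxy⟩ = S.Φ ⟨x, hxN⟩ * S.Φ ⟨y, hyN⟩ := by rw [← map_mul]; rfl
    rw [e, Subgroup.coe_mul, Equiv.Perm.mul_apply, ey] at exy
    exact Option.some_ne_none _ ((Equiv.injective _) (exy.trans ex.symm))
  · exact fun x u ho hS hu hu1 hut hP => (S.out_facts hti ho).swap hS u hu hu1 hut hP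
  · intro u w hu hw hu1 hut hw1 hwt hwu hwut hPu hPw hP
    obtain ⟨a, ha, hae, rfl⟩ := S.exists_pure hu hu1 hut hPu
    obtain ⟨b, hb, hbe, rfl⟩ := S.exists_pure hw hw1 hwt hPw
    have h1 := List.all_eq_true.1 (List.all_eq_true.1 hp8 a ha) b hb
    simp only [Bool.or_eq_true, beq_iff_eq] at h1
    rcases h1 with ((e | e) | e) | e
    · exact hwu (by rw [e])
    · exact hwut (by rw [e, S.F_xor, S.F_t])
    · refine hP.1 ?_
      rw [← S.F_xor]
      exact (S.F_isConj (ev_xor hae hbe)).2 e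
    · refine hP.2 ?_
      rw [← S.F_xor, ← S.F_t, ← S.F_xor]
      exact (S.F_isConj (ev_xor (ev_xor hae hbe) htS)).2 e
  · intro u hu hu1 hut hPu
    obtain ⟨a, ha, hae, rfl⟩ := S.exists_pure hu hu1 hut hPu
    have h1 := List.all_eq_true.1 hp1 a ha
    rw [List.any_eq_true] at h1
    obtain ⟨r, hr, h2⟩ := h1
    simp only [Bool.and_eq_true, Bool.not_eq_true'] at h2
    have hre := (isSext_ev (recTest_spec hr).1).1
    refine ⟨_, S.rec_typeOne hr, fun e => ?_, fun e => ?_⟩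
    · rw [← S.F_xor, S.F_isConj (ev_xor hre hae), h2.1] at e
      exact Bool.noConfusion e
    · rw [← S.F_t, ← S.F_xor, ← S.F_xor, S.F_isConj (ev_xor hre (ev_xor hae htS)), h2.2] at e
      exact Bool.noConfusion e
  · intro u hu hu1 hut hPu
    obtain ⟨a, ha, hae, rfl⟩ := S.exists_pure hu hu1 hut hPu
    have h1 := List.all_eq_true.1 hp2 a ha
    rw [List.any_eq_true] at h1
    obtain ⟨b, -, h2⟩ := h1
    simp only [Bool.and_eq_true, Bool.or_eq_true, Bool.not_eq_true'] at h2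
    obtain ⟨⟨⟨hb1, hb2⟩, ha1⟩, ha2⟩ := h2
    have hbe := (isSext_ev hb1).1
    refine ⟨S.F b, ⟨S.F_mem b, (S.F_isConj hbe).2 hb1, by
      rw [← S.F_t, ← S.F_xor]; exact (S.F_isConj (ev_xor hbe htS)).2 hb2⟩, ?_⟩
    have key : ∀ p : ℕ, ev p = true → (isSext (b ^^^ p) = false ∨ isSext (b ^^^ p ^^^ tS) = true) →
        IsConj c.z (S.F b * S.F p) → IsConj c.z (S.F b * S.F p * t) := by
      intro p hp hor e
      rw [← S.F_xor, S.F_isConj (ev_xor hbe hp)] at e
      rw [← S.F_xor, ← S.F_t, ← S.F_xor]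
      exact (S.F_isConj (ev_xor (ev_xor hbe hp) htS)).2
        (hor.resolve_left fun e' => by rw [e] at e'; exact Bool.noConfusion e')
    rintro π (rfl | hπ)
    · exact key a hae ha1
    · rw [Set.mem_singleton_iff] at hπ
      rw [hπ, ← S.F_t, ← S.F_xor, S.F_t]
      exact key _ (ev_xor hae htS) ha2
  · exact fun x a a' ho hF hP ha ha' hc hc' => ((S.out_facts hti ho).fix hF hP).1 a a' ha ha' hc hc'
  · exact fun x a ho hF hP ha hc => ((S.out_facts hti ho).fix hF hP).2 a ha hc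

end Setting

/-- `TModel` for every element of `V` outside the class of `z`, given a complement. -/
theorem exists_tmodel (h : Pkg c M W) (hF : HasFus c M) (hE : IsCore c) (hti : HexTI W) {K : Subgroup G}
    (hK : Compl h K) {t : G} (htV : t ∈ h.V) (ht1 : t ≠ 1) (htz : ¬ IsConj c.z t) :
    ∃ Fix Swap : G → Prop, TModel c.z h.V t Fix Swap := by
  have htr : t ∈ h.rest := ⟨⟨htV, ht1⟩, fun e => htz (h.zOrb_isConj e)⟩
  obtain ⟨D⟩ := exists_dictOf h hF (t := ⟨t, htV⟩) htr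
  exact ⟨_, _, (Setting.mk (K := K) hF hE hK htr D).tmodel hti⟩

end Cfsg.Agent.H38.JFour
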