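import Cfsg.Agent.H38.JFour.Checks

/-!
Kernel checks on the conjugates of one involution over a four-point syndrome.
-/

set_option autoImplicit false

namespace Cfsg.Agent.H38.JFour

open Cfsg.Agent.Golay Cfsg.Agent.H94.M24 Cfsg.Agent.H85.AutM22 GolayTables

/-- The record used. -/
def recZ : ℕ × List ℕ × ℕ := sextTab.getD recIdx (0, [], 0)

/-- The commutators. -/
def imList : List ℕ := uList.map fun u => u ^^^ lin (linGens kT) u

/-- The values attached to a group: one translate of the commutators, then three. -/
def groupVals (ss : List ℕ) : List ℕ :=
  (forceL (imList) fun im => forceL (linGens (ss.getD 0 0)) fun g => im.map (lin g)) ++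
    ss.flatMap fun σ => forceL (imList) fun im => forceL (linGens σ) fun g =>
      im.map fun i => lin g (vS ^^^ i)

lemma zBase_check :
    ok kT = true ∧ tblMul kT kT = idTblVal ∧ app kT 23 = 23 ∧ app kT 0 = 0 ∧ kT ≠ idTblVal ∧
    recIdx < sextTab.length ∧ (linGens kT).all ev = true ∧ inO (linGens kT) recZ = true ∧
    ev vS = true ∧ lin (linGens kT) vS = vS ∧ recZ.2.2.testBit vS = true ∧ uList.all ev = true ∧
    imgTab.length = 45 ∧ conjTab.length = 45 ∧ imgTab.Nodup ∧
    (imgTab.all fun k => canonT k && inM24 k) = true := by
  decide +kernel

/-- The conditions on one group. -/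
def groupTest (j : ℕ) : Bool :=
  decide ((conjTab.getD j []).length = 3) &&
  ((conjTab.getD j []).all fun σ => inM24 σ && (tblMul σ kT == tblMul (imgTab.getD j 0) σ) &&
    forceL (linGens σ) fun g => g.all ev && lin g recZ.1 == recZ.1) &&
  forceL (groupVals (conjTab.getD j [])) fun vs => decide (vs.length = 64) && decide vs.Nodup

lemma groups_check0 : ((List.range 45).take 15).all groupTest = true := by decide +kernel

lemma groups_check1 : (((List.range 45).drop 15).take 15).all groupTest = true := by decide +kernel

lemma groups_check2 : ((List.range 45).drop 30).all groupTest = true := by decide +kernel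

lemma groups_check : (List.range 45).all groupTest = true := by
  have e : List.range 45 = (List.range 45).take 15 ++ (((List.range 45).drop 15).take 15 ++
      (List.range 45).drop 30) := by decide +kernel
  rw [e, List.all_append, List.all_append, groups_check0, groups_check1, groups_check2]
  rfl

end Cfsg.Agent.H38.JFour
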