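import Cfsg.Agent.H98.JFour.FixPoint
import Cfsg.Agent.H43.J4.Orbit
import Cfsg.Agent.H98.JFour.Reach

/-!
The two classes of involutions in the `2`-core of the centraliser of `z`.
-/

set_option autoImplicit false
set_option linter.style.haveILetI false

namespace Cfsg.Agent.H38.JFour

open Subgroup H43.JFour H98.JFour

universe u v

variable {G : Type u} [Group G] [Finite G] {A : Type v} [Group A]
variable {c : Ctx G A} {M W : Subgroup A}

/-- Among the involutions of `E` other than `z`, 1386 are conjugate to `z` and 2772 are not. -/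
theorem sing_count (h : Pkg c M W) (hF : HasFus c M) (hti : HexTI W) :
    Set.ncard {w ∈ c.Sing | IsConj c.z w} = 1386 ∧ Set.ncard {w ∈ c.Sing | ¬ IsConj c.z w} = 2772 := by
  classical
  obtain ⟨e, he, hez, hcj, -⟩ := id hF
  obtain ⟨g, rfl⟩ := isConj_iff.1 hcj
  have π : Ctx.Duo c (c.conj g) := ⟨h.hc, h.hc.conj g, he, hez⟩
  obtain ⟨xt, pt, ht⟩ := h.hc.exists_trip h.hd
  have horb : (Ctx.Duo.Orb c (c.conj g)).ncard = 1386 := by
    rw [π.ncard_orb h.hd, (π.main h.hd ht).1, h.hd.R_index _ ((π.symm h.hd).isR h.hd)]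
  obtain ⟨t, ht'⟩ := Set.nonempty_of_ncard_ne_zero (s := h.fib h.rest 1)
    (by rw [(h.rest_A7 hF).1]; norm_num)
  have htA : t ∈ h.A7 := h.mem_A7_of_pr (h.rest_inv.sub ht'.1) ht'.2
  have htz : ¬ IsConj c.z t := fun e => ht'.1.2 (h.fusion (h.A7_le_V htA) e)
  have hOt : (conjSet c.H t).ncard = 2772 := by
    have h1 := conjSet_card c.H t
    have e : c.H ⊓ centralizer ({t} : Set G) = h.NH ⊓ centralizer ({t} : Set G) :=
      le_antisymm (le_inf (h.cent_rest_le hF hti ht'.1) inf_le_right)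
        (inf_le_inf (fun n hn => hn.1) le_rfl)
    rw [e, h.card_cent_NH hF ht', h.hc.card_H, h.hd.card] at h1
    omega
  have hOtz : ∀ w ∈ conjSet c.H t, ¬ IsConj c.z w := by
    rintro _ ⟨n, hn, rfl⟩ e
    exact htz (e.trans (isConj_iff.2 ⟨n⁻¹, by group⟩))
  have hOtsub : conjSet c.H t ⊆ {w ∈ c.Sing | ¬ IsConj c.z w} := by
    intro w hw
    refine ⟨?_, hOtz w hw⟩
    obtain ⟨n, hn, rfl⟩ := hw
    refine ⟨h.hc.conjE hn (mem_inf.1 htA).1, ?_, fun e => ht'.1.1.2 ?_, fun e => htz ?_⟩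
    · rw [show n * t * n⁻¹ * (n * t * n⁻¹) = n * (t * t) * n⁻¹ by group, h.A7_sq htA]; group
    · rw [mul_inv_eq_one] at e; exact mul_eq_left.1 e
    · rw [← e]; exact isConj_iff.2 ⟨n⁻¹, by group⟩
  have horbsub : Ctx.Duo.Orb c (c.conj g) ⊆ {w ∈ c.Sing | IsConj c.z w} := by
    intro w hw
    refine ⟨π.orb_sing hw, ?_⟩
    obtain ⟨m, hm, rfl⟩ := hw
    exact (isConj_iff.2 ⟨g, rfl⟩ : IsConj c.z (g * c.z * g⁻¹)).trans (isConj_iff.2 ⟨m, rfl⟩)
  have hu : {w ∈ c.Sing | IsConj c.z w} ∪ {w ∈ c.Sing | ¬ IsConj c.z w} = c.Sing := by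
    ext w
    simp only [Set.mem_union, Set.mem_setOf_eq]
    tauto
  have hdisj : Disjoint {w ∈ c.Sing | IsConj c.z w} {w ∈ c.Sing | ¬ IsConj c.z w} :=
    Set.disjoint_left.2 fun w h1 h2 => h2.2 h1.2
  have hsum := Set.ncard_union_eq hdisj (Set.toFinite _) (Set.toFinite _)
  rw [hu, h.hc.ncard_sing] at hsum
  have h1 := Set.ncard_le_ncard horbsub (Set.toFinite _)
  have h2 := Set.ncard_le_ncard hOtsub (Set.toFinite _)
  rw [horb] at h1
  rw [hOt] at h2
  omega

/-- The same count at any conjugate of `z`. -/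
theorem core_count (h : Pkg c M W) (hF : HasFus c M) (hti : HexTI W) (hE : IsCore c) {a : G}
    (ha : IsConj c.z a) {l : List G} (hn : l.Nodup)
    (hl : ∀ x ∈ l, x ∈ Cfsg.twoCoreOfCentralizer a ∧ x * x = 1 ∧ x ≠ 1 ∧ x ≠ a) :
    ((∀ x ∈ l, IsConj c.z x) → l.length ≤ 1386) ∧ ((∀ x ∈ l, ¬ IsConj c.z x) → l.length ≤ 2772) := by
  classical
  obtain ⟨n, rfl⟩ := isConj_iff.1 ha
  obtain ⟨c1, c2⟩ := sing_count h hF hti
  set f : G → G := fun x => n⁻¹ * x * n with hf
  have hinj : Function.Injective f := fun x y e => mul_left_cancel (mul_right_cancel e)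
  have hcl : (l.toFinset.image f : Set G).ncard = l.length := by
    rw [Set.ncard_coe_finset, Finset.card_image_of_injective _ hinj, List.toFinset_card_of_nodup hn]
  have hcj : ∀ x, IsConj c.z (f x) ↔ IsConj c.z x := fun x =>
    ⟨fun e => e.trans (isConj_iff.2 ⟨n, by simp only [hf]; group⟩),
      fun e => e.trans (isConj_iff.2 ⟨n⁻¹, by simp only [hf]; group⟩)⟩
  have hsub : ∀ x ∈ l, f x ∈ c.Sing := by
    intro x hx
    obtain ⟨h1, h2, h3, h4⟩ := hl x hx
    refine ⟨?_, ?_, fun e => h3 ?_, fun e => h4 ?_⟩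
    · rw [H98.JFour.twoCore_conj, ← hE, Ctx.mem_conj_map] at h1
      exact h1
    · show n⁻¹ * x * n * (n⁻¹ * x * n) = 1
      rw [show n⁻¹ * x * n * (n⁻¹ * x * n) = n⁻¹ * (x * x) * n by group, h2]; group
    · rw [show x = n * f x * n⁻¹ by simp only [hf]; group, e]; group
    · rw [show x = n * f x * n⁻¹ by simp only [hf]; group, e]
  constructor
  · intro hz
    rw [← hcl, ← c1]
    refine Set.ncard_le_ncard (fun y hy => ?_) (Set.toFinite _)
    rw [Finset.mem_coe, Finset.mem_image] at hy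
    obtain ⟨x, hx, rfl⟩ := hy
    exact ⟨hsub x (List.mem_toFinset.1 hx), (hcj x).2 (hz x (List.mem_toFinset.1 hx))⟩
  · intro hz
    rw [← hcl, ← c2]
    refine Set.ncard_le_ncard (fun y hy => ?_) (Set.toFinite _)
    rw [Finset.mem_coe, Finset.mem_image] at hy
    obtain ⟨x, hx, rfl⟩ := hy
    exact ⟨hsub x (List.mem_toFinset.1 hx), fun e => hz x (List.mem_toFinset.1 hx) ((hcj x).1 e)⟩

end Cfsg.Agent.H38.JFour
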