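import Cfsg.Agent.H38.JFour.Records
import Cfsg.Agent.H38.JFour.ZCheck
import Cfsg.Agent.H38.JFour.ZCount

/-!
Elements of the complement fixing eight points are conjugate to `z`.
-/

set_option autoImplicit false
set_option linter.style.haveILetI false

namespace Cfsg.Agent.H38.JFour

open Cfsg Cfsg.Agent.Golay Cfsg.Agent.H94.M24 Cfsg.Agent.H85.AutM22 Subgroup H43.JFour H98.JFour
  GolayTables

universe u v

variable {G : Type u} [Group G] [Finite G] {A : Type v} [Group A]
variable {c : Ctx G A} {M W : Subgroup A} {h : Pkg c M W}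

theorem conj_core {g a p : G} (hga : g * a * g⁻¹ = a) (hp : p ∈ Cfsg.twoCoreOfCentralizer a) :
    g * p * g⁻¹ ∈ Cfsg.twoCoreOfCentralizer a := by
  have e := H98.JFour.twoCore_conj (G := G) g a
  rw [hga] at e
  rw [e]
  exact ⟨p, hp, rfl⟩

theorem canon_inj {S T : ℕ} (hS : canonT S = true) (hT : canonT T = true)
    (e : mkPerm S = mkPerm T) : S = T := by
  rw [← tblOf_mkPerm hS, ← tblOf_mkPerm hT, e]

theorem getD_mem {α : Type*} {l : List α} {i : ℕ} (d : α) (hi : i < l.length) : l.getD i d ∈ l := by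
  rw [List.getD_eq_getElem _ _ hi]; exact List.getElem_mem _

theorem length_flatMap_const {α β : Type*} {n : ℕ} {f : α → List β} :
    ∀ l : List α, (∀ x ∈ l, (f x).length = n) → (l.flatMap f).length = l.length * n
  | [], _ => by simp
  | a :: l, hl => by
    rw [List.flatMap_cons, List.length_append, hl a List.mem_cons_self,
      length_flatMap_const l fun x hx => hl x (List.mem_cons_of_mem _ hx), List.length_cons, Nat.succ_mul,
      Nat.add_comm]

/-- The first values of a group. -/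
@[irreducible] def valsA (j : ℕ) : List ℕ :=
  imList.map (lin (linGens ((conjTab.getD j []).getD 0 0)))

/-- The other values of a group. -/
@[irreducible] def valsB (j : ℕ) : List ℕ :=
  (conjTab.getD j []).flatMap fun σ => imList.map fun i => lin (linGens σ) (vS ^^^ i)

theorem valsA_def (j : ℕ) :
    valsA j = imList.map (lin (linGens ((conjTab.getD j []).getD 0 0))) := by rw [valsA]

theorem valsB_def (j : ℕ) : valsB j =
    (conjTab.getD j []).flatMap fun σ => imList.map fun i => lin (linGens σ) (vS ^^^ i) := by rw [valsB]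

theorem groupVals_eq (j : ℕ) : groupVals (conjTab.getD j []) = valsA j ++ valsB j := by
  rw [valsA_def, valsB_def, groupVals, forceL_eq, forceL_eq]
  simp only [forceL_eq]

theorem group_facts {j : ℕ} (hj : j < 45) :
    (conjTab.getD j []).length = 3 ∧
    (∀ σ ∈ conjTab.getD j [], inM24 σ = true ∧ tblMul σ kT = tblMul (imgTab.getD j 0) σ ∧
      (linGens σ).all ev = true ∧ lin (linGens σ) recZ.1 = recZ.1) ∧
    (valsA j ++ valsB j).Nodup := by
  have hg := List.all_eq_true.1 groups_check j (List.mem_range.2 hj)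
  rw [groupTest, forceL_eq] at hg
  simp only [Bool.and_eq_true, decide_eq_true_eq] at hg
  obtain ⟨⟨h1, h2⟩, -, h3⟩ := hg
  refine ⟨h1, fun σ hσ => ?_, groupVals_eq j ▸ h3⟩
  have h4 := List.all_eq_true.1 h2 σ hσ
  rw [forceL_eq] at h4
  simp only [Bool.and_eq_true, beq_iff_eq] at h4
  exact ⟨h4.1.1, h4.1.2, h4.2.1, h4.2.2⟩

namespace Setting

variable {K : Subgroup G} {t : h.V} (S : Setting h K t)
include S

theorem lift_table {T : ℕ} (hT : inM24 T = true) :
    ∃ n : ↥(normalizer (h.V : Set G)), (n : G) ∈ K ∧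
      ((S.Φ n : ↥Cfsg.M24) : Equiv.Perm GolayPt) = mkPerm T := by
  obtain ⟨n, hn, e⟩ := S.exists_lift ⟨mkPerm T, mem_M24_of_inM24 hT⟩
  exact ⟨n, hn, congrArg Subtype.val e⟩

/-- The element of the base table is conjugate to `z`. -/
theorem kT_isConj (hti : HexTI W) {k : ↥(normalizer (h.V : Set G))} (hk : (k : G) ∈ K)
    (hΦ : ((S.Φ k : ↥Cfsg.M24) : Equiv.Perm GolayPt) = mkPerm kT) : IsConj c.z (k : G) := by
  classical
  obtain ⟨hok, hsq, -, -, hne, hidx, hev, hinO, hvs, hvfix, hvbit, hu, hil, hcl, hnd, himg⟩ :=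
    zBase_check
  have hv := ok_valid hok
  have hm := (S.maps_of_table hv hΦ.symm hev).1
  have hr : recZ ∈ sextTab := by
    rw [recZ, List.getD_eq_getElem _ _ hidx]; exact List.getElem_mem _
  obtain ⟨haz, -, -⟩ := S.rec_core hr
  have hwV : S.F vS ∈ h.V := S.F_mem vS
  have hkc : (k : G) ∈ Cfsg.twoCoreOfCentralizer (S.F recZ.1) := (S.mem_core_iff hr hk hm).2 hinO
  have hkk : (k : G) * (k : G) = 1 := by
    have e : k * k = 1 := S.Φ_inj_K (mul_mem hk hk) (one_mem K) (Subtype.ext (by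
      rw [map_mul, map_one, Subgroup.coe_mul, hΦ, ← (tblMul_spec hv hv).2, hsq, idTblVal_spec.2]
      rfl))
    exact congrArg Subtype.val e
  have hk1 : (k : G) ≠ 1 := by
    intro e
    have e' : k = 1 := Subtype.ext e
    rw [e', map_one] at hΦ
    exact hne (canon_inj (ok_canon hok) idTblVal_canon (by rw [idTblVal_spec.2, ← hΦ]; rfl))
  have hinv : (k : G)⁻¹ = k := inv_eq_of_mul_eq_one_right hkk
  have hwc : S.F vS ∈ Cfsg.twoCoreOfCentralizer (S.F recZ.1) := (S.rec_mem hr hvs).2 hvbit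
  set a := S.F recZ.1 with ha
  have haV : a ∈ h.V := S.F_mem _
  set w := S.F vS * (k : G) with hw
  have hwmem : w ∈ Cfsg.twoCoreOfCentralizer a := mul_mem hwc hkc
  have hkv : (k : G) * S.F vS = S.F vS * (k : G) := by
    have := (hm.2 vS hvs).2
    rw [hvfix] at this
    exact mul_inv_eq_iff_eq_mul.1 this
  have hww : w * w = 1 := by
    rw [hw, show S.F vS * (k : G) * (S.F vS * (k : G)) = S.F vS * ((k : G) * S.F vS) * (k : G) by group,
      hkv, show S.F vS * (S.F vS * (k : G)) * (k : G) = S.F vS * S.F vS * ((k : G) * (k : G)) by group,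
      S.F_sq, hkk, one_mul]
  -- conjugating by elements of `V`
  have hUx : ∀ x : ℕ, ev x = true → ∀ u ∈ uList,
      S.F u * (S.F x * (k : G)) * (S.F u)⁻¹ = S.F (x ^^^ (u ^^^ lin (linGens kT) u)) * (k : G) := by
    intro x hx u hu'
    have e := (hm.2 u (List.all_eq_true.1 hu u hu')).2
    have hFu : (S.F u)⁻¹ = S.F u := inv_eq_of_mul_eq_one_right (S.F_sq u)
    rw [S.F_xor, S.F_xor, hFu, ← mul_assoc (S.F u), h.V_comm (S.F_mem u) (S.F_mem x),
      show S.F x * S.F u * (k : G) * S.F u = S.F x * S.F u * ((k : G) * S.F u * (k : G)⁻¹) * (k : G) by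
        group, e, ← mul_assoc]
  -- the elements attached to a group
  have hgrp : ∀ j : ℕ, ∃ kj : G, j < 45 → kj ∈ K ∧ kj ≠ 1 ∧
      (∀ (hj : j < 45) (i : ↥(normalizer (h.V : Set G))), (i : G) ∈ K →
        ((S.Φ i : ↥Cfsg.M24) : Equiv.Perm GolayPt) = mkPerm (imgTab.getD j 0) → (i : G) = kj) ∧
      (∀ σ ∈ conjTab.getD j [], ∃ n : G, n * a * n⁻¹ = a ∧ n * (k : G) * n⁻¹ = kj ∧
        ∀ x, ev x = true → ev (lin (linGens σ) x) = true ∧
          n * S.F x * n⁻¹ = S.F (lin (linGens σ) x)) := by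
    intro j
    by_cases hj : j < 45
    swap
    · exact ⟨1, fun h' => absurd h' hj⟩
    have hjm : imgTab.getD j 0 ∈ imgTab := by
      rw [List.getD_eq_getElem _ _ (by omega)]; exact List.getElem_mem _
    have hjt := List.all_eq_true.1 himg _ hjm
    rw [Bool.and_eq_true] at hjt
    obtain ⟨kj, hkj, hkjΦ⟩ := S.lift_table hjt.2
    refine ⟨kj, fun _ => ⟨hkj, ?_, fun _ i hi e => congrArg Subtype.val
      (S.Φ_inj_K hi hkj (Subtype.ext (e.trans hkjΦ.symm))), ?_⟩⟩
    · intro e1
      have e' : kj = 1 := Subtype.ext e1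
      obtain ⟨hl3, hσall, -⟩ := group_facts hj
      obtain ⟨σ, hσ⟩ := List.exists_mem_of_length_pos (l := conjTab.getD j []) (by rw [hl3]; norm_num)
      obtain ⟨hσ24, hσc, -, -⟩ := hσall σ hσ
      have hσv := validT_of_inM24 hσ24
      have := congrArg mkPerm hσc
      rw [(tblMul_spec hσv hv).2, (tblMul_spec (canonT_validT hjt.1) hσv).2, ← hkjΦ, e', map_one,
        Subgroup.coe_one, one_mul, mul_eq_left] at this
      exact hne (canon_inj (ok_canon hok) idTblVal_canon (this.trans idTblVal_spec.2.symm))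
    · intro σ hσ
      obtain ⟨hσ24, hσc, hσev, hσa⟩ := (group_facts hj).2.1 σ hσ
      have hσv := validT_of_inM24 hσ24
      obtain ⟨n, hn, hnΦ⟩ := S.lift_table hσ24
      have hmn := (S.maps_of_table hσv hnΦ.symm hσev).1
      refine ⟨n, ?_, ?_, hmn.2⟩
      · rw [ha, (hmn.2 _ (isSext_ev (recTest_spec hr).1).1).2, hσa]
      · have e : n * k * n⁻¹ = kj := S.Φ_inj_K (mul_mem (mul_mem hn hk) (inv_mem hn)) hkj
          (Subtype.ext (by
            have := congrArg mkPerm hσc
            rw [(tblMul_spec hσv hv).2, (tblMul_spec (canonT_validT hjt.1) hσv).2] at this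
            rw [map_mul, map_mul, map_inv, Subgroup.coe_mul, Subgroup.coe_mul, Subgroup.coe_inv, hΦ,
              hnΦ, hkjΦ, this, mul_inv_cancel_right]))
        exact congrArg Subtype.val e
  choose kj hkj using hgrp
  have hgv : ∀ j < 45, (∀ x ∈ valsA j, ev x = true ∧ S.F x * kj j ∈ Cfsg.twoCoreOfCentralizer a ∧
        IsConj (k : G) (S.F x * kj j)) ∧
      (∀ x ∈ valsB j, ev x = true ∧ S.F x * kj j ∈ Cfsg.twoCoreOfCentralizer a ∧
        IsConj w (S.F x * kj j)) ∧
      (valsA j).length = 16 ∧ (valsB j).length = 48 ∧ (valsA j ++ valsB j).Nodup := by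
    intro j hj
    obtain ⟨-, -, -, hσn⟩ := hkj j hj
    obtain ⟨h3, -, hgn⟩ := group_facts hj
    have hil' : imList.length = 16 := by simp [imList, uList]
    have hmove : ∀ σ ∈ conjTab.getD j [], ∀ (x0 : ℕ) (p : G), ev x0 = true → p = S.F x0 * (k : G) →
        p ∈ Cfsg.twoCoreOfCentralizer a → ∀ i ∈ imList, ev (lin (linGens σ) (x0 ^^^ i)) = true ∧
          S.F (lin (linGens σ) (x0 ^^^ i)) * kj j ∈ Cfsg.twoCoreOfCentralizer a ∧
          IsConj p (S.F (lin (linGens σ) (x0 ^^^ i)) * kj j) := by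
      intro σ hσ x0 p hx0 hp hpc i hi
      obtain ⟨n, hna, hnk, hnx⟩ := hσn σ hσ
      obtain ⟨u, hu', rfl⟩ := List.mem_map.1 hi
      have hux := List.all_eq_true.1 hu u hu'
      have hxi : ev (x0 ^^^ (u ^^^ lin (linGens kT) u)) = true :=
        ev_xor hx0 (ev_xor hux (hm.2 u hux).1)
      obtain ⟨hev', he'⟩ := hnx _ hxi
      have hua : S.F u * a * (S.F u)⁻¹ = a := by
        rw [h.V_comm (S.F_mem u) haV, mul_inv_cancel_right]
      have e : n * (S.F u * p * (S.F u)⁻¹) * n⁻¹ =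
          S.F (lin (linGens σ) (x0 ^^^ (u ^^^ lin (linGens kT) u))) * kj j := by
        rw [hp, hUx x0 hx0 u hu', ← he', ← hnk]; group
      refine ⟨hev', e ▸ conj_core hna (conj_core hua hpc), ?_⟩
      rw [← e]
      exact isConj_iff.2 ⟨n * S.F u, by group⟩
    refine ⟨fun x hx => ?_, fun x hx => ?_, ?_, ?_, hgn⟩
    · rw [valsA_def] at hx
      obtain ⟨i, hi, rfl⟩ := List.mem_map.1 hx
      have := hmove _ (getD_mem 0 (Nat.lt_of_lt_of_eq (by norm_num : (0 : ℕ) < 3) h3.symm)) 0 (k : G) ev_zero (by rw [S.F_zero, one_mul]) hkc i hi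
      rwa [Nat.zero_xor] at this
    · rw [valsB_def] at hx
      obtain ⟨σ, hσ, hx⟩ := List.mem_flatMap.1 hx
      obtain ⟨i, hi, rfl⟩ := List.mem_map.1 hx
      exact hmove σ hσ vS w hvs rfl hwmem i hi
    · rw [valsA_def, List.length_map, hil']
    · rw [valsB_def, length_flatMap_const (n := 16) _ fun σ _ => by rw [List.length_map, hil'], h3]
  set mk : (ℕ → List ℕ) → List G := fun g =>
    (List.range 45).flatMap fun j => (g j).map fun x => S.F x * kj j with hmk
  have hnodup : ∀ g : ℕ → List ℕ, (∀ j < 45, (g j).Nodup ∧ ∀ x ∈ g j, ev x = true) →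
      (mk g).Nodup := by
    intro g hg
    refine List.nodup_flatMap.2 ⟨fun j hj => ?_, ?_⟩
    · obtain ⟨h1, h2⟩ := hg j (List.mem_range.1 hj)
      exact h1.map_on fun x hx y hy e => S.F_inj (h2 x hx) (h2 y hy) (mul_right_cancel e)
    · refine (List.nodup_range (n := 45)).imp_of_mem fun {i j} hi hj hij => ?_
      rw [List.mem_range] at hi hj
      intro p hp hp'
      obtain ⟨x, hx, rfl⟩ := List.mem_map.1 hp
      obtain ⟨y, hy, e⟩ := List.mem_map.1 hp'
      obtain ⟨-, e2⟩ := S.hK.unique (S.F_mem y) (S.F_mem x) (hkj j hj).1 (hkj i hi).1 e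
      refine hij ?_
      have him : imgTab.getD i 0 ∈ imgTab := by
        rw [List.getD_eq_getElem _ _ (by omega)]; exact List.getElem_mem _
      have hjm : imgTab.getD j 0 ∈ imgTab := by
        rw [List.getD_eq_getElem _ _ (by omega)]; exact List.getElem_mem _
      have hit := List.all_eq_true.1 himg _ him
      have hjt := List.all_eq_true.1 himg _ hjm
      rw [Bool.and_eq_true] at hit hjt
      obtain ⟨li, hli, hliΦ⟩ := S.lift_table hit.2
      obtain ⟨lj, hlj, hljΦ⟩ := S.lift_table hjt.2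
      have e3 : li = lj := Subtype.ext ((((hkj i hi).2.2.1 hi li hli hliΦ).trans e2.symm).trans
        ((hkj j hj).2.2.1 hj lj hlj hljΦ).symm)
      have e4 : imgTab.getD i 0 = imgTab.getD j 0 :=
        canon_inj hit.1 hjt.1 (by rw [← hliΦ, ← hljΦ, e3])
      rw [List.getD_eq_getElem _ _ (by omega), List.getD_eq_getElem _ _ (by omega)] at e4
      exact (hnd.getElem_inj_iff).1 e4
  have hgood : ∀ g : ℕ → List ℕ, ∀ P : G → Prop,
      (∀ j < 45, ∀ x ∈ g j, S.F x * kj j ∈ Cfsg.twoCoreOfCentralizer a ∧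
        (IsConj (k : G) (S.F x * kj j) ∨ IsConj w (S.F x * kj j)) ∧ P (S.F x * kj j)) →
      ∀ p ∈ mk g, (p ∈ Cfsg.twoCoreOfCentralizer a ∧ p * p = 1 ∧ p ≠ 1 ∧ p ≠ a) ∧ P p := by
    intro g P hg p hp
    obtain ⟨j, hj, hp⟩ := List.mem_flatMap.1 hp
    obtain ⟨x, hx, rfl⟩ := List.mem_map.1 hp
    rw [List.mem_range] at hj
    obtain ⟨h1, h2, h3⟩ := hg j hj x hx
    have hne' : ∀ v ∈ h.V, S.F x * kj j ≠ v := fun v hv' e =>
      (hkj j hj).2.1 (S.hK.unique (S.F_mem x) hv' (hkj j hj).1 (one_mem K)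
        (by rw [e, mul_one])).2
    refine ⟨⟨h1, ?_, hne' 1 (one_mem _), hne' a haV⟩, h3⟩
    rcases h2 with e | e <;> obtain ⟨d, hd⟩ := isConj_iff.1 e <;> rw [← hd]
    · rw [show d * (k : G) * d⁻¹ * (d * (k : G) * d⁻¹) = d * ((k : G) * (k : G)) * d⁻¹ by group, hkk]
      group
    · rw [show d * w * d⁻¹ * (d * w * d⁻¹) = d * (w * w) * d⁻¹ by group, hww]; group
  have hlen : ∀ (g : ℕ → List ℕ) (n : ℕ), (∀ j < 45, (g j).length = n) → (mk g).length = 45 * n := by
    intro g n hg
    rw [hmk]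
    beta_reduce
    rw [length_flatMap_const (n := n) _ fun j hj => by
      rw [List.length_map]; exact hg j (List.mem_range.1 hj), List.length_range]
  by_contra hkz
  have hwz : ¬ IsConj c.z w := by
    intro hwz
    have h1 := hgood valsB (fun p => IsConj c.z p) fun j hj x hx => by
      obtain ⟨-, hB, -⟩ := hgv j hj
      exact ⟨(hB x hx).2.1, Or.inr (hB x hx).2.2, hwz.trans (hB x hx).2.2⟩
    have h2 := core_count h S.hF hti S.hE haz (hnodup valsB fun j hj => by
      obtain ⟨-, hB, -, -, hn⟩ := hgv j hj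
      exact ⟨(List.nodup_append.1 hn).2.1, fun x hx => (hB x hx).1⟩) (fun p hp => (h1 p hp).1)
    have h3 := h2.1 fun p hp => (h1 p hp).2
    rw [hlen valsB 48 fun j hj => (hgv j hj).2.2.2.1] at h3
    omega
  have h1 := hgood (fun j => valsA j ++ valsB j) (fun p => ¬ IsConj c.z p) fun j hj x hx => by
    obtain ⟨hA, hB, -⟩ := hgv j hj
    rcases List.mem_append.1 hx with hx | hx
    · exact ⟨(hA x hx).2.1, Or.inl (hA x hx).2.2, fun e => hkz (e.trans (hA x hx).2.2.symm)⟩
    · exact ⟨(hB x hx).2.1, Or.inr (hB x hx).2.2, fun e => hwz (e.trans (hB x hx).2.2.symm)⟩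
  have h2 := core_count h S.hF hti S.hE haz (hnodup (fun j => valsA j ++ valsB j) fun j hj => by
    obtain ⟨hA, hB, -, -, hn⟩ := hgv j hj
    exact ⟨hn, fun x hx => (List.mem_append.1 hx).elim (fun e => (hA x e).1) fun e => (hB x e).1⟩)
    (fun p hp => (h1 p hp).1)
  have h3 := h2.2 fun p hp => (h1 p hp).2
  rw [hlen _ 64 fun j hj => by
    rw [List.length_append, (hgv j hj).2.2.1, (hgv j hj).2.2.2.1]] at h3
  omega

end Setting

end Cfsg.Agent.H38.JFour
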